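import Cfsg.Agent.Lib.McL275.CentChecks
import Mathlib

/-!
An involution of the McLaughlin group, its centraliser and a Sylow 2-subgroup, as groups of packed
permutations.
-/

set_option autoImplicit false
set_option maxRecDepth 100000

namespace Cfsg.Agent.McL275

open PermWide Subgroup

/-- The involution. -/
noncomputable def zPerm : Equiv.Perm (Fin 275) := (exists_rep_word z_checks.1).choose

theorem zPerm_mem : zPerm ∈ grp := (exists_rep_word z_checks.1).choose_spec.1

theorem zPerm_rep : Rep zPerm elZ := (exists_rep_word z_checks.1).choose_spec.2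

theorem zPerm_ne : zPerm ≠ 1 := by
  intro h
  have hid : isId 275 elZ = true := by
    simp only [isId, List.all_eq_true, List.mem_range, beq_iff_eq]
    intro i hi
    have := zPerm_rep ⟨i, hi⟩
    rw [h, Equiv.Perm.one_apply] at this
    exact this.symm
  rw [z_checks.2.1] at hid
  exact Bool.noConfusion hid

theorem zPerm_sq : zPerm * zPerm = 1 :=
  (zPerm_rep.toW.append zPerm_rep.toW).idW_iff.1 z_checks.2.2

/-- The centraliser of the involution, from two generators. -/
def cent : Subgroup (Equiv.Perm (Fin 275)) := genGroup 275 centGens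

/-- A Sylow 2-subgroup, from three involutions. -/
def syl : Subgroup (Equiv.Perm (Fin 275)) := genGroup 275 sylGens

theorem word_facts {gens : List ℕ} {words : List (List (ℕ × ℕ))}
    (h : ((gens.zip words).all fun q => eqW q.2 q.1 && sameW 275 [elZ, q.1] [q.1, elZ]) = true)
    (hlen : words.length = gens.length) :
    ∀ l ∈ gens, ∃ σ ∈ grp ⊓ centralizer {zPerm}, Rep σ l := by
  intro l hl
  obtain ⟨i, hi, rfl⟩ := List.getElem_of_mem hl
  have hmem : (gens[i], words[i]'(hlen ▸ hi)) ∈ gens.zip words :=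
    List.mem_iff_getElem.2 ⟨i, by simp [hlen, hi], by simp⟩
  have h' := List.all_eq_true.1 h _ hmem
  simp only [Bool.and_eq_true] at h'
  obtain ⟨σ, hσ, hr⟩ := exists_rep_word h'.1
  exact ⟨σ, ⟨hσ, mem_centralizer_singleton_iff.2
    (((hr.toW.append zPerm_rep.toW).of_sameW h'.2).unique (zPerm_rep.toW.append hr.toW))⟩, hr⟩

theorem cent_le : cent ≤ grp ⊓ centralizer {zPerm} :=
  genGroup_le (word_facts cent_gens_ok.1 cent_gens_ok.2)

theorem cent_spec : Chain cent centChain ∧ ∀ σ ∈ grp, σ * zPerm = zPerm * σ → σ ∈ cent :=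
  chain_grp.centralizer zPerm_rep (fun _ h => (cent_le h).1)
    (fun _ h => mem_centralizer_singleton_iff.1 (cent_le h).2) cent_levelsOK
    (reps_genGroup cent_slp_ok) cent_exact

theorem mem_cent_iff {σ : Equiv.Perm (Fin 275)} :
    σ ∈ cent ↔ σ ∈ grp ∧ σ * zPerm = zPerm * σ :=
  ⟨fun h => ⟨(cent_le h).1, mem_centralizer_singleton_iff.1 (cent_le h).2⟩,
    fun h => cent_spec.2 σ h.1 h.2⟩

theorem card_cent : Nat.card cent = 40320 := cent_spec.1.card.trans cent_size

theorem zPerm_mem_cent : zPerm ∈ cent := mem_cent_iff.2 ⟨zPerm_mem, rfl⟩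

theorem syl_gen_facts : ∀ l ∈ sylGens, ∃ σ ∈ grp ⊓ centralizer {zPerm},
    Rep σ l ∧ σ ≠ 1 ∧ σ * σ = 1 := by
  obtain ⟨h, hlen⟩ := syl_gens_ok
  have h2 : ((sylGens.zip sylGenWords).all fun q =>
      eqW q.2 q.1 && sameW 275 [elZ, q.1] [q.1, elZ]) = true := by
    simp only [List.all_eq_true, Bool.and_eq_true] at h ⊢
    exact fun q hq => (h q hq).1.1
  intro l hl
  obtain ⟨σ, hσ, hr⟩ := word_facts h2 hlen l hl
  obtain ⟨i, hi, rfl⟩ := List.getElem_of_mem hl
  have hmem : (sylGens[i], sylGenWords[i]'(hlen ▸ hi)) ∈ sylGens.zip sylGenWords :=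
    List.mem_iff_getElem.2 ⟨i, by simp [hlen, hi], List.getElem_zip⟩
  have h' := List.all_eq_true.1 h _ hmem
  simp only [Bool.and_eq_true, Bool.not_eq_eq_eq_not, Bool.not_true] at h'
  refine ⟨σ, hσ, hr, fun h1 => ?_, (hr.toW.append hr.toW).idW_iff.1 h'.2⟩
  subst h1
  have hid : isId 275 sylGens[i] = true := by
    simp only [isId, List.all_eq_true, List.mem_range, beq_iff_eq]
    exact fun k hk => (hr ⟨k, hk⟩).symm
  rw [h'.1.2] at hid
  exact Bool.noConfusion hid

theorem syl_le_cent : syl ≤ cent :=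
  genGroup_le fun l hl => by
    obtain ⟨σ, hσ, hr, -⟩ := syl_gen_facts l hl
    exact ⟨σ, mem_cent_iff.2 ⟨hσ.1, mem_centralizer_singleton_iff.1 hσ.2⟩, hr⟩

theorem syl_reps : ∀ l ∈ sylElts, ∃ σ ∈ syl, Rep σ l := reps_genGroup syl_slp_ok

theorem card_syl : Nat.card syl = 128 := by
  refine le_antisymm ((card_genGroup_le syl_closed.1).trans_eq syl_closed.2) ?_
  have hrep : ∀ i : Fin sylElts.length, ∃ σ : syl, Rep (σ : Equiv.Perm (Fin 275)) sylElts[i.val] :=
    fun i => by
      obtain ⟨σ, hσ, hr⟩ := syl_reps _ (List.getElem_mem i.isLt)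
      exact ⟨⟨σ, hσ⟩, hr⟩
  choose f hf using hrep
  have hinj : Function.Injective f := by
    intro i j hij
    have hi := hf i
    have hj := hf j
    rw [← hij] at hj
    have hs := hi.same hj
    simp only [sameP, List.all_eq_true, List.mem_range, beq_iff_eq] at hs
    refine Fin.ext ((List.Nodup.getElem_inj_iff syl_distinct (i := i.val) (j := j.val)
      (hi := by simp) (hj := by simp)).1 ?_)
    simp only [List.getElem_map, hs 35 (by norm_num), hs 225 (by norm_num), hs 274 (by norm_num),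
      hs 132 (by norm_num), hs 0 (by norm_num)]
  have := Nat.card_le_card_of_injective f hinj
  rwa [Nat.card_fin, syl_closed.2] at this

theorem zPerm_mem_syl : zPerm ∈ syl := by
  obtain ⟨l, hl, hs⟩ := List.any_eq_true.1 syl_z.1
  obtain ⟨σ, hσ, hr⟩ := syl_reps l hl
  rwa [(hr.congr hs).unique zPerm_rep] at hσ

theorem exists_sqrt : ∃ σ ∈ syl, σ * σ = zPerm := by
  obtain ⟨l, hl, hs⟩ := List.any_eq_true.1 syl_z.2.1
  obtain ⟨σ, hσ, hr⟩ := syl_reps l hl
  have hr' := hr.congr hs
  exact ⟨σ, hσ, ((hr'.toW.append hr'.toW).of_sameW syl_z.2.2).unique zPerm_rep.toW⟩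

theorem conj_of_involution {σ : Equiv.Perm (Fin 275)} (hσ : σ ∈ syl) (h1 : σ ≠ 1)
    (h2 : σ * σ = 1) : ∃ c ∈ grp, c * σ = zPerm * c := by
  obtain ⟨l, hl, hr⟩ := genGroup_mem_list syl_closed.1 σ hσ
  have h := List.all_eq_true.1 syl_conj l hl
  simp only [Bool.or_eq_true, Bool.not_eq_eq_eq_not, Bool.not_true, List.any_eq_true,
    Bool.and_eq_true] at h
  rcases h with (h | h) | ⟨w, -, hw, hsame⟩
  · exact absurd (hr.eq_one h) h1
  · rw [show idW 275 [l, l] = true from (hr.toW.append hr.toW).idW_iff.2 h2] at h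
    exact Bool.noConfusion h
  · obtain ⟨c, hc, hcr⟩ := exists_word hw
    exact ⟨c, hc, ((hcr.append hr.toW).of_sameW hsame).unique (zPerm_rep.toW.append hcr)⟩

theorem center_syl {σ : Equiv.Perm (Fin 275)} (hσ : σ ∈ syl)
    (h : ∀ s ∈ syl, σ * s = s * σ) : σ = 1 ∨ σ = zPerm := by
  obtain ⟨l, hl, hr⟩ := genGroup_mem_list syl_closed.1 σ hσ
  have h' := List.all_eq_true.1 syl_center l hl
  simp only [Bool.or_eq_true] at h'
  rcases h' with (h' | h') | h'
  · exact Or.inl (hr.eq_one h')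
  · exact Or.inr ((hr.congr h').unique zPerm_rep)
  · exfalso
    have hall : (sylGens.all fun g => sameW 275 [g, l] [l, g]) = true := by
      rw [List.all_eq_true]
      intro g hg
      obtain ⟨τ, -, hτ, -⟩ := syl_gen_facts g hg
      have hc := h τ (subset_closure ⟨g, hg, hτ⟩)
      have hA : RepW (σ * τ) [g, l] := hr.toW.append hτ.toW
      have hB : RepW (σ * τ) [l, g] := hc ▸ hτ.toW.append hr.toW
      simp only [sameW, List.all_eq_true, List.mem_range, beq_iff_eq]
      exact fun i hi => (hA ⟨i, hi⟩).symm.trans (hB ⟨i, hi⟩)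
    rw [hall] at h'
    simp at h'

/-- The involution in the group. -/
noncomputable def zEl : grp := ⟨zPerm, zPerm_mem⟩

theorem orderOf_zEl : orderOf zEl = 2 := by
  have : Fact (Nat.Prime 2) := ⟨Nat.prime_two⟩
  refine orderOf_eq_prime (Subtype.ext ?_) fun h => zPerm_ne (congrArg Subtype.val h)
  simpa [sq, zEl] using zPerm_sq

/-- The Sylow subgroup. -/
noncomputable def sylow2 : Sylow 2 grp :=
  IsPGroup.toSylow (P := syl.subgroupOf grp)
    (IsPGroup.of_card (n := 7) (by
      rw [Nat.card_congr (Subgroup.subgroupOfEquivOfLe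
        (fun _ h => (cent_le (syl_le_cent h)).1)).toEquiv, card_syl]
      norm_num))
    (by
      have h := (syl.subgroupOf grp).card_mul_index
      rw [Nat.card_congr (Subgroup.subgroupOfEquivOfLe
        (fun _ h => (cent_le (syl_le_cent h)).1)).toEquiv, card_syl, card_grp] at h
      omega)

theorem mem_sylow2 {x : grp} :
    x ∈ (sylow2 : Subgroup grp) ↔ (x : Equiv.Perm (Fin 275)) ∈ syl := Iff.rfl

theorem isConj_zEl {x : grp} (hx : orderOf x = 2) : IsConj x zEl := by
  have : Fact (Nat.Prime 2) := ⟨Nat.prime_two⟩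
  obtain ⟨P, hP⟩ := (IsPGroup.of_card (n := 1) (G := zpowers x)
    (by rw [Nat.card_zpowers, hx]; norm_num) : IsPGroup 2 (zpowers x)).exists_le_sylow
  obtain ⟨g, hg⟩ := MulAction.exists_smul_eq grp P sylow2
  have hy : g * x * g⁻¹ ∈ (sylow2 : Subgroup grp) := by
    rw [← hg, Sylow.coe_subgroup_smul]
    exact ⟨x, hP (mem_zpowers x), rfl⟩
  have hne : x ≠ 1 := fun h => by simp [h] at hx
  have hsq : x * x = 1 := by rw [← sq, ← hx]; exact pow_orderOf_eq_one x
  obtain ⟨c, hc, hcy⟩ := conj_of_involution (mem_sylow2.1 hy)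
    (fun h => hne (conj_eq_one_iff.1 (Subtype.ext h)))
    (congrArg Subtype.val (show (g * x * g⁻¹) * (g * x * g⁻¹) = 1 by
      rw [show g * x * g⁻¹ * (g * x * g⁻¹) = g * (x * x) * g⁻¹ by group, hsq, mul_one,
        mul_inv_cancel]))
  refine (isConj_iff.2 ⟨g, rfl⟩).trans (isConj_iff.2 ⟨⟨c, hc⟩, ?_⟩)
  rw [mul_inv_eq_iff_eq_mul]
  exact Subtype.ext hcy

end Cfsg.Agent.McL275
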