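import Cfsg.Agent.Lib.PermWide.Basic

/-!
Certificate data: the fixed points of the involution labelled by the bisections of eight letters.
-/

set_option autoImplicit false
set_option maxRecDepth 100000

namespace Cfsg.Agent.McL275

/-- The fixed points. -/
def fixList : List ℕ := [1, 14, 15, 16, 18, 21, 23, 35, 36, 71, 86, 89, 91, 93, 97, 102, 107, 116, 122, 130, 131, 132, 139, 144, 157, 166, 174, 176, 177, 225, 230, 240, 245, 256, 274]

/-- Their labels. -/
def bisList : List ℕ := [15, 51, 85, 165, 195, 105, 29, 139, 27, 75, 43, 197, 53, 225, 23, 83, 45, 163, 77, 135, 153, 57, 147, 177, 39, 99, 209, 149, 141, 101, 89, 201, 113, 169, 71]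

/-- Images of the centraliser generators on eight letters. -/
def centImages : List ℕ := [
  0x100c0001030100a07,
  0x10000a03038100206]

/-- A chain for the symmetric group on eight letters. -/
def symChain : List PermWide.Level := [
  (0, [0x38180a04018080200, 0x38180a04018080001, 0x38180a04018000202, 0x38180a04000080203, 0x38180a00018080204, 0x38180004018080205, 0x38000a04018080206, 0x180a04018080207]),
  (1, [0x38180a04018080200, 0x38180a04018040400, 0x38180a04008080600, 0x38180a01018080800, 0x38180204018080a00, 0x38040a04018080c00, 0x8180a04018080e00]),
  (2, [0x38180a04018080200, 0x38180a040100c0200, 0x38180a02018100200, 0x38180404018140200, 0x38080a04018180200, 0x10180a040181c0200]),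
  (3, [0x38180a04018080200, 0x38180a03020080200, 0x38180604028080200, 0x380c0a04030080200, 0x18180a04038080200]),
  (4, [0x38180a04018080200, 0x38180805018080200, 0x38100a06018080200, 0x20180a07018080200]),
  (5, [0x38180a04018080200, 0x38140c04018080200, 0x28180e04018080200]),
  (6, [0x38180a04018080200, 0x301c0a04018080200]),
  (7, [0x38180a04018080200])]


end Cfsg.Agent.McL275
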