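import Cfsg.Agent.Lib.McL275.ModelData
import Cfsg.Agent.Lib.McL275.ChainData
import Cfsg.Agent.Lib.Leech.McLGroup
import Cfsg.Prelude.Def_Spor_Conway

/-!
The McLaughlin group as a group of packed permutations of 275 indices, with a checked chain of
representatives.
-/

set_option autoImplicit false
set_option maxRecDepth 100000

namespace Cfsg.Agent.McL275

open Cfsg PermWide MulAction

/-- The group on 275 indices generated by the two chosen permutations. -/
def grp : Subgroup (Equiv.Perm (Fin 275)) := genGroup 275 [genX, genT]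

/-- The 275 packed vectors. -/
def vecs : List ℕ :=
  Leech.Orb.mclPointsSeed :: Leech.Orb.mclPointsSteps.map Leech.stepVec

theorem vecs_length : vecs.length = 275 := by decide +kernel

theorem edges_ok :
    ((List.range 3).all fun i => (List.range 275).all fun k =>
      decide (app (modelGens.getD i 0) k < 275) &&
        Leech.edgeOK (Leech.Orb.mclPointsGens.getD i []) (vecs.getD k 0)
          (vecs.getD (app (modelGens.getD i 0) k) 0)) = true := by decide +kernel

theorem model_slp_ok : fromGens 275 modelGens modelSlp [genX, genT] = true := by decide +kernel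

theorem chain_slp_ok : fromGens 275 [genX, genT] chainSlp (allReps chain) = true := by decide +kernel

theorem chain_levelsOK : levelsOK 275 [] chain = true := by decide +kernel

theorem chain_size : size chain = 898128000 := by decide +kernel

theorem chain_reps : ∀ t ∈ allReps chain, ∃ σ ∈ grp, Rep σ t := reps_genGroup chain_slp_ok

theorem exists_point (k : Fin 275) :
    ∃ x : Leech.MclPoint, ((x : leechLattice) : GolayPt → ℤ) = Leech.dec (vecs.getD k.val 0) := by
  have h := Leech.Orb.mclPoints_ok
  simp only [Leech.orbitOK, Bool.and_eq_true, List.all_eq_true, beq_iff_eq, decide_eq_true_eq] at h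
  obtain ⟨⟨⟨⟨hgens, htree⟩, -⟩, -⟩, -⟩ := h
  obtain ⟨-, -, -, hF⟩ := Leech.mclF
  have hg : ∀ a ∈ Leech.Orb.mclPointsGens, ∃ c : Co0,
      Leech.FixesAll Leech.Orb.mclPointsF c ∧ ∀ X Y : ℕ, Leech.edgeOK a X Y = true →
        ∀ v : leechLattice, (v : GolayPt → ℤ) = Leech.dec X →
          ((c • v : leechLattice) : GolayPt → ℤ) = Leech.dec Y := by
    intro a ha
    obtain ⟨c, hc⟩ := Leech.exists_gen (hgens a ha).1
    exact ⟨c, fun Z hZ v hv => Subtype.ext (by
        rw [hc Z v hv, Leech.edgeOK_spec ((hgens a ha).2 Z hZ), hv]),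
      fun X Y he v hv => by rw [hc X v hv, Leech.edgeOK_spec he]⟩
  have hmem : vecs.getD k.val 0 ∈ vecs := by
    rw [List.getD_eq_getElem _ _ (by rw [vecs_length]; exact k.isLt)]; exact List.getElem_mem _
  have h0 : ∃ c : Co0, Leech.FixesAll Leech.Orb.mclPointsF c ∧
      ((c • Leech.baseX : leechLattice) : GolayPt → ℤ) = Leech.dec Leech.Orb.mclPointsSeed :=
    ⟨1, Leech.fixesAll_one _, by rw [one_smul, hF]⟩
  have hall : ∀ Y ∈ vecs, ∃ c : Co0, Leech.FixesAll Leech.Orb.mclPointsF c ∧
      ((c • Leech.baseX : leechLattice) : GolayPt → ℤ) = Leech.dec Y := by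
    intro Y hY
    rcases List.mem_cons.1 hY with rfl | hY
    · exact h0
    obtain ⟨s, hs, rfl⟩ := List.mem_map.1 hY
    exact Leech.vecTreeOK_spec hg Leech.baseX _ [Leech.Orb.mclPointsSeed]
      (fun Z hZ => by rw [List.mem_singleton.1 hZ]; exact h0) htree s hs
  obtain ⟨c, hc, hcv⟩ := hall _ hmem
  obtain ⟨f1, f2⟩ := Leech.fix_mcl hc
  exact ⟨⟨c • Leech.baseX, by
    have := (Leech.decompAt_smul (g := c)).2 Leech.baseX_mem
    rwa [f1, f2] at this⟩, hcv⟩

/-- The point with a given index. -/
noncomputable def point (k : Fin 275) : Leech.MclPoint := (exists_point k).choose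

theorem point_val (k : Fin 275) :
    ((point k : leechLattice) : GolayPt → ℤ) = Leech.dec (vecs.getD k.val 0) :=
  (exists_point k).choose_spec

theorem point_bijective : Function.Bijective point := by
  have h := Leech.Orb.mclPoints_ok
  simp only [Leech.orbitOK, Bool.and_eq_true, List.all_eq_true, decide_eq_true_eq] at h
  obtain ⟨⟨-, hlt⟩, hins⟩ := h
  have hnd : vecs.Nodup := (Mathieu.insAllOK_spec _ _ _ hins).1
  refine (Nat.bijective_iff_injective_and_card point).2 ⟨fun k k' hk => ?_, ?_⟩
  · have h1 : k.val < vecs.length := by rw [vecs_length]; exact k.isLt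
    have h2 : k'.val < vecs.length := by rw [vecs_length]; exact k'.isLt
    have e := congrArg (fun x : Leech.MclPoint => ((x : leechLattice) : GolayPt → ℤ)) hk
    simp only [point_val] at e
    rw [List.getD_eq_getElem _ _ h1, List.getD_eq_getElem _ _ h2] at e
    exact Fin.ext (hnd.getElem_inj_iff.1 (Leech.dec_injective (hlt _ (List.getElem_mem h1))
      (hlt _ (List.getElem_mem h2)) e))
  · rw [Nat.card_fin, Leech.card_MclPoint]

/-- The indices of the points. -/
noncomputable def pointEquiv : Fin 275 ≃ Leech.MclPoint := Equiv.ofBijective point point_bijective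

/-- The action on the indices. -/
noncomputable def permHom275 : Leech.mclGrp →* Equiv.Perm (Fin 275) :=
  pointEquiv.symm.permCongrHom.toMonoidHom.comp (toPermHom Leech.mclGrp Leech.MclPoint)

theorem point_permHom275 (g : Leech.mclGrp) (k : Fin 275) :
    point (permHom275 g k) = g • point k := by
  show pointEquiv (pointEquiv.symm (g • pointEquiv k)) = g • pointEquiv k
  rw [Equiv.apply_symm_apply]

theorem modelGens_mem : ∀ l ∈ modelGens, ∃ σ ∈ permHom275.range, Rep σ l := by
  intro l hl
  obtain ⟨i, hi, rfl⟩ := List.getElem_of_mem hl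
  have hi3 : i < 3 := by simpa [show modelGens.length = 3 from rfl] using hi
  have hrow := List.all_eq_true.1 edges_ok i (List.mem_range.2 hi3)
  rw [List.getD_eq_getElem _ _ hi] at hrow
  simp only [List.all_eq_true, List.mem_range, Bool.and_eq_true, decide_eq_true_eq] at hrow
  have h := Leech.Orb.mclPoints_ok
  simp only [Leech.orbitOK, Bool.and_eq_true, List.all_eq_true] at h
  obtain ⟨⟨⟨⟨hgens, -⟩, -⟩, -⟩, -⟩ := h
  have hlen : i < Leech.Orb.mclPointsGens.length := by
    simpa [show Leech.Orb.mclPointsGens.length = 3 from rfl] using hi3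
  have ha : Leech.Orb.mclPointsGens.getD i [] ∈ Leech.Orb.mclPointsGens := by
    rw [List.getD_eq_getElem _ _ hlen]; exact List.getElem_mem _
  obtain ⟨c, hc⟩ := Leech.exists_gen (hgens _ ha).1
  have hfix : Leech.FixesAll Leech.Orb.mclPointsF c := fun Z hZ v hv => Subtype.ext (by
    rw [hc Z v hv, Leech.edgeOK_spec ((hgens _ ha).2 Z hZ), hv])
  obtain ⟨f1, f2⟩ := Leech.fix_mcl hfix
  let g : Leech.mclGrp := ⟨c, mem_stabilizer_iff.2 f1, mem_stabilizer_iff.2 f2⟩
  refine ⟨permHom275 g, ⟨g, rfl⟩, fun k => ?_⟩
  obtain ⟨hlt, hedge⟩ := hrow k.val k.isLt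
  have : permHom275 g k = ⟨app modelGens[i] k.val, hlt⟩ := by
    refine point_bijective.1 (Subtype.ext (Subtype.ext ?_))
    rw [point_permHom275, Leech.mcl_smul_val, hc _ _ (point_val k), Leech.edgeOK_spec hedge,
      point_val]
    rfl
  exact congrArg Fin.val this

theorem grp_le_range : grp ≤ permHom275.range := by
  have hgen : genGroup 275 modelGens ≤ permHom275.range := genGroup_le modelGens_mem
  exact genGroup_le fun l hl => (reps_genGroup model_slp_ok l hl).imp fun σ h => ⟨hgen h.1, h.2⟩

theorem card_grp : Nat.card grp = 898128000 := by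
  refine le_antisymm ?_ (chain_size ▸ size_le_card chain_levelsOK chain_reps)
  rw [← Leech.card_mclGrp]
  exact (Nat.card_le_card_of_injective _ (Subgroup.inclusion_injective grp_le_range)).trans
    (Nat.card_le_card_of_surjective permHom275.rangeRestrict permHom275.rangeRestrict_surjective)

theorem chain_grp : Chain grp chain :=
  Chain.of_card_le chain_levelsOK chain_reps (by rw [card_grp, chain_size])

theorem permHom275_bij : Function.Injective permHom275 ∧ permHom275.range = grp := by
  have h1 : Nat.card permHom275.range ≤ 898128000 := by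
    rw [← Leech.card_mclGrp]
    exact Nat.card_le_card_of_surjective permHom275.rangeRestrict
      permHom275.rangeRestrict_surjective
  have heq : grp = permHom275.range :=
    Subgroup.eq_of_le_of_card_ge grp_le_range (by rw [card_grp]; exact h1)
  refine ⟨?_, heq.symm⟩
  have hb := (Nat.bijective_iff_surjective_and_card permHom275.rangeRestrict).2
    ⟨permHom275.rangeRestrict_surjective, by rw [Leech.card_mclGrp, ← heq, card_grp]⟩
  exact fun a b h => hb.1 (Subtype.ext h)

/-- The two-vector stabiliser inside `Co0` as the subgroup of lattice permutations. -/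
def mclEquiv : Spor.McL ≃* Leech.mclGrp where
  toFun g := ⟨⟨g.1, g.2.1.1⟩, mem_stabilizer_iff.2 g.2.1.2, mem_stabilizer_iff.2 (by
    show (⟨g.1, g.2.1.1⟩ : Co0) • (-Spor.leechU) = -Spor.leechU
    rw [Leech.co0_neg]
    exact congrArg Neg.neg (g.2.2 : g.1 Spor.leechU = Spor.leechU))⟩
  invFun g := ⟨(g : Co0).1, ⟨(g : Co0).2, g.2.1⟩, by
    have h : (g : Co0) • (-Spor.leechU) = -Spor.leechU := g.2.2
    rw [Leech.co0_neg] at h
    exact neg_injective h⟩
  left_inv _ := rfl
  right_inv _ := rfl
  map_mul' _ _ := rfl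

theorem mcl_equiv_grp : Nonempty (Spor.McL ≃* grp) :=
  ⟨(mclEquiv.trans (MonoidHom.ofInjective permHom275_bij.1)).trans
    (MulEquiv.subgroupCongr permHom275_bij.2)⟩

end Cfsg.Agent.McL275
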