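import Cfsg.Agent.Lib.McL275.OuterData
import Cfsg.Agent.Lib.McL275.Model
import Cfsg.Agent.Lib.PermWide.Rigid

/-!
The outer automorphism group of the McLaughlin group has order two.
-/

set_option autoImplicit false
set_option maxRecDepth 100000

namespace Cfsg.Agent.McL275

open Cfsg PermWide
open scoped Pointwise

/-- A representative by level and position. -/
def repAt (p : ℕ × ℕ) : ℕ := (chain.getD p.1 (0, [])).2.getD p.2 0

/-- The word of representatives. -/
def repWord (w : List (ℕ × ℕ)) : List ℕ := w.map repAt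

/-- The positions of a word exist. -/
def wordOK (w : List (ℕ × ℕ)) : Bool :=
  w.all fun p => decide (p.1 < chain.length) && decide (p.2 < (chain.getD p.1 (0, [])).2.length)

theorem exists_word {w : List (ℕ × ℕ)} (h : wordOK w = true) :
    ∃ σ ∈ grp, RepW σ (repWord w) := by
  refine exists_repW fun t ht => ?_
  obtain ⟨p, hp, rfl⟩ := List.mem_map.1 ht
  simp only [wordOK, List.all_eq_true, Bool.and_eq_true, decide_eq_true_eq] at h
  obtain ⟨h1, h2⟩ := h p hp
  refine chain_reps _ (List.mem_flatMap.2 ⟨chain.getD p.1 (0, []), ?_, ?_⟩)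
  · rw [List.getD_eq_getElem _ _ h1]; exact List.getElem_mem _
  · rw [repAt, List.getD_eq_getElem _ _ h2]; exact List.getElem_mem _

/-- The same images of a word and a packed permutation. -/
def eqW (w : List (ℕ × ℕ)) (l : ℕ) : Bool :=
  wordOK w && (List.range 275).all fun i => appW (repWord w) i == app l i

theorem exists_rep_word {w : List (ℕ × ℕ)} {l : ℕ} (h : eqW w l = true) :
    ∃ σ ∈ grp, Rep σ l := by
  simp only [eqW, Bool.and_eq_true, List.all_eq_true, List.mem_range, beq_iff_eq] at h
  obtain ⟨σ, hσ, hr⟩ := exists_word h.1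
  exact ⟨σ, hσ, fun a => (hr a).trans (h.2 _ a.isLt)⟩

/-- The expanded allowed images. -/
def allowedW : List (ℕ × List ℕ) := allowed.map fun q => (q.1, repWord q.2)

theorem gen_perm : permOK 275 genX = true ∧ permOK 275 genT = true := by decide +kernel

theorem elY_word : eqW wordY elY = true ∧ eqW wordXc elXc = true ∧ wordOK wordH = true := by
  decide +kernel

theorem xc_conj :
    sameW 275 ([elXc] ++ repWord wordH) (repWord wordH ++ [genX]) = true := by decide +kernel

theorem order_checks :
    idW 275 (powW [genX] 11) = true ∧ idW 275 [genX] = false ∧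
    sameW 275 ([genX] ++ [elY]) ([elY] ++ powW [genX] 3) = true ∧
    sameW 275 ([elY] ++ [genT]) ([genT] ++ [elYj]) = true ∧
    sameW 275 (powW [elY] 2) [elYj] = true := by decide +kernel

theorem expOK_mcl : Mathieu.expOK 11 3 4 [1, 2] = true := by decide +kernel

theorem cent_xc : ((searchW 275 elXc elXc chain [] []).all fun w =>
    (List.range 11).any fun k => sameW 275 w (powW [elXc] k)) = true := by decide +kernel

theorem img_ok : imgOK 275 genX genT [1, 2] allowedW relations
    (searchW 275 elY elYj chain [] []) = true := by decide +kernel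

theorem delta_checks : permOK 275 delta = true ∧ notInOK 275 chain delta = true ∧
    wordOK wordDX = true ∧ wordOK wordDT = true ∧
    sameW 275 ([genX] ++ [delta]) ([delta] ++ repWord wordDX) = true ∧
    sameW 275 ([genT] ++ [delta]) ([delta] ++ repWord wordDT) = true := by decide +kernel

theorem fix_checks :
    ((List.range 275).all fun a => a == 35 || ((chain.tail.flatMap fun p => p.2).any fun t =>
      !(app t a == a))) = true ∧
    ((List.range 275).all fun a => (allReps (chain.take 1)).any fun t => app t 35 == a) = true := by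
  decide +kernel

theorem chain_shape : chain.head?.map (·.1) = some 35 := by decide +kernel

theorem card_out_grp : Nat.card (Cfsg.Out grp) = 2 := by
  obtain ⟨σx, hσx, hx⟩ : ∃ σ ∈ grp, Rep σ genX :=
    (exists_rep gen_perm.1).imp fun σ h => ⟨Subgroup.subset_closure ⟨_, by simp, h⟩, h⟩
  obtain ⟨σt, hσt, ht⟩ : ∃ σ ∈ grp, Rep σ genT :=
    (exists_rep gen_perm.2).imp fun σ h => ⟨Subgroup.subset_closure ⟨_, by simp, h⟩, h⟩
  obtain ⟨σy, hσy, hy⟩ := exists_rep_word elY_word.1
  obtain ⟨σc, hσc, hc⟩ := exists_rep_word elY_word.2.1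
  obtain ⟨σh, hσh, hh⟩ := exists_word elY_word.2.2
  obtain ⟨hxp, hx1, hyx, hty, hyj⟩ := order_checks
  let X : grp := ⟨σx, hσx⟩
  let Y : grp := ⟨σy, hσy⟩
  let T : grp := ⟨σt, hσt⟩
  let C : grp := ⟨σc, hσc⟩
  let H : grp := ⟨σh, hσh⟩
  have : Fact (Nat.Prime 11) := ⟨by norm_num⟩
  have hyjR : Rep (σy ^ 2) elYj := fun a => (hy.toW.pow 2).of_sameW hyj a
  have hord : orderOf X = 11 := by
    refine orderOf_eq_prime (Subtype.ext ((hx.toW.pow 11).idW_iff.1 hxp)) fun h => ?_
    rw [hx.toW.idW_iff.2 (congrArg Subtype.val h)] at hx1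
    exact Bool.noConfusion hx1
  have hHX : H * C = X * H := Subtype.ext <|
    ((hh.append hc.toW).of_sameW xc_conj).unique (hx.toW.append hh)
  have hXeq : X = H * C * H⁻¹ := by rw [hHX, mul_inv_cancel_right]
  have hC : ∀ g : grp, g * X = X * g → ∃ k, k < 11 ∧ g = X ^ k := by
    intro g hg
    have hg' : (H⁻¹ * g * H) * C = C * (H⁻¹ * g * H) := by
      rw [hXeq] at hg
      calc (H⁻¹ * g * H) * C = H⁻¹ * (g * (H * C * H⁻¹)) * H := by group
        _ = C * (H⁻¹ * g * H) := by rw [hg]; group
    obtain ⟨w, hw, hwr⟩ := chain_grp.exists_solution hc hc (H⁻¹ * g * H).2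
      (congrArg Subtype.val hg')
    have hall := List.all_eq_true.1 cent_xc w hw
    simp only [List.any_eq_true, List.mem_range] at hall
    obtain ⟨k, hk, hsame⟩ := hall
    refine ⟨k, hk, ?_⟩
    have hCk : H⁻¹ * g * H = C ^ k := Subtype.ext ((hwr.of_sameW hsame).unique (hc.toW.pow k))
    rw [hXeq, conj_pow, ← hCk]
    group
  have hact : Y * X * Y⁻¹ = X ^ 3 := by
    rw [mul_inv_eq_iff_eq_mul]
    exact Subtype.ext (((hy.toW.append hx.toW).of_sameW hyx).unique ((hx.toW.pow 3).append hy.toW))
  have hty' : T * Y = Y ^ 2 * T :=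
    Subtype.ext (((ht.toW.append hy.toW).of_sameW hty).unique (hyjR.toW.append ht.toW))
  have hdense : Subgroup.closure ({X, T} : Set grp) = ⊤ := by
    have hle : grp ≤ (Subgroup.closure ({X, T} : Set grp)).map grp.subtype := by
      refine genGroup_le fun l hl => ?_
      simp only [List.mem_cons, List.not_mem_nil, or_false] at hl
      rcases hl with rfl | rfl
      · exact ⟨σx, ⟨X, Subgroup.subset_closure (by simp), rfl⟩, hx⟩
      · exact ⟨σt, ⟨T, Subgroup.subset_closure (by simp), rfl⟩, ht⟩
    rw [eq_top_iff]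
    intro z _
    obtain ⟨z', hz', h⟩ := hle z.2
    rwa [← Subtype.ext h]
  obtain ⟨hfin, hle⟩ := PermWide.outer_finite_card_le chain_grp (R := [1, 2]) (allowed := allowedW)
    (rels := relations) (by norm_num : Nat.Prime 11) expOK_mcl
    (by rw [card_grp]; norm_num) (X := X) (Y := Y) (T := T) hx hy ht hord hC hact hty' hyjR hdense
    img_ok
  rw [show allowedW.length = 2 from rfl] at hle
  -- the outer element
  obtain ⟨hdp, hdn, hwx, hwt, hdx, hdt⟩ := delta_checks
  obtain ⟨δ, hδ⟩ := exists_rep hdp
  obtain ⟨σdx, hσdx, hrdx⟩ := exists_word hwx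
  obtain ⟨σdt, hσdt, hrdt⟩ := exists_word hwt
  have hδnot : δ ∉ grp := fun h =>
    notInOK_spec hδ chain [] chain_levelsOK hdn (chain_grp.all δ h)
  have ex : δ * σx * δ⁻¹ = σdx := by
    rw [mul_inv_eq_iff_eq_mul]
    exact ((hδ.toW.append hx.toW).of_sameW hdx).unique (hrdx.append hδ.toW)
  have et : δ * σt * δ⁻¹ = σdt := by
    rw [mul_inv_eq_iff_eq_mul]
    exact ((hδ.toW.append ht.toW).of_sameW hdt).unique (hrdt.append hδ.toW)
  have hnorm : grp.map (MulAut.conj δ).toMonoidHom = grp := by
    refine Subgroup.eq_of_le_of_card_ge ?_ ?_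
    · rw [Subgroup.map_le_iff_le_comap]
      refine genGroup_le fun l hl => ?_
      simp only [List.mem_cons, List.not_mem_nil, or_false] at hl
      rcases hl with rfl | rfl
      · exact ⟨σx, Subgroup.mem_comap.2 (by
          rw [MulEquiv.coe_toMonoidHom, MulAut.conj_apply, ex]; exact hσdx), hx⟩
      · exact ⟨σt, Subgroup.mem_comap.2 (by
          rw [MulEquiv.coe_toMonoidHom, MulAut.conj_apply, et]; exact hσdt), ht⟩
    · rw [Subgroup.card_map_of_injective (MulAut.conj δ).injective]
  let D : MulAut grp := ((MulAut.conj δ).subgroupMap grp).trans (MulEquiv.subgroupCongr hnorm)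
  have hD : ∀ z : grp, ((D z : grp) : Equiv.Perm (Fin 275)) = δ * z * δ⁻¹ := fun _ => rfl
  have hne : (D : Cfsg.Out grp) ≠ 1 := by
    intro h
    obtain ⟨g, hg⟩ := (QuotientGroup.eq_one_iff D).1 h
    obtain ⟨hf1, hf2⟩ := fix_checks
    have hb : 35 < 275 := by norm_num
    have heq : (g : Equiv.Perm (Fin 275)) = δ := by
      refine eq_of_conj_eq (G := grp) (b := (⟨35, hb⟩ : Fin 275)) (fun a => ?_) (fun a ha => ?_) ?_
      · obtain ⟨t, ht', hta⟩ := List.any_eq_true.1
          (List.all_eq_true.1 hf2 a.val (List.mem_range.2 a.isLt))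
        obtain ⟨τ, hτ, hr⟩ := chain_reps t (by
          obtain ⟨p, hp, hpt⟩ := List.mem_flatMap.1 ht'
          exact List.mem_flatMap.2 ⟨p, List.mem_of_mem_take hp, hpt⟩)
        exact ⟨τ, hτ, Fin.ext ((hr _).trans (beq_iff_eq.1 hta))⟩
      · have hrow := List.all_eq_true.1 hf1 a.val (List.mem_range.2 a.isLt)
        simp only [Bool.or_eq_true, beq_iff_eq] at hrow
        rcases hrow with hrow | hrow
        · exact absurd (Fin.ext hrow) ha
        obtain ⟨t, ht', hta⟩ := List.any_eq_true.1 hrow
        obtain ⟨τ, hτ, hr⟩ := chain_reps t (by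
          obtain ⟨p, hp, hpt⟩ := List.mem_flatMap.1 ht'
          exact List.mem_flatMap.2 ⟨p, List.mem_of_mem_tail hp, hpt⟩)
        refine ⟨τ, hτ, Fin.ext ((hr _).trans ?_), fun h => ?_⟩
        · have hl : ∀ L : List Level, levelsOK 275 [] L = true → L.head?.map (·.1) = some 35 →
              ∀ s ∈ L.tail.flatMap (fun p => p.2), app s 35 = 35 := by
            intro L hL hhd s hs
            cases L with
            | nil => simp at hhd
            | cons p rest =>
              obtain ⟨b, ts⟩ := p
              simp only [List.head?_cons, Option.map_some, Option.some.injEq] at hhd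
              subst hhd
              simp only [levelsOK, Bool.and_eq_true] at hL
              obtain ⟨q, hq, hqs⟩ := List.mem_flatMap.1 hs
              have key : ∀ (R : List Level) (fixed : List ℕ), levelsOK 275 fixed R = true →
                  ∀ i ∈ fixed, ∀ q ∈ R, ∀ s ∈ q.2, app s i = i := by
                intro R
                induction R with
                | nil => exact fun _ _ _ _ q hq => absurd hq (List.not_mem_nil)
                | cons p R ih =>
                  obtain ⟨b', ts'⟩ := p
                  intro fixed hR i hi q hq s hs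
                  simp only [levelsOK, Bool.and_eq_true, List.all_eq_true, beq_iff_eq] at hR
                  rcases List.mem_cons.1 hq with rfl | hq
                  · exact (hR.1.2 s hs).1 i hi
                  · exact ih _ hR.2 i (List.mem_cons_of_mem _ hi) q hq s hs
              exact key rest [35] hL.2 35 List.mem_cons_self q hq s hqs
          exact hl chain chain_levelsOK chain_shape t ht'
        · have := congrArg Fin.val h
          rw [hr a] at this
          simp [this] at hta
      · intro σ hσ
        have : ((D ⟨σ, hσ⟩ : grp) : Equiv.Perm (Fin 275)) = δ * σ * δ⁻¹ := hD _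
        rw [← this, ← hg]
        rfl
    exact hδnot (heq ▸ g.2)
  have : Nontrivial (Cfsg.Out grp) := ⟨_, _, hne⟩
  have := Finite.one_lt_card (α := Cfsg.Out grp)
  omega

end Cfsg.Agent.McL275
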