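import Cfsg.Agent.Lib.McL275.CentData
import Cfsg.Agent.Lib.McL275.EightData
import Cfsg.Agent.Lib.McL275.Outer

/-!
The kernel checks on the certificates for an involution of the McLaughlin group, its centraliser and
a Sylow 2-subgroup.
-/

set_option autoImplicit false
set_option maxRecDepth 100000

namespace Cfsg.Agent.McL275

open PermWide

theorem z_checks : eqW wordZ elZ = true ∧ isId 275 elZ = false ∧ idW 275 [elZ, elZ] = true := by
  decide +kernel

theorem cent_gens_ok : ((centGens.zip centGenWords).all fun q =>
    eqW q.2 q.1 && sameW 275 [elZ, q.1] [q.1, elZ]) = true ∧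
    centGenWords.length = centGens.length := by decide +kernel

theorem cent_slp_ok : fromGens 275 centGens centSlp (allReps centChain) = true := by decide +kernel

theorem cent_levelsOK : levelsOK 275 [] centChain = true := by decide +kernel

theorem cent_size : size centChain = 40320 := by decide +kernel

theorem cent_exact : exactOK 275 elZ chain centChain [] = true := by decide +kernel

theorem syl_gens_ok : ((sylGens.zip sylGenWords).all fun q =>
    eqW q.2 q.1 && sameW 275 [elZ, q.1] [q.1, elZ] && !isId 275 q.1 && idW 275 [q.1, q.1]) = true ∧
    sylGenWords.length = sylGens.length := by decide +kernel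

theorem syl_closed : closedE 275 sylGens sylElts = true ∧ sylElts.length = 128 := by decide +kernel

theorem syl_slp_ok : fromGens 275 sylGens sylSlp sylElts = true := by decide +kernel

theorem syl_distinct :
    (sylElts.map fun l => [app l 35, app l 225, app l 274, app l 132, app l 0]).Nodup := by
  decide +kernel

theorem syl_z : sylElts.any (fun l => sameP 275 l elZ) = true ∧
    sylElts.any (fun l => sameP 275 l sqrtZ) = true ∧
    sameW 275 [sqrtZ, sqrtZ] [elZ] = true := by decide +kernel

theorem syl_conj : (sylElts.all fun l => isId 275 l || !idW 275 [l, l] ||
    sylConj.any fun w => wordOK w && sameW 275 ([l] ++ repWord w) (repWord w ++ [elZ])) = true := by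
  decide +kernel

theorem syl_center : (sylElts.all fun l => isId 275 l || sameP 275 l elZ ||
    !(sylGens.all fun g => sameW 275 [g, l] [l, g])) = true := by decide +kernel

end Cfsg.Agent.McL275
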