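import Cfsg.Agent.Lib.McL275.Cent
import Cfsg.Prelude.Def_SporadicB

/-!
The fixed points of the involution, labelled by the bisections of eight letters, give a homomorphism
of its centraliser onto the alternating group of degree eight with kernel of order two.
-/

set_option autoImplicit false
set_option maxRecDepth 100000

namespace Cfsg.Agent.McL275

open PermWide Equiv

/-- The `k`-th fixed point. -/
def fixAt (k : Fin 35) : ℕ := fixList.getD k.val 0

/-- The colour of a letter in the `k`-th bisection. -/
def colour (k : Fin 35) (i : ℕ) : Bool := (bisList.getD k.val 0).testBit i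

/-- The letters' permutation `s` is compatible with `σ`. -/
def Fits (σ : Perm (Fin 275)) (s : Perm (Fin 8)) : Prop :=
  ∀ k : Fin 35, ∃ k' : Fin 35, (∀ a : Fin 275, a.val = fixAt k → (σ a).val = fixAt k') ∧
    ∃ e : Bool, ∀ i : Fin 8, colour k' (s i).val = (e ^^ colour k i.val)

theorem fits_one : Fits 1 1 := fun k =>
  ⟨k, fun _ h => h, false, fun i => by simp⟩

theorem Fits.mul {σ τ : Perm (Fin 275)} {s t : Perm (Fin 8)} (h : Fits σ s) (h' : Fits τ t) :
    Fits (σ * τ) (s * t) := by
  intro k
  obtain ⟨k', hk', e', he'⟩ := h' k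
  obtain ⟨k'', hk'', e, he⟩ := h k'
  refine ⟨k'', fun a ha => by rw [Perm.mul_apply]; exact hk'' _ (hk' a ha), (e ^^ e'), fun i => ?_⟩
  rw [Perm.mul_apply, he, he', Bool.xor_assoc]

/-- The generators' images are compatible and even. -/
def genFitsOK (g s : ℕ) : Bool :=
  permOK 8 s &&
  (List.finRange 35).all fun k => (List.finRange 35).any fun k' =>
    app g (fixAt k) == fixAt k' && [false, true].any fun e =>
      (List.range 8).all fun i => colour k' (app s i) == (e ^^ colour k i)

theorem eight_checks :
    ((centGens.zip centImages).all fun q => genFitsOK q.1 q.2) = true ∧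
    centImages.length = centGens.length ∧
    ((List.finRange 35).all fun k => decide (fixAt k < 275)) = true ∧
    fixList.Nodup ∧ fixList.length = 35 := by decide +kernel

theorem separating :
    ((List.range 8).all fun a => (List.range 8).all fun b => (List.range 8).all fun c =>
      (List.range 8).all fun d => a == b || c == a || c == b || d == b ||
        (List.finRange 35).any fun k => colour k a == colour k c && colour k a == colour k d &&
          !(colour k a == colour k b)) = true := by decide +kernel

theorem colours_differ :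
    ((List.finRange 35).all fun k => (List.finRange 35).all fun k' => k == k' ||
      [false, true].all fun e =>
        !((List.range 8).all fun i => colour k' i == (e ^^ colour k i))) = true := by decide +kernel

theorem kernel_checks :
    ((centChain.take 4).all fun p => (List.finRange 35).any fun k => fixAt k == p.1) = true ∧
    ((centChain.drop 4).all fun p => p.2.all fun t => isId 275 t || sameP 275 t elZ) = true ∧
    centChain.length = 5 ∧
    ((List.finRange 35).all fun k => app elZ (fixAt k) == fixAt k) = true := by decide +kernel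

theorem fixAt_lt (k : Fin 35) : fixAt k < 275 := by
  have := List.all_eq_true.1 eight_checks.2.2.1 k (List.mem_finRange k)
  simpa using this

theorem fixAt_inj {k k' : Fin 35} (h : fixAt k = fixAt k') : k = k' := by
  obtain ⟨-, -, -, hnd, hlen⟩ := eight_checks
  have h1 : k.val < fixList.length := by rw [hlen]; exact k.isLt
  have h2 : k'.val < fixList.length := by rw [hlen]; exact k'.isLt
  rw [fixAt, fixAt, List.getD_eq_getElem _ _ h1, List.getD_eq_getElem _ _ h2] at h
  exact Fin.ext (hnd.getElem_inj_iff.1 h)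

theorem Fits.eq_one_left {s : Perm (Fin 8)} (h : Fits 1 s) : s = 1 := by
  refine Equiv.ext fun a => ?_
  by_contra hne
  rw [Perm.one_apply] at hne
  obtain ⟨c, hca, hcb⟩ : ∃ c : Fin 8, c ≠ a ∧ c ≠ s a := by
    have : ∀ x y : Fin 8, ∃ c : Fin 8, c ≠ x ∧ c ≠ y := by decide
    exact this a (s a)
  have hdb : s c ≠ s a := fun hh => hca (s.injective hh)
  have h1 := List.all_eq_true.1 separating a.val (List.mem_range.2 a.isLt)
  have h2 := List.all_eq_true.1 h1 (s a).val (List.mem_range.2 (s a).isLt)
  have h3 := List.all_eq_true.1 h2 c.val (List.mem_range.2 c.isLt)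
  have h4 := List.all_eq_true.1 h3 (s c).val (List.mem_range.2 (s c).isLt)
  simp only [Bool.or_eq_true, beq_iff_eq, List.any_eq_true, Bool.and_eq_true,
    Bool.not_eq_eq_eq_not, Bool.not_true, beq_eq_false_iff_ne] at h4
  rcases h4 with (((h4 | h4) | h4) | h4) | ⟨k, -, ⟨hac, had⟩, hab⟩
  · exact hne (Fin.ext h4.symm)
  · exact hca (Fin.ext h4)
  · exact hcb (Fin.ext h4)
  · exact hdb (Fin.ext h4)
  obtain ⟨k', hk', e, he⟩ := h k
  obtain rfl : k' = k :=
    fixAt_inj (((hk' ⟨fixAt k, fixAt_lt k⟩ rfl).symm).trans rfl)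
  have ha := he a
  have hc := he c
  revert hac had hab ha hc
  generalize colour k' a.val = x
  generalize colour k' c.val = y
  generalize colour k' (s a).val = z
  generalize colour k' (s c).val = w
  clear he
  revert x y z w e
  decide

theorem Fits.fixes {σ : Perm (Fin 275)} (h : Fits σ 1) (k : Fin 35) :
    σ ⟨fixAt k, fixAt_lt k⟩ = ⟨fixAt k, fixAt_lt k⟩ := by
  obtain ⟨k', hk', e, he⟩ := h k
  obtain rfl : k' = k := by
    by_contra hne
    have h1 := List.all_eq_true.1 colours_differ k (List.mem_finRange k)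
    have h2 := List.all_eq_true.1 h1 k' (List.mem_finRange k')
    simp only [Bool.or_eq_true, beq_iff_eq] at h2
    rcases h2 with h2 | h2
    · exact hne h2.symm
    have h3 := List.all_eq_true.1 h2 e (by cases e <;> simp)
    have h4 : ((List.range 8).all fun i => colour k' i == (e ^^ colour k i)) = true := by
      simp only [List.all_eq_true, List.mem_range, beq_iff_eq]
      intro i hi
      simpa using he ⟨i, hi⟩
    rw [h4] at h3
    exact Bool.noConfusion h3
  exact Fin.ext (hk' _ rfl)

/-- The pairs generated by the generators of the centraliser with their images. -/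
def pairs : Subgroup (Perm (Fin 275) × Perm (Fin 8)) :=
  Subgroup.closure {p | ∃ q ∈ centGens.zip centImages, Rep p.1 q.1 ∧ Rep p.2 q.2}

theorem sign_images : ∀ s : Perm (Fin 8), ∀ l ∈ centImages, Rep s l → Perm.sign s = 1 := by
  have hsg : ∀ l ∈ centImages, ∃ v : Perm (Fin 8), Rep v l ∧ Perm.sign v = 1 := by
    intro l hl
    simp only [centImages, List.mem_cons, List.not_mem_nil, or_false] at hl
    rcases hl with rfl | rfl
    · exact ⟨swap 0 7 * swap 7 2 * swap 2 4 * swap 4 1 * swap 1 5 * swap 3 6,
        by unfold PermWide.Rep; decide +kernel, by decide +kernel⟩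
    · exact ⟨swap 0 6 * (swap 2 4 * swap 4 3 * swap 3 7),
        by unfold PermWide.Rep; decide +kernel, by decide +kernel⟩
  intro s l hl hr
  obtain ⟨v, hv, hs⟩ := hsg l hl
  rwa [hr.unique hv]

theorem pairs_spec : ∀ p ∈ pairs, p.1 ∈ cent ∧ Perm.sign p.2 = 1 ∧ Fits p.1 p.2 := by
  intro p hp
  rw [← Subgroup.mem_toSubmonoid, pairs, Subgroup.closure_toSubmonoid_of_finite] at hp
  induction hp using Submonoid.closure_induction with
  | mem p hp =>
    obtain ⟨q, hq, h1, h2⟩ := hp
    have hz := List.of_mem_zip (a := q.1) (b := q.2) hq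
    refine ⟨Subgroup.subset_closure ⟨q.1, hz.1, h1⟩, sign_images _ _ hz.2 h2, fun k => ?_⟩
    have hok := List.all_eq_true.1 eight_checks.1 q hq
    simp only [genFitsOK, Bool.and_eq_true] at hok
    have h := List.all_eq_true.1 hok.2 k (List.mem_finRange k)
    simp only [List.any_eq_true, Bool.and_eq_true, beq_iff_eq, List.all_eq_true,
      List.mem_range] at h
    obtain ⟨k', -, hk', e, -, he⟩ := h
    refine ⟨k', fun a ha => by rw [h1 a, ha, hk'], e, fun i => ?_⟩
    rw [h2 i]
    exact he _ i.isLt
  | one => exact ⟨cent.one_mem, map_one _, fits_one⟩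
  | mul a b _ _ iha ihb =>
    exact ⟨cent.mul_mem iha.1 ihb.1, by rw [Prod.snd_mul, map_mul, iha.2.1, ihb.2.1, one_mul],
      iha.2.2.mul ihb.2.2⟩

/-- The first projection of the pairs. -/
def pairsFst : pairs →* cent :=
  ((MonoidHom.fst _ _).comp pairs.subtype).codRestrict cent fun p => (pairs_spec p.1 p.2).1

theorem pairsFst_bij : Function.Bijective pairsFst := by
  constructor
  · refine (injective_iff_map_eq_one _).2 fun p hp => ?_
    have h1 : p.1.1 = 1 := congrArg Subtype.val hp
    have h2 := (pairs_spec p.1 p.2).2.2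
    rw [h1] at h2
    exact Subtype.ext (Prod.ext h1 h2.eq_one_left)
  · have hle : cent ≤ pairs.map (MonoidHom.fst (Perm (Fin 275)) (Perm (Fin 8))) := by
      refine genGroup_le fun l hl => ?_
      obtain ⟨i, hi, rfl⟩ := List.getElem_of_mem hl
      have hlen := eight_checks.2.1
      have hmem : (centGens[i], centImages[i]'(hlen ▸ hi)) ∈ centGens.zip centImages :=
        List.mem_iff_getElem.2 ⟨i, by simp [hlen, hi], List.getElem_zip⟩
      obtain ⟨σ, -, hσ⟩ := word_facts cent_gens_ok.1 cent_gens_ok.2 _ (List.getElem_mem hi)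
      have hok := List.all_eq_true.1 eight_checks.1 _ hmem
      simp only [genFitsOK, Bool.and_eq_true] at hok
      obtain ⟨v, hv⟩ := exists_rep hok.1
      exact ⟨σ, ⟨(σ, v), Subgroup.subset_closure ⟨_, hmem, hσ, hv⟩, rfl⟩, hσ⟩
    intro g
    obtain ⟨p, hp, hpg⟩ := hle g.2
    exact ⟨⟨p, hp⟩, Subtype.ext hpg⟩

/-- The action of the centraliser on eight letters. -/
noncomputable def phi : cent →* alternatingGroup (Fin 8) :=
  (((MonoidHom.snd _ _).comp pairs.subtype).codRestrict (alternatingGroup (Fin 8))
    fun p => (pairs_spec p.1 p.2).2.1).comp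
      (MulEquiv.ofBijective pairsFst pairsFst_bij).symm.toMonoidHom

theorem phi_fits (g : cent) : Fits (g : Perm (Fin 275)) (phi g : Perm (Fin 8)) := by
  obtain ⟨p, rfl⟩ := pairsFst_bij.2 g
  have h : phi (pairsFst p) = ⟨p.1.2, (pairs_spec p.1 p.2).2.1⟩ := by
    refine Subtype.ext ?_
    show (((MulEquiv.ofBijective pairsFst pairsFst_bij).symm
      ((MulEquiv.ofBijective pairsFst pairsFst_bij) p)) : pairs).1.2 = p.1.2
    rw [MulEquiv.symm_apply_apply]
  rw [h]
  exact (pairs_spec p.1 p.2).2.2

theorem phi_z : phi ⟨zPerm, zPerm_mem_cent⟩ = 1 := by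
  refine Subtype.ext (Fits.eq_one_left fun k => ?_)
  obtain ⟨k', hk', e, he⟩ := phi_fits ⟨zPerm, zPerm_mem_cent⟩ k
  have hz : app elZ (fixAt k) = fixAt k := by
    have := List.all_eq_true.1 kernel_checks.2.2.2 k (List.mem_finRange k)
    simpa using this
  have hk : k' = k := fixAt_inj <| by
    rw [← hk' ⟨fixAt k, fixAt_lt k⟩ rfl]
    exact (zPerm_rep _).trans hz
  exact ⟨k, fun a ha => ha, e, fun i => hk ▸ he i⟩

theorem inProd_drop {n : ℕ} : ∀ (L : List Level) (m : ℕ) (fixed : List ℕ) (σ : Perm (Fin n)),
    levelsOK n fixed L = true → InProd L σ →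
    (∀ p ∈ L.take m, ∀ a : Fin n, a.val = p.1 → σ a = a) → InProd (L.drop m) σ
  | L, 0, _, σ, _, h, _ => h
  | [], m + 1, _, σ, _, h, _ => h
  | (b, ts) :: rest, m + 1, fixed, σ, hok, h, hfix => by
    obtain ⟨t, ht, τ, hτ, ρ, hρ, rfl⟩ := h
    simp only [levelsOK, Bool.and_eq_true, decide_eq_true_eq, List.all_eq_true, beq_iff_eq] at hok
    obtain ⟨⟨⟨hb, -⟩, hlev⟩, hrest⟩ := hok
    have h0 := hfix (b, ts) (by simp) ⟨b, hb⟩ rfl
    rw [Perm.mul_apply, hρ.fix hrest ⟨b, hb⟩ List.mem_cons_self] at h0
    have htb : app t b = b := (hτ ⟨b, hb⟩).symm.trans (congrArg Fin.val h0)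
    have hid : isId n t = true := by simpa [htb] using (hlev t ht).2
    rw [hτ.eq_one hid, one_mul] at hfix ⊢
    exact inProd_drop rest m (b :: fixed) ρ hrest hρ fun p hp =>
      hfix p (by rw [List.take_succ_cons]; exact List.mem_cons_of_mem _ hp)

theorem phi_ker {g : cent} (h : phi g = 1) :
    (g : Perm (Fin 275)) = 1 ∨ (g : Perm (Fin 275)) = zPerm := by
  have hf := phi_fits g
  rw [h, OneMemClass.coe_one] at hf
  obtain ⟨h4, hlast, hlen, -⟩ := kernel_checks
  have hd := inProd_drop centChain 4 [] (g : Perm (Fin 275)) cent_levelsOK (cent_spec.1.all _ g.2)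
    fun p hp a ha => by
      have := List.all_eq_true.1 h4 p hp
      simp only [List.any_eq_true, beq_iff_eq] at this
      obtain ⟨k, -, hk⟩ := this
      rw [show a = ⟨fixAt k, fixAt_lt k⟩ from Fin.ext (ha.trans hk.symm)]
      exact hf.fixes k
  have hl : (centChain.drop 4).length = 1 := by rw [List.length_drop, hlen]
  obtain ⟨q, hq⟩ := List.length_eq_one_iff.1 hl
  rw [hq] at hd hlast
  obtain ⟨t, ht, τ, hτ, ρ, hρ, heq⟩ := hd
  rw [show ρ = 1 from hρ, mul_one] at heq
  have := List.all_eq_true.1 hlast q (by simp)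
  have := List.all_eq_true.1 this t ht
  simp only [Bool.or_eq_true] at this
  rw [heq]
  rcases this with h' | h'
  · exact Or.inl (hτ.eq_one h')
  · exact Or.inr ((hτ.congr h').unique zPerm_rep)

theorem card_phi_ker : Nat.card phi.ker = 2 := by
  refine le_antisymm ?_ ?_
  · refine (Nat.card_le_card_of_injective
      (fun g : phi.ker => decide ((g.1 : Perm (Fin 275)) = 1)) fun g g' hgg => ?_).trans_eq
      (Nat.card_eq_two_iff.2 ⟨true, false, by simp, by ext b; cases b <;> simp⟩)
    have hne := zPerm_ne
    refine Subtype.ext (Subtype.ext ?_)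
    rcases phi_ker g.2 with h | h <;> rcases phi_ker g'.2 with h' | h' <;>
      simp_all
  · have : Nontrivial phi.ker :=
      ⟨⟨⟨zPerm, zPerm_mem_cent⟩, phi_z⟩, 1, fun h => zPerm_ne (congrArg (fun x => x.1.1) h)⟩
    exact Finite.one_lt_card

theorem phi_surjective : Function.Surjective phi := by
  rw [← MonoidHom.range_eq_top]
  refine Subgroup.eq_top_of_le_card _ ?_
  have h1 := Subgroup.card_eq_card_quotient_mul_card_subgroup phi.ker
  rw [Nat.card_congr (QuotientGroup.quotientKerEquivRange phi).toEquiv, card_cent, card_phi_ker] at h1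
  rw [nat_card_alternatingGroup, Nat.card_fin, show (Nat.factorial 8) = 40320 by decide]
  omega

/-- A group isomorphic to the centraliser is a non-split double cover of the alternating group. -/
theorem nonsplit {H : Type*} [Group H] (e : H ≃* cent) :
    Cfsg.IsNonsplitDoubleCover H (alternatingGroup (Fin 8)) := by
  have : Finite H := Finite.of_equiv _ e.symm.toEquiv
  let f : H →* alternatingGroup (Fin 8) := phi.comp e.toMonoidHom
  have hf : Function.Surjective f := phi_surjective.comp e.surjective
  let z : H := e.symm ⟨zPerm, zPerm_mem_cent⟩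
  have hfz : f z = 1 := by
    show phi (e (e.symm _)) = 1
    rw [MulEquiv.apply_symm_apply]; exact phi_z
  have hker : ∀ x, f x = 1 → x = 1 ∨ x = z := by
    intro x hx
    rcases phi_ker (g := e x) hx with h | h
    · exact Or.inl (e.injective (by rw [map_one]; exact Subtype.ext h))
    · exact Or.inr (e.injective (by rw [MulEquiv.apply_symm_apply]; exact Subtype.ext h))
  have hzc : z ∈ Subgroup.center H := by
    rw [Subgroup.mem_center_iff]
    intro x
    refine e.injective ?_
    rw [map_mul, map_mul, MulEquiv.apply_symm_apply]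
    exact Subtype.ext (mem_cent_iff.1 (e x).2).2
  have hcen : Subgroup.center H = f.ker := by
    refine le_antisymm (fun x hx => ?_) fun x hx => ?_
    · have hbot := alternatingGroup.center_eq_bot (α := Fin 8) (by simp)
      rw [MonoidHom.mem_ker, ← Subgroup.mem_bot, ← hbot, Subgroup.mem_center_iff]
      intro y
      obtain ⟨y', rfl⟩ := hf y
      rw [← map_mul, ← map_mul, Subgroup.mem_center_iff.1 hx y']
    · rcases hker x hx with rfl | rfl
      exacts [Subgroup.one_mem _, hzc]
  have hcard : Nat.card (Subgroup.center H) = 2 := by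
    rw [hcen, ← card_phi_ker]
    exact Nat.card_congr (e.toEquiv.subtypeEquiv fun x => Iff.rfl)
  refine ⟨hcard, ⟨(QuotientGroup.quotientMulEquivOfEq hcen).trans
    (QuotientGroup.quotientKerEquivOfSurjective f hf)⟩, fun L hL => ?_⟩
  have hidx : L.index = 2 := by rw [hL.index_eq_card, hcard]
  obtain ⟨r, hr, hrr⟩ := exists_sqrt
  have hzL : z ∈ L := by
    have := Subgroup.sq_mem_of_index_two hidx (e.symm ⟨r, syl_le_cent hr⟩)
    rw [← map_pow] at this
    convert this using 2
    exact Subtype.ext (by simp [sq, hrr])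
  have hz1 : z = 1 := Subgroup.disjoint_def.1 hL.disjoint hzc hzL
  refine zPerm_ne ?_
  have := congrArg e hz1
  rw [MulEquiv.apply_symm_apply, map_one] at this
  exact congrArg Subtype.val this

end Cfsg.Agent.McL275
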