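import Cfsg.Agent.Lib.McL275.Eight
import Cfsg.Agent.Lib.Mathieu.FusionSimple
import Cfsg.Agent.Lib.Perm.SylowTwo

/-!
The Sylow 2-subgroup of the McLaughlin group is self-normalising and has no proper strongly closed
subgroup meeting its centre.
-/

set_option autoImplicit false
set_option maxRecDepth 100000

namespace Cfsg.Agent.McL275

open PermWide Subgroup

theorem sylowCent_isPGroup : IsPGroup 2 (syl.subgroupOf cent) := IsPGroup.of_card (n := 7) (by
  rw [Nat.card_congr (Subgroup.subgroupOfEquivOfLe syl_le_cent).toEquiv, card_syl]; norm_num)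

/-- The Sylow subgroup inside the centraliser. -/
noncomputable def sylowCent : Sylow 2 cent :=
  sylowCent_isPGroup.toSylow (by
    have h := (syl.subgroupOf cent).card_mul_index
    rw [Nat.card_congr (Subgroup.subgroupOfEquivOfLe syl_le_cent).toEquiv, card_syl, card_cent] at h
    omega)

theorem mem_syl_of_normalizes {g : grp}
    (hg : ∀ x, x ∈ (sylow2 : Subgroup grp) ↔ g * x * g⁻¹ ∈ (sylow2 : Subgroup grp)) :
    g ∈ (sylow2 : Subgroup grp) := by
  have hsg : ∀ {s : Equiv.Perm (Fin 275)}, s ∈ syl → s ∈ grp := fun h =>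
    (cent_le (syl_le_cent h)).1
  have hz : (g : Equiv.Perm (Fin 275)) * zPerm * (g : Equiv.Perm (Fin 275))⁻¹ = zPerm := by
    refine ((center_syl ((hg zEl).1 zPerm_mem_syl) fun s hs => ?_)).resolve_left fun h =>
      zPerm_ne (conj_eq_one_iff.1 h)
    have h1 : g⁻¹ * ⟨s, hsg hs⟩ * g ∈ (sylow2 : Subgroup grp) := by
      rw [hg]
      simpa [mul_assoc] using (mem_sylow2.2 hs : (⟨s, hsg hs⟩ : grp) ∈ (sylow2 : Subgroup grp))
    have hc := (mem_cent_iff.1 (syl_le_cent (mem_sylow2.1 h1))).2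
    simp only [Subgroup.coe_mul, Subgroup.coe_inv] at hc
    show (g : Equiv.Perm (Fin 275)) * zPerm * (g : Equiv.Perm (Fin 275))⁻¹ * s =
      s * ((g : Equiv.Perm (Fin 275)) * zPerm * (g : Equiv.Perm (Fin 275))⁻¹)
    generalize (g : Equiv.Perm (Fin 275)) = a at hc ⊢
    calc a * zPerm * a⁻¹ * s = a * (zPerm * (a⁻¹ * s * a)) * a⁻¹ := by group
      _ = s * (a * zPerm * a⁻¹) := by rw [← hc]; group
  have hgc : (g : Equiv.Perm (Fin 275)) ∈ cent :=
    mem_cent_iff.2 ⟨g.2, mul_inv_eq_iff_eq_mul.1 hz⟩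
  let g' : cent := ⟨g, hgc⟩
  let P := sylowCent.mapSurjective phi_surjective
  have hP : (P : Subgroup (alternatingGroup (Fin 8))) = (syl.subgroupOf cent).map phi := rfl
  have hmem : phi g' ∈ (P : Subgroup (alternatingGroup (Fin 8))) := by
    rw [← Cfsg.Agent.Perm.normalizer_sylow_two_alternating 8 (by norm_num) P, hP,
      Subgroup.mem_normalizer_iff]
    intro y
    constructor
    · rintro ⟨s, hs, rfl⟩
      exact ⟨g' * s * g'⁻¹, (hg ⟨s, hsg hs⟩).1 hs, by simp⟩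
    · rintro ⟨s, hs, hsy⟩
      refine ⟨g'⁻¹ * s * g', ?_, ?_⟩
      · refine (hg (g⁻¹ * ⟨s, hsg hs⟩ * g)).2 ?_
        simpa [mul_assoc] using (mem_sylow2.2 hs : (⟨s, hsg hs⟩ : grp) ∈ (sylow2 : Subgroup grp))
      · rw [map_mul, map_mul, map_inv, hsy]; group
  obtain ⟨s, hs, hsg'⟩ := hmem
  have hk : phi (s⁻¹ * g') = 1 := by rw [map_mul, map_inv, hsg', inv_mul_cancel]
  have hin : ((s⁻¹ * g' : cent) : Equiv.Perm (Fin 275)) ∈ syl := by
    rcases phi_ker hk with h | h <;> rw [h]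
    exacts [syl.one_mem, zPerm_mem_syl]
  have := syl.mul_mem (show (s : Equiv.Perm (Fin 275)) ∈ syl from hs) hin
  simpa [g', mem_sylow2] using this

theorem closed_eq (T : Subgroup grp) (hT : T ≤ (sylow2 : Subgroup grp))
    (hcl : ∀ x ∈ T, ∀ h : grp, h * x * h⁻¹ ∈ (sylow2 : Subgroup grp) → h * x * h⁻¹ ∈ T)
    (x : grp) (hx : x ∈ T) (hx1 : x ≠ 1)
    (hxc : ∀ s ∈ (sylow2 : Subgroup grp), x * s = s * x) : T = (sylow2 : Subgroup grp) := by
  have hz : zEl ∈ T := by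
    rcases center_syl (mem_sylow2.1 (hT hx)) (fun s hs => congrArg Subtype.val
      (hxc ⟨s, (cent_le (syl_le_cent hs)).1⟩ hs)) with h | h
    · exact absurd (Subtype.ext h) hx1
    · rwa [show zEl = x from Subtype.ext h.symm]
  refine le_antisymm hT fun y hy => ?_
  have hle : syl ≤ T.map grp.subtype := by
    refine genGroup_le fun l hl => ?_
    obtain ⟨σ, hσ, hr, h1, h2⟩ := syl_gen_facts l hl
    refine ⟨σ, ⟨⟨σ, hσ.1⟩, ?_, rfl⟩, hr⟩
    have hsyl : σ ∈ syl := subset_closure ⟨l, hl, hr⟩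
    obtain ⟨c, hc, hcσ⟩ := conj_of_involution hsyl h1 h2
    have e : (⟨c, hc⟩ : grp)⁻¹ * zEl * ((⟨c, hc⟩ : grp)⁻¹)⁻¹ = ⟨σ, hσ.1⟩ := by
      rw [inv_inv]
      refine Subtype.ext ?_
      show c⁻¹ * zPerm * c = σ
      rw [mul_assoc, ← hcσ, inv_mul_cancel_left]
    have hs : (⟨c, hc⟩ : grp)⁻¹ * zEl * ((⟨c, hc⟩ : grp)⁻¹)⁻¹ ∈ (sylow2 : Subgroup grp) := by
      rw [e]; exact hsyl
    have := hcl zEl hz _ hs
    rwa [e] at this
  obtain ⟨w, hw, hwy⟩ := hle (mem_sylow2.1 hy)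
  rwa [← Subtype.ext hwy]

theorem sylow_ne_bot : (sylow2 : Subgroup grp) ≠ ⊥ := fun h => by
  have : zEl ∈ (sylow2 : Subgroup grp) := zPerm_mem_syl
  rw [h, Subgroup.mem_bot] at this
  exact zPerm_ne (congrArg Subtype.val this)

end Cfsg.Agent.McL275
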