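import Cfsg.Agent.Lib.McL275.MultData
import Cfsg.Agent.Lib.McL275.Outer

/-!
The kernel checks on the certificates for the Schur multiplier of the McLaughlin group.
-/

set_option autoImplicit false
set_option maxRecDepth 100000

namespace Cfsg.Agent.McL275.Mult

open PermWide

/-- The base points of the chain. -/
def bases : List ℕ := [35, 225, 274, 132, 0]

/-- Two words agree at the base points. -/
def sameB (w w' : List ℕ) : Bool := bases.all fun i => appW w i == appW w' i

theorem bases_eq : chain.map (fun p => p.1) = bases := by decide +kernel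

/-! ### The objects and the labelled graph -/

/-- The `i`th point of the object `v`. -/
def member (v i : ℕ) : ℕ := app (members.getD v 0) i

/-- The mask of an object. -/
def mask (v : ℕ) : ℕ := masks.getD v 0

/-- Membership of the code `3 * w + a` in the neighbours of `v`. -/
def isNb (v code : ℕ) : Bool := Nat.testBit (nbMasks.getD v 0) code

/-- The parent of a vertex. -/
def parent (v : ℕ) : ℕ := parents.getD v 0

/-- A shift. -/
def shiftAt (t v : ℕ) : ℕ := Nat.land (Nat.shiftRight t (Nat.mul 2 v)) 3

/-- The lift `(P, t)` of the packed `l` respects objects and labelled edges. -/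
def liftOK (l P t : ℕ) : Bool :=
  permOK 126 P &&
  ((List.range 126).all fun v => (List.range 40).all fun i =>
    Nat.testBit (mask (app P v)) (app l (member v i))) &&
  (List.range 126).all fun v => (List.range 45).all fun i =>
    let code := app (nbrs.getD v 0) i
    decide (code / 3 < 126) &&
      isNb (app P v) (3 * app P (code / 3) + (code % 3 + shiftAt t (code / 3) + 2 * shiftAt t v) % 3)

theorem graph_ok :
    ((List.range 126).all fun v => (List.range 40).all fun i => decide (member v i < 275)) = true ∧
    ((List.range 126).all fun v =>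
      ((List.range 40).foldl (fun m i => m ||| 1 <<< member v i) 0) == mask v) = true ∧
    ((List.range 126).all fun v => (List.range 126).all fun w =>
      v == w || (List.range 40).any fun i => !Nat.testBit (mask w) (member v i)) = true ∧
    ((List.range 126).all fun v =>
      ((List.range 45).foldl (fun m i => m ||| 1 <<< app (nbrs.getD v 0) i) 0) == nbMasks.getD v 0) = true ∧
    ((List.range 126).all fun v => v == 0 ||
      (decide (parent v < v) && isNb (parent v) (3 * v) && !isNb (parent v) (3 * v + 1) &&
        !isNb (parent v) (3 * v + 2))) = true := by decide +kernel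

/-- The packed generators of the point stabiliser. -/
def stabPacked : List ℕ := stabGens.map fun q => q.1

theorem stab_gens_ok :
    (stabGens.all fun q => eqW q.2 q.1) = true ∧ stabGens.length = genLifts.length ∧
    ((stabPacked.zip genLifts).all fun q => liftOK q.1 q.2.1 q.2.2) = true := by decide +kernel

theorem tail_words_ok :
    tailWords.length = (allReps chain.tail).length ∧
    (((allReps chain.tail).zip tailWords).all fun q => q.2.all (fun i => decide (i < 2)) &&
      sameB (q.2.map fun i => stabPacked.getD i 0) [q.1]) = true := by decide +kernel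

/-! ### The transfer -/

/-- The first element of the pair. -/
def elA : ℕ := (pairAB.getD 0 (0, [])).1

/-- The second element of the pair. -/
def elB : ℕ := (pairAB.getD 1 (0, [])).1

/-- The word of the transversal element of a point. -/
def transWord (x : ℕ) : List ℕ :=
  [repAt (0, transCode.getD x 0 / 9)] ++ powW [elB] (transCode.getD x 0 / 3 % 3) ++
    powW [elA] (transCode.getD x 0 % 3)

theorem pair_ok : pairAB.length = 2 ∧ (pairAB.all fun q => eqW q.2 q.1) = true ∧
    sameB [elA, elB] [elB, elA] = true ∧
    sameB (powW [elA] 3) [] = true ∧ sameB (powW [elB] 3) [] = true := by decide +kernel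

theorem trans_ok :
    ((List.range 275).all fun x => decide (transCode.getD x 0 / 9 < 275) &&
      appW (transWord x) 35 == x) = true ∧
    (chain.getD 0 (0, [])).2.length = 275 ∧ chain.length = 5 ∧
    (chain.getD 0 (0, [])).1 = 35 := by decide +kernel

/-- The entry of the cocycle of `g` at `x`. -/
def valOK (g x idx : ℕ) : Bool :=
  decide (idx < valLifts.length) &&
    sameB ([(valLifts.getD idx ((0, []), 0, 0)).1.1] ++ transWord x)
      (transWord (appW [g, g] x) ++ [g])

theorem values_ok :
    ((List.range 275).all fun x => valOK elA x (valA.getD x 0) && valOK elB x (valB.getD x 0)) = true := by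
  decide +kernel

theorem val_lifts_ok :
    (valLifts.all fun q => eqW q.1.2 q.1.1 && liftOK q.1.1 q.2.1 q.2.2) = true := by decide +kernel

/-- The vertex and shift of the product of two lifts at the origin. -/
def prodAt (i j : ℕ) : ℕ :=
  (shiftAt (valLifts.getD i ((0, []), 0, 0)).2.2 (app (valLifts.getD j ((0, []), 0, 0)).2.1 0) +
    shiftAt (valLifts.getD j ((0, []), 0, 0)).2.2 0) % 3

/-- The shift at a point of the commutator of the lifted pair. -/
def commAt (x : ℕ) : ℕ :=
  prodAt (valA.getD x 0) (valB.getD (appW [elA, elA] x) 0) +
    2 * prodAt (valB.getD x 0) (valA.getD (appW [elB, elB] x) 0)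

theorem sum_ok : ((List.range 275).map commAt).sum % 3 ≠ 0 := by decide +kernel

/-! ### The prime 3 -/

/-- The elements of order 3. -/
def threeAt (i : ℕ) : ℕ := (threeA.getD i (0, [])).1

/-- The involution. -/
def threeT : ℕ := (threeTD.getD 0 (0, [])).1

/-- The further element of order 3. -/
def threeDd : ℕ := (threeTD.getD 1 (0, [])).1

/-- The word of the commutator of the first two. -/
def threeC : List ℕ :=
  powW [threeAt 1] 2 ++ powW [threeAt 0] 2 ++ [threeAt 1] ++ [threeAt 0]

/-- The word of an ordered product times a power of the commutator. -/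
def formW (u : List ℕ) (m : ℕ) : List ℕ :=
  powW threeC m ++ powW [threeAt 3] (u.getD 3 0) ++ powW [threeAt 2] (u.getD 2 0) ++
    powW [threeAt 1] (u.getD 1 0) ++ powW [threeAt 0] (u.getD 0 0)

theorem three_elts_ok :
    threeA.length = 4 ∧ threeTD.length = 2 ∧ (threeA.all fun q => eqW q.2 q.1) = true ∧
    (threeTD.all fun q => eqW q.2 q.1) = true ∧
    sameB [threeT, threeT] [] = true ∧ sameB (powW [threeDd] 3) [] = true ∧
    sameB [threeT, threeDd] [threeDd, threeT] = true := by decide +kernel

theorem three_rules_ok :
    ((List.range 4).all fun i =>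
      sameB (powW [threeAt i] 3) [] &&
      sameB ([threeAt i] ++ [threeT]) ([threeT] ++ powW [threeAt i] 2) &&
      sameB ([threeAt i] ++ threeC) (threeC ++ [threeAt i]) &&
      sameB ([threeAt i] ++ [threeDd])
        ([threeDd] ++ formW (threeD.getD i ([], 0)).1 (threeD.getD i ([], 0)).2) &&
      (List.range 4).all fun j =>
        sameB ([threeAt j] ++ [threeAt i])
          (powW threeC ((threeE.getD i []).getD j 0) ++ [threeAt i] ++ [threeAt j])) = true := by
  decide +kernel

theorem three_inj :
    ((List.range 243).all fun c => c == 0 ||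
      !(sameB (formW [c % 3, c / 3 % 3, c / 9 % 3, c / 27 % 3] (c / 81)) [])) = true ∧
    ((List.range 243).all fun c =>
      !(sameB [threeDd] (formW [c % 3, c / 3 % 3, c / 9 % 3, c / 27 % 3] (c / 81)))) = true := by
  decide +kernel

theorem three_conj_ok :
    threeConj.length = 5 ∧
    (threeConj.all fun q => eqW q.1.2 q.1.1 &&
      sameB ([elA] ++ [q.1.1]) ([q.1.1] ++ formW q.2.1.1 q.2.1.2) &&
      sameB ([elB] ++ [q.1.1]) ([q.1.1] ++ formW q.2.2.1 q.2.2.2)) = true := by decide +kernel

/-! ### The prime 5 -/

/-- The elements for the prime 5. -/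
def fiveAt (i : ℕ) : ℕ := (fiveData.getD i (0, [])).1

/-- The word of the commutator. -/
def fiveC : List ℕ := powW [fiveAt 1] 4 ++ powW [fiveAt 0] 4 ++ [fiveAt 1] ++ [fiveAt 0]

/-- The word of an ordered product times a power of the commutator. -/
def fiveW (u v m : ℕ) : List ℕ := powW fiveC m ++ powW [fiveAt 1] v ++ powW [fiveAt 0] u

theorem five_ok :
    fiveData.length = 3 ∧ (fiveData.all fun q => eqW q.2 q.1) = true ∧
    sameB [fiveAt 2, fiveAt 2] [] = true ∧
    ((List.range 2).all fun i =>
      sameB (powW [fiveAt i] 5) [] &&
      sameB ([fiveAt i] ++ [fiveAt 2]) ([fiveAt 2] ++ powW [fiveAt i] 4) &&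
      sameB ([fiveAt i] ++ fiveC) (fiveC ++ [fiveAt i])) = true ∧
    ((List.range 125).all fun c => c == 0 ||
      !(sameB (fiveW (c % 5) (c / 5 % 5) (c / 25)) [])) = true := by decide +kernel

end Cfsg.Agent.McL275.Mult
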