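import Cfsg.Agent.Lib.McL275.MultChecks
import Cfsg.Agent.Lib.Schur.Transfer

/-!
A stem extension of the McLaughlin group on 275 points with kernel of order 3: the threefold cover of
the point stabiliser from labelled edges on 126 objects, transferred to the whole group.
-/

set_option autoImplicit false
set_option maxRecDepth 100000

namespace Cfsg.Agent.McL275.Mult

open PermWide Subgroup
open scoped commutatorElement

theorem stabGens_length : stabGens.length = 2 := by decide +kernel

attribute [local irreducible] stabGens genLifts valLifts pairAB transCode valA valB tailWords masks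
  members nbrs nbMasks chain

/-! ### Equality in the group from the base points -/

theorem rigid_inProd : ∀ (L : List Level) (fixed : List ℕ) (σ : Equiv.Perm (Fin 275)),
    levelsOK 275 fixed L = true → InProd L σ → (∀ p ∈ L, ∀ a : Fin 275, a.val = p.1 → σ a = a) → σ = 1
  | [], _, σ, _, h, _ => h
  | (b, ts) :: rest, fixed, σ, hok, h, hb => by
    obtain ⟨t, ht, τ, hτ, ρ, hρ, rfl⟩ := h
    simp only [levelsOK, Bool.and_eq_true, decide_eq_true_eq, List.all_eq_true, beq_iff_eq] at hok
    obtain ⟨⟨⟨hbn, -⟩, hlev⟩, hrest⟩ := hok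
    have h1 := hb (b, ts) List.mem_cons_self ⟨b, hbn⟩ rfl
    rw [Equiv.Perm.mul_apply, hρ.fix hrest ⟨b, hbn⟩ List.mem_cons_self] at h1
    have hid : isId 275 t = true := by
      have : app t b = b := (hτ ⟨b, hbn⟩).symm.trans (congrArg Fin.val h1)
      simpa [this] using (hlev t ht).2
    rw [hτ.eq_one hid, one_mul] at hb ⊢
    exact rigid_inProd rest (b :: fixed) ρ hrest hρ fun p hp => hb p (List.mem_cons_of_mem _ hp)

theorem base_lt : ∀ b ∈ bases, b < 275 := by decide

/-- Elements agreeing at the base points are equal. -/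
theorem eq_of_sameB {g h : grp} {w w' : List ℕ} (hg : RepW (g : Equiv.Perm (Fin 275)) w)
    (hh : RepW (h : Equiv.Perm (Fin 275)) w') (he : sameB w w' = true) : g = h := by
  simp only [sameB, List.all_eq_true, beq_iff_eq] at he
  have h1 : ((h⁻¹ * g : grp) : Equiv.Perm (Fin 275)) = 1 := by
    refine rigid_inProd chain [] _ chain_grp.ok (chain_grp.all _ (h⁻¹ * g).2) fun p hp a ha => ?_
    have hb : p.1 ∈ bases := by rw [← bases_eq]; exact List.mem_map_of_mem hp
    rw [Subgroup.coe_mul, Subgroup.coe_inv, Equiv.Perm.mul_apply, Equiv.Perm.inv_eq_iff_eq]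
    apply Fin.ext
    rw [hg, hh, ha, he _ hb]
  exact (inv_mul_eq_one.1 (Subtype.ext h1)).symm

theorem RepW.sameB {g h : grp} {w w' : List ℕ} (hg : RepW (g : Equiv.Perm (Fin 275)) w)
    (hh : RepW (h : Equiv.Perm (Fin 275)) w') (e : g = h) : Mult.sameB w w' = true := by
  subst e
  simp only [Mult.sameB, List.all_eq_true, beq_iff_eq]
  exact fun b hb => (hg ⟨b, base_lt b hb⟩).symm.trans (hh ⟨b, base_lt b hb⟩)

/-! ### The cover of the point stabiliser -/

/-- The covering vertices. -/
abbrev V : Type := Fin 126 × ZMod 3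

/-- The image of a vertex. -/
def vtx (π : Equiv.Perm V) (v : Fin 126) : Fin 126 := (π (v, 0)).1

/-- The shift at a vertex. -/
def sh (π : Equiv.Perm V) (v : Fin 126) : ZMod 3 := (π (v, 0)).2

/-- A permutation of the covering vertices lies over an element and respects the labelled edges. -/
structure Compat (g : grp) (π : Equiv.Perm V) : Prop where
  equiv : ∀ v c, π (v, c) = (vtx π v, sh π v + c)
  obj : ∀ (v : Fin 126) (x : Fin 275), Nat.testBit (mask v.val) x.val = true →
    Nat.testBit (mask (vtx π v).val) ((g : Equiv.Perm (Fin 275)) x).val = true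
  edge : ∀ (v w : Fin 126) (a : ZMod 3), isNb v.val (3 * w.val + a.val) = true →
    isNb (vtx π v).val (3 * (vtx π w).val + (a + sh π w - sh π v).val) = true

theorem compat_one : Compat 1 1 where
  equiv v c := by simp [vtx, sh]
  obj v x h := by simpa [vtx] using h
  edge v w a h := by simpa [vtx, sh] using h

theorem vtx_mul {g : grp} {π π' : Equiv.Perm V} (h : Compat g π) (v : Fin 126) :
    vtx (π * π') v = vtx π (vtx π' v) ∧ sh (π * π') v = sh π (vtx π' v) + sh π' v := by
  have : (π * π') (v, 0) = (vtx π (vtx π' v), sh π (vtx π' v) + sh π' v) :=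
    h.equiv (vtx π' v) (sh π' v)
  constructor
  · show ((π * π') (v, 0)).1 = _
    rw [this]
  · show ((π * π') (v, 0)).2 = _
    rw [this]

theorem compat_mul {g g' : grp} {π π' : Equiv.Perm V} (h : Compat g π) (h' : Compat g' π') :
    Compat (g * g') (π * π') where
  equiv v c := by
    rw [(vtx_mul h v).1, (vtx_mul h v).2, Equiv.Perm.mul_apply, h'.equiv, h.equiv, add_assoc]
  obj v x hx := by rw [(vtx_mul h v).1]; exact h.obj _ _ (h'.obj v x hx)
  edge v w a he := by
    rw [(vtx_mul h v).1, (vtx_mul h w).1, (vtx_mul h v).2, (vtx_mul h w).2]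
    have h1 := h.edge _ _ _ (h'.edge v w a he)
    rwa [show a + sh π' w - sh π' v + sh π (vtx π' w) - sh π (vtx π' v) =
      a + (sh π (vtx π' w) + sh π' w) - (sh π (vtx π' v) + sh π' v) by abel] at h1

/-- The cover of the point stabiliser, inside pairs. -/
def cover : Subgroup (grp × Equiv.Perm V) where
  carrier := {e | Compat e.1 e.2}
  one_mem' := compat_one
  mul_mem' := compat_mul
  inv_mem' := by
    intro e he
    have hpow : ∀ k : ℕ, Compat (e ^ k).1 (e ^ k).2 := fun k => by
      induction k with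
      | zero => rw [pow_zero]; exact compat_one
      | succ k ih => rw [pow_succ]; exact compat_mul ih he
    show Compat e⁻¹.1 e⁻¹.2
    rw [inv_eq_of_mul_eq_one_right (a := e) (b := e ^ (orderOf e - 1)) (by
      rw [← pow_succ', Nat.sub_add_cancel (orderOf_pos e), pow_orderOf_eq_one])]
    exact hpow _

/-- The projection. -/
def coverProj : cover →* grp := (MonoidHom.fst grp (Equiv.Perm V)).comp cover.subtype

theorem testBit_foldl (f : ℕ → ℕ) : ∀ (l : List ℕ) (m x : ℕ),
    Nat.testBit (l.foldl (fun m i => m ||| 1 <<< f i) m) x = true →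
      Nat.testBit m x = true ∨ ∃ i ∈ l, f i = x
  | [], _, _, h => Or.inl h
  | i :: l, m, x, h => by
    rcases testBit_foldl f l _ x h with h | ⟨j, hj, e⟩
    · rw [Nat.testBit_or, Bool.or_eq_true, Nat.one_shiftLeft, Nat.testBit_two_pow] at h
      rcases h with h | h
      · exact Or.inl h
      · exact Or.inr ⟨i, List.mem_cons_self, by simpa using h⟩
    · exact Or.inr ⟨j, List.mem_cons_of_mem _ hj, e⟩

theorem exists_member {v : Fin 126} {x : ℕ} (h : Nat.testBit (mask v.val) x = true) :
    ∃ i < 40, member v.val i = x := by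
  have hm := List.all_eq_true.1 graph_ok.2.1 v.val (List.mem_range.2 v.isLt)
  rw [← beq_iff_eq.1 hm] at h
  rcases testBit_foldl _ _ _ _ h with h | ⟨i, hi, e⟩
  · simp at h
  · exact ⟨i, List.mem_range.1 hi, e⟩

theorem member_mem (v : Fin 126) {i : ℕ} (hi : i < 40) :
    member v.val i < 275 ∧ Nat.testBit (mask v.val) (member v.val i) = true := by
  refine ⟨of_decide_eq_true (List.all_eq_true.1 (List.all_eq_true.1 graph_ok.1 v.val
    (List.mem_range.2 v.isLt)) i (List.mem_range.2 hi)), ?_⟩
  have hm := List.all_eq_true.1 graph_ok.2.1 v.val (List.mem_range.2 v.isLt)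
  rw [← beq_iff_eq.1 hm]
  have key : ∀ (l : List ℕ) (m : ℕ),
      (Nat.testBit m (member v.val i) = true ∨ i ∈ l) →
      Nat.testBit (l.foldl (fun m i => m ||| 1 <<< member v.val i) m) (member v.val i) = true := by
    intro l
    induction l with
    | nil => intro m h; simpa using h
    | cons j l ih =>
      intro m h
      refine ih _ ?_
      rcases h with h | h
      · exact Or.inl (by rw [Nat.testBit_or, h, Bool.true_or])
      · rcases List.mem_cons.1 h with rfl | h
        · exact Or.inl (by rw [Nat.testBit_or, Nat.one_shiftLeft, Nat.testBit_two_pow_self, Bool.or_true])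
        · exact Or.inr h
  exact key _ _ (Or.inr (List.mem_range.2 hi))

theorem compat_one_iff {π : Equiv.Perm V} (h : Compat 1 π) (v : Fin 126) :
    vtx π v = v ∧ sh π v = sh π 0 := by
  have hv : ∀ u : Fin 126, vtx π u = u := by
    intro u
    by_contra hne
    have h3 := List.all_eq_true.1 (List.all_eq_true.1 graph_ok.2.2.1 u.val (List.mem_range.2 u.isLt))
      (vtx π u).val (List.mem_range.2 (vtx π u).isLt)
    simp only [Bool.or_eq_true, beq_iff_eq, List.any_eq_true, List.mem_range] at h3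
    rcases h3 with h3 | ⟨i, hi, h3⟩
    · exact hne (Fin.ext h3.symm)
    · have := h.obj u ⟨_, (member_mem u hi).1⟩ (member_mem u hi).2
      simp only [OneMemClass.coe_one, Equiv.Perm.one_apply] at this
      rw [this] at h3
      exact Bool.noConfusion h3
  refine ⟨hv v, ?_⟩
  suffices hs : ∀ k, ∀ hk : k < 126, sh π ⟨k, hk⟩ = sh π 0 from hs v.val v.isLt
  intro k
  induction k using Nat.strong_induction_on with
  | _ k ih =>
    intro hk
    by_cases hk0 : k = 0
    · subst hk0; rfl
    · have hp := List.all_eq_true.1 graph_ok.2.2.2.2 k (List.mem_range.2 hk)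
      simp only [Bool.or_eq_true, beq_iff_eq, Bool.and_eq_true, decide_eq_true_eq,
        Bool.not_eq_eq_eq_not, Bool.not_true] at hp
      obtain ⟨⟨⟨hlt, he⟩, he1⟩, he2⟩ := hp.resolve_left hk0
      have h1 := h.edge ⟨parent k, hlt.trans hk⟩ ⟨k, hk⟩ 0 (by simpa using he)
      rw [hv, hv] at h1
      rw [← ih _ hlt (hlt.trans hk)]
      have key : ∀ c : ZMod 3, c = 0 ∨ c.val = 1 ∨ c.val = 2 := by decide
      rcases key (0 + sh π ⟨k, hk⟩ - sh π ⟨parent k, hlt.trans hk⟩) with hc | hc | hc
      · exact sub_eq_zero.1 (by simpa using hc)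
      · rw [hc] at h1
        exact absurd (h1.symm.trans he1) (by decide)
      · rw [hc] at h1
        exact absurd (h1.symm.trans he2) (by decide)

/-- The shift of a kernel element. -/
def kerVal : coverProj.ker →* Multiplicative (ZMod 3) :=
  MonoidHom.mk' (fun e => Multiplicative.ofAdd (sh e.1.1.2 0)) fun a b => by
    have ha : Compat 1 a.1.1.2 := (show a.1.1.1 = 1 from a.2) ▸ a.1.2
    have hb : Compat 1 b.1.1.2 := (show b.1.1.1 = 1 from b.2) ▸ b.1.2
    rw [← ofAdd_add]
    show Multiplicative.ofAdd (sh (a.1.1.2 * b.1.1.2) 0) = _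
    rw [(vtx_mul ha 0).2, (compat_one_iff hb 0).1]

/-- The translations. -/
def transl (c : ZMod 3) : Equiv.Perm V := Equiv.prodCongr (Equiv.refl _) (Equiv.addLeft c)

theorem transl_compat (c : ZMod 3) : Compat 1 (transl c) where
  equiv v d := Prod.ext rfl (by simp [transl, sh])
  obj v x h := h
  edge v w a h := by
    show isNb v.val (3 * w.val + (a + (c + 0) - (c + 0)).val) = true
    rwa [add_sub_cancel_right]

theorem kerVal_bijective : Function.Bijective kerVal := by
  refine ⟨(injective_iff_map_eq_one _).2 fun e he => ?_, fun c => ?_⟩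
  · have h1 : Compat 1 e.1.1.2 := (show e.1.1.1 = 1 from e.2) ▸ e.1.2
    have h0 : sh e.1.1.2 0 = 0 := Multiplicative.ofAdd.injective he
    refine Subtype.ext (Subtype.ext (Prod.ext e.2 (Equiv.ext fun u => ?_)))
    obtain ⟨v, c⟩ := u
    rw [h1.equiv v c, (compat_one_iff h1 v).1, (compat_one_iff h1 v).2, h0, zero_add]
    rfl
  · exact ⟨⟨⟨(1, transl c.toAdd), transl_compat _⟩, rfl⟩,
      congrArg Multiplicative.ofAdd (add_zero c.toAdd)⟩

theorem coverProj_central : coverProj.ker ≤ center cover := by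
  intro e he
  have h1 : Compat 1 e.1.2 := (show e.1.1 = 1 from he) ▸ e.2
  have hk : ∀ v c, e.1.2 (v, c) = (v, sh e.1.2 0 + c) := fun v c => by
    rw [h1.equiv, (compat_one_iff h1 v).1, (compat_one_iff h1 v).2]
  refine mem_center_iff.2 fun y => Subtype.ext (Prod.ext ?_ (Equiv.ext fun u => ?_))
  · show y.1.1 * e.1.1 = e.1.1 * y.1.1
    rw [show e.1.1 = 1 from he, mul_one, one_mul]
  · obtain ⟨v, c⟩ := u
    show y.1.2 (e.1.2 (v, c)) = e.1.2 (y.1.2 (v, c))
    rw [hk, y.2.equiv, y.2.equiv, hk, add_left_comm]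

theorem shiftAt_cast (t v : ℕ) : ((shiftAt t v : ℕ) : ZMod 3).val = shiftAt t v % 3 :=
  ZMod.val_natCast _ _

/-- The lift described by packed data. -/
theorem exists_lift {g : grp} {l P t : ℕ} (hg : Rep (g : Equiv.Perm (Fin 275)) l)
    (h : liftOK l P t = true) : ∃ π, Compat g π ∧ ∀ v : Fin 126,
      (vtx π v).val = app P v.val ∧ sh π v = (shiftAt t v.val : ZMod 3) := by
  simp only [liftOK, Bool.and_eq_true, List.all_eq_true, List.mem_range, decide_eq_true_eq] at h
  obtain ⟨⟨hP, hobj⟩, hedge⟩ := h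
  obtain ⟨σ, hσ⟩ := exists_rep hP
  let π : Equiv.Perm V :=
    { toFun := fun u => (σ u.1, (shiftAt t u.1.val : ZMod 3) + u.2)
      invFun := fun u => (σ.symm u.1, u.2 - (shiftAt t (σ.symm u.1).val : ZMod 3))
      left_inv := fun u => Prod.ext (σ.symm_apply_apply _) (by simp)
      right_inv := fun u => Prod.ext (σ.apply_symm_apply _) (by simp) }
  have hv : ∀ v, vtx π v = σ v := fun v => rfl
  have hs : ∀ v, sh π v = (shiftAt t v.val : ZMod 3) := fun v => add_zero _
  refine ⟨π, ⟨fun v c => ?_, fun v x hx => ?_, fun v w a ha => ?_⟩, fun v => ⟨hσ v, hs v⟩⟩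
  · rw [hv, hs]; rfl
  · obtain ⟨i, hi, hix⟩ := exists_member hx
    rw [hv, hσ, hg, ← hix]
    exact hobj v.val v.isLt i hi
  · have hm := List.all_eq_true.1 graph_ok.2.2.2.1 v.val (List.mem_range.2 v.isLt)
    have hbit : Nat.testBit (nbMasks.getD v.val 0) (3 * w.val + a.val) = true := ha
    rw [← beq_iff_eq.1 hm] at hbit
    rcases testBit_foldl _ _ _ _ hbit with h0 | ⟨i, hi, hcode⟩
    · simp at h0
    obtain ⟨-, hnb⟩ := hedge v.val v.isLt i (List.mem_range.1 hi)
    have ha3 := ZMod.val_lt a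
    rw [hcode, show (3 * w.val + a.val) / 3 = w.val by omega,
      show (3 * w.val + a.val) % 3 = a.val by omega] at hnb
    rw [hv, hv, hs, hs, hσ, hσ]
    have e : (a + (shiftAt t w.val : ZMod 3) - (shiftAt t v.val : ZMod 3)).val =
        (a.val + shiftAt t w.val + 2 * shiftAt t v.val) % 3 := by
      rw [← ZMod.val_natCast 3 (a.val + shiftAt t w.val + 2 * shiftAt t v.val)]
      congr 1
      push_cast
      rw [ZMod.natCast_zmod_val, sub_eq_add_neg]
      congr 1
      generalize (shiftAt t v.val : ZMod 3) = c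
      revert c
      decide
    rwa [e]

attribute [local irreducible] liftOK eqW in
theorem lift_of_lists (L : List (ℕ × List (ℕ × ℕ))) (M : List (ℕ × ℕ))
    (hw : (L.all fun q => eqW q.2 q.1) = true) (hlen : L.length = M.length)
    (hlift : (((L.map fun q => q.1)).zip M).all (fun q => liftOK q.1 q.2.1 q.2.2) = true)
    (i : ℕ) (hi : i < L.length) :
    ∃ g : grp, Rep (g : Equiv.Perm (Fin 275)) ((L.map fun q => q.1).getD i 0) ∧
      ∃ l, coverProj l = g := by
  obtain ⟨σ, hσ, hr⟩ := exists_rep_word (List.all_eq_true.1 hw _ (List.getElem_mem hi))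
  have hget : (L.map fun q => q.1).getD i 0 = L[i].1 := by
    rw [List.getD_eq_getElem _ _ (by simpa using hi), List.getElem_map]
  have hmem : (L[i].1, M[i]'(hlen ▸ hi)) ∈ (L.map fun q => q.1).zip M :=
    List.mem_iff_getElem.2 ⟨i, by simp [← hlen, hi], by simp⟩
  have hok := List.all_eq_true.1 hlift _ hmem
  simp only at hok
  obtain ⟨π, hπ, -⟩ := exists_lift (g := ⟨σ, hσ⟩) hr hok
  exact ⟨⟨σ, hσ⟩, by rw [hget]; exact hr, ⟨(_, π), hπ⟩, rfl⟩

theorem stabPacked_getD (i : ℕ) (hi : i < 2) :
    ∃ g : grp, Rep (g : Equiv.Perm (Fin 275)) (stabPacked.getD i 0) ∧ ∃ l, coverProj l = g :=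
  lift_of_lists stabGens genLifts stab_gens_ok.1 stab_gens_ok.2.1 stab_gens_ok.2.2 i
    (by rw [stabGens_length]; exact hi)

theorem word_in_range : ∀ w : List ℕ, (∀ i ∈ w, i < 2) →
    ∃ g : grp, RepW (g : Equiv.Perm (Fin 275)) (w.map fun i => stabPacked.getD i 0) ∧
      g ∈ coverProj.range
  | [], _ => ⟨1, repW_nil, one_mem _⟩
  | i :: w, h => by
    obtain ⟨g, hg, hgr⟩ := word_in_range w fun j hj => h j (List.mem_cons_of_mem _ hj)
    obtain ⟨g', hg', l, hl⟩ := stabPacked_getD i (h i List.mem_cons_self)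
    exact ⟨g * g', hg.snoc hg', mul_mem hgr ⟨l, hl⟩⟩

/-- The cover reaches the point stabiliser. -/
theorem coverProj_stab (h : grp) (hh : (h : Equiv.Perm (Fin 275)) 35 = 35) :
    ∃ l, coverProj l = h := by
  have hreps : ∀ t ∈ allReps chain.tail, ∃ τ ∈ coverProj.range.map grp.subtype, Rep τ t := by
    intro t ht
    obtain ⟨hlen, hw⟩ := tail_words_ok
    obtain ⟨i, hi, rfl⟩ := List.getElem_of_mem ht
    have hmem : ((allReps chain.tail)[i], tailWords[i]'(hlen ▸ hi)) ∈
        (allReps chain.tail).zip tailWords :=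
      List.mem_iff_getElem.2 ⟨i, by simp [hlen, hi], by simp⟩
    have h' := List.all_eq_true.1 hw _ hmem
    simp only [Bool.and_eq_true, List.all_eq_true, decide_eq_true_eq] at h'
    obtain ⟨g, hg, hgr⟩ := word_in_range _ h'.1
    obtain ⟨τ, hτ, hτr⟩ := chain_reps (allReps chain.tail)[i] (by
      have := List.getElem_mem hi
      simp only [allReps, List.mem_flatMap] at this ⊢
      obtain ⟨p, hp, hpt⟩ := this
      exact ⟨p, List.mem_of_mem_tail hp, hpt⟩)
    have := eq_of_sameB (g := g) (h := ⟨τ, hτ⟩) hg hτr.toW h'.2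
    exact ⟨τ, ⟨⟨τ, hτ⟩, this ▸ hgr, rfl⟩, hτr⟩
  obtain ⟨p, L, hpL⟩ : ∃ p L, chain = p :: L := by
    have := trans_ok.2.2.1
    exact List.exists_cons_of_length_pos (by rw [this]; norm_num) |>.imp fun p hp => hp
  have hp1 : p.1 = 35 := by
    have := trans_ok.2.2.2
    rwa [hpL, List.getD_cons_zero] at this
  obtain ⟨b, ts⟩ := p
  have hall := chain_grp.all _ h.2
  have hok := chain_grp.ok
  rw [hpL] at hall hok hreps
  obtain ⟨t, ht, τ, hτ, ρ, hρ, heq⟩ := hall
  simp only [levelsOK, Bool.and_eq_true, decide_eq_true_eq, List.all_eq_true, beq_iff_eq] at hok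
  obtain ⟨⟨⟨hb, -⟩, hlev⟩, hrest⟩ := hok
  change b = 35 at hp1
  subst hp1
  rw [heq, Equiv.Perm.mul_apply, hρ.fix hrest 35 List.mem_cons_self] at hh
  have hid : isId 275 t = true := by
    have : app t 35 = 35 := (hτ 35).symm.trans (congrArg Fin.val hh)
    simpa [this] using (hlev t ht).2
  rw [hτ.eq_one hid, one_mul] at heq
  obtain ⟨g, ⟨l, rfl⟩, hg⟩ := hρ.mem (G := coverProj.range.map grp.subtype) hreps
  exact ⟨l, Subtype.ext (hg.trans heq.symm)⟩

/-! ### The transfer -/

theorem rep_of_list (L : List (ℕ × List (ℕ × ℕ))) (hw : (L.all fun q => eqW q.2 q.1) = true)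
    (i : ℕ) (hi : i < L.length) :
    ∃ g : grp, Rep (g : Equiv.Perm (Fin 275)) (L.getD i (0, [])).1 := by
  rw [List.getD_eq_getElem _ _ hi]
  obtain ⟨σ, hσ, hr⟩ := exists_rep_word (List.all_eq_true.1 hw _ (List.getElem_mem hi))
  exact ⟨⟨σ, hσ⟩, hr⟩

theorem sameB_symm {w w' : List ℕ} (h : sameB w w' = true) : sameB w' w = true := by
  simp only [sameB, List.all_eq_true, beq_iff_eq] at h ⊢
  exact fun b hb => (h b hb).symm

theorem repW_pow {g : grp} {w : List ℕ} (h : RepW (g : Equiv.Perm (Fin 275)) w) (k : ℕ) :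
    RepW ((g ^ k : grp) : Equiv.Perm (Fin 275)) (powW w k) := by
  rw [Subgroup.coe_pow]; exact h.pow k

theorem exists_pair : ∃ a b : grp, Rep (a : Equiv.Perm (Fin 275)) elA ∧
    Rep (b : Equiv.Perm (Fin 275)) elB ∧ a * b = b * a ∧ a ^ 3 = 1 ∧ b ^ 3 = 1 := by
  obtain ⟨hlen, hw, hab, ha3, hb3⟩ := pair_ok
  obtain ⟨a, ha⟩ := rep_of_list pairAB hw 0 (by rw [hlen]; norm_num)
  obtain ⟨b, hb⟩ := rep_of_list pairAB hw 1 (by rw [hlen]; norm_num)
  exact ⟨a, b, ha, hb, eq_of_sameB (g := a * b) (h := b * a) (ha.toW.append hb.toW)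
    (hb.toW.append ha.toW) (sameB_symm hab), eq_of_sameB (repW_pow ha.toW 3) repW_nil ha3,
    eq_of_sameB (repW_pow hb.toW 3) repW_nil hb3⟩

theorem exists_transversal {a b : grp} (ha : Rep (a : Equiv.Perm (Fin 275)) elA)
    (hb : Rep (b : Equiv.Perm (Fin 275)) elB) :
    ∃ T : Fin 275 → grp, (∀ x, T x • (35 : Fin 275) = x) ∧
      ∀ x, RepW (T x : Equiv.Perm (Fin 275)) (transWord x.val) := by
  obtain ⟨hok, hlen, hlev, -⟩ := trans_ok
  have : ∀ x : Fin 275, ∃ g : grp, RepW (g : Equiv.Perm (Fin 275)) (transWord x.val) := by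
    intro x
    have h := List.all_eq_true.1 hok x.val (List.mem_range.2 x.isLt)
    simp only [Bool.and_eq_true, decide_eq_true_eq] at h
    have hmem : repAt (0, transCode.getD x.val 0 / 9) ∈ allReps chain := by
      refine List.mem_flatMap.2 ⟨chain.getD 0 (0, []), ?_, ?_⟩
      · have h0 : 0 < chain.length := by rw [hlev]; norm_num
        rw [List.getD_eq_getElem _ _ h0]; exact List.getElem_mem _
      · have h2 : transCode.getD x.val 0 / 9 < (chain.getD 0 (0, [])).2.length := hlen.symm ▸ h.1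
        rw [repAt, List.getD_eq_getElem _ _ h2]; exact List.getElem_mem _
    obtain ⟨τ, hτ, hr⟩ := chain_reps _ hmem
    exact ⟨a ^ (transCode.getD x.val 0 % 3) * (b ^ (transCode.getD x.val 0 / 3 % 3) * ⟨τ, hτ⟩), by
      simpa [transWord] using
        (ha.toW.pow (transCode.getD x.val 0 % 3)).append ((hb.toW.pow (transCode.getD x.val 0 / 3 % 3)).append hr.toW)⟩
  choose T hT using this
  refine ⟨T, fun x => ?_, hT⟩
  have h := List.all_eq_true.1 hok x.val (List.mem_range.2 x.isLt)
  simp only [Bool.and_eq_true, decide_eq_true_eq, beq_iff_eq] at h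
  exact Fin.ext ((hT x 35).trans h.2)

/-- The description of a lift by an index. -/
def IsVal (e : cover) (idx : ℕ) : Prop := ∀ v : Fin 126,
  (vtx e.1.2 v).val = app (valLifts.getD idx ((0, []), 0, 0)).2.1 v.val ∧
    sh e.1.2 v = (shiftAt (valLifts.getD idx ((0, []), 0, 0)).2.2 v.val : ZMod 3)

theorem exists_val {T : Fin 275 → grp} (hT : ∀ x, RepW (T x : Equiv.Perm (Fin 275)) (transWord x.val))
    {a : grp} {l : ℕ} (ha : Rep (a : Equiv.Perm (Fin 275)) l) (ha3 : a ^ 3 = 1) {x : Fin 275} {idx : ℕ}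
    (h : valOK l x.val idx = true) :
    ∃ e : cover, coverProj e = Schur.Transfer.cocyc T a x ∧ IsVal e idx ∧
      (a⁻¹ • x).val = appW [l, l] x.val := by
  simp only [valOK, Bool.and_eq_true, decide_eq_true_eq] at h
  obtain ⟨hidx, hsame⟩ := h
  have hinv : (a⁻¹ • x).val = appW [l, l] x.val := by
    have : a⁻¹ = a * a := inv_eq_of_mul_eq_one_right (by rw [← mul_assoc, ← pow_three']; exact ha3)
    rw [this]
    exact (ha.toW.append ha.toW) x
  have hlift := List.all_eq_true.1 val_lifts_ok _ (List.getElem_mem hidx)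
  rw [← List.getD_eq_getElem _ ((0, []), 0, 0) hidx] at hlift
  simp only [Bool.and_eq_true] at hlift
  obtain ⟨σ, hσ, hr⟩ := exists_rep_word hlift.1
  obtain ⟨π, hπ, hspec⟩ := exists_lift (g := ⟨σ, hσ⟩) hr hlift.2
  refine ⟨⟨(_, π), hπ⟩, ?_, hspec, hinv⟩
  show (⟨σ, hσ⟩ : grp) = (T x)⁻¹ * a * T (a⁻¹ • x)
  rw [mul_assoc, eq_inv_mul_iff_mul_eq]
  have h2 : RepW ((a * T (a⁻¹ • x) : grp) : Equiv.Perm (Fin 275))
      (transWord (appW [l, l] x.val) ++ [l]) := by
    rw [← hinv]; exact ha.toW.append (hT _)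
  exact eq_of_sameB ((hT x).append hr.toW) h2 hsame

theorem prod_val {e e' : cover} {i j : ℕ} (hi : IsVal e i) (hj : IsVal e' j) :
    sh (e.1.2 * e'.1.2) 0 = (prodAt i j : ZMod 3) := by
  rw [(vtx_mul e.2 0).2, (hj 0).2, (hi _).2, (hj 0).1, prodAt, ZMod.natCast_mod, Nat.cast_add]
  rfl

theorem sum_range_list (n : ℕ) (f : ℕ → ℕ) : ∑ i ∈ Finset.range n, f i = ((List.range n).map f).sum :=
  rfl

/-- A stem extension with kernel of order three. -/
theorem exists_stem_three : ∃ (E : Type) (_ : Group E) (_ : Finite E) (σ : E →* grp),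
    Cfsg.IsStemExtension σ ∧ Nat.card σ.ker = 3 := by
  obtain ⟨a, b, ha, hb, hab, ha3, hb3⟩ := exists_pair
  obtain ⟨T, hT35, hT⟩ := exists_transversal ha hb
  have hv := fun x : Fin 275 => by
    have := List.all_eq_true.1 values_ok x.val (List.mem_range.2 x.isLt)
    simp only [Bool.and_eq_true] at this
    exact this
  choose FA hFA hFAv hainv using fun x => exists_val hT ha ha3 (hv x).1
  choose FB hFB hFBv hbinv using fun x => exists_val hT hb hb3 (hv x).2
  let a' : Schur.Transfer.group coverProj T := ⟨⟨FA, a⟩, hFA⟩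
  let b' : Schur.Transfer.group coverProj T := ⟨⟨FB, b⟩, hFB⟩
  have hcard : Nat.card (Multiplicative (ZMod 3)) = 3 := by
    rw [Nat.card_congr Multiplicative.toAdd, Nat.card_zmod]
  have : Fintype (Multiplicative (ZMod 3)) := inferInstance
  obtain ⟨E, iG, iF, σ, hσ, hker⟩ := Schur.Transfer.exists_stem (p := coverProj) (t := T) kerVal
    (x0 := (35 : Fin 275)) hT35 (fun h hh => coverProj_stab h hh) coverProj_central kerVal_bijective
    (by rw [hcard]; norm_num) a' b' hab (by
      intro h
      apply sum_ok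
      have hab' : Schur.Transfer.proj coverProj T ⁅a', b'⁆ = 1 := by
        rw [map_commutatorElement]; exact commutatorElement_eq_one_iff_mul_comm.2 hab
      have key : ∀ x : Fin 275, sh ((⁅a', b'⁆ : Schur.Transfer.group coverProj T).1.left x).1.2 0 =
          (commAt x.val : ZMod 3) := by
        intro x
        have hK : Compat 1 ((⁅a', b'⁆ : Schur.Transfer.group coverProj T).1.left x).1.2 :=
          (show ((⁅a', b'⁆ : Schur.Transfer.group coverProj T).1.left x).1.1 = 1 from
            Schur.Transfer.mem_ker_apply hab' x) ▸ ((⁅a', b'⁆ : Schur.Transfer.group coverProj T).1.left x).2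
        have e : ⁅a', b'⁆ * (b' * a') = a' * b' := by rw [commutatorElement_def]; group
        have e' := congrArg (fun q : Schur.Transfer.group coverProj T => (q.1.left x).1.2) e
        have hr : (⁅a', b'⁆ : Schur.Transfer.group coverProj T).1.right = 1 := hab'
        change ((⁅a', b'⁆ : Schur.Transfer.group coverProj T).1.left x).1.2 *
          ((FB ((⁅a', b'⁆ : Schur.Transfer.group coverProj T).1.right⁻¹ • x)).1.2 *
            (FA (b⁻¹ • ((⁅a', b'⁆ : Schur.Transfer.group coverProj T).1.right⁻¹ • x))).1.2) =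
          (FA x).1.2 * (FB (a⁻¹ • x)).1.2 at e'
        rw [hr, inv_one, one_smul] at e'
        have e2 := congrArg (fun q => sh q 0) e'
        rw [(vtx_mul hK 0).2, (compat_one_iff hK _).2, prod_val (hFBv x) (hFAv _),
          prod_val (hFAv x) (hFBv _)] at e2
        rw [eq_sub_of_add_eq e2, commAt, Nat.cast_add, ← hainv x, ← hbinv x, Nat.cast_mul]
        generalize (prodAt (valA.getD x.val 0) (valB.getD (a⁻¹ • x).val 0) : ZMod 3) = c
        generalize (prodAt (valB.getD x.val 0) (valA.getD (b⁻¹ • x).val 0) : ZMod 3) = d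
        revert c d
        decide
      have h' : ∏ x : Fin 275, Multiplicative.ofAdd (commAt x.val : ZMod 3) = 1 :=
        (Finset.prod_congr rfl fun x _ => congrArg Multiplicative.ofAdd (key x).symm).trans h
      rw [← ofAdd_sum, ofAdd_eq_one, ← Nat.cast_sum, ZMod.natCast_eq_zero_iff] at h'
      rw [Fin.sum_univ_eq_sum_range] at h'
      rw [sum_range_list] at h'
      omega)
  exact ⟨E, iG, iF, σ, hσ, hker.trans hcard⟩

end Cfsg.Agent.McL275.Mult
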