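import Cfsg.Agent.Lib.McL275.MultCover
import Cfsg.Agent.Lib.McL275.Eight
import Cfsg.Agent.Lib.Schur.InvertedGens
import Cfsg.Agent.Lib.Schur.Exponent
import Cfsg.Agent.Lib.Schur.SylowLocal
import Cfsg.Agent.Lib.Schur.Basic
import Cfsg.Agent.S0892

/-!
The local bounds on the multiplier of the McLaughlin group: the prime 2 from the double cover of the
alternating group of degree eight, the primes 3 and 5 from inverted generators.
-/

set_option autoImplicit false
set_option maxRecDepth 100000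

namespace Cfsg.Agent.McL275.Mult

open PermWide Subgroup
open scoped commutatorElement

/-! ### The prime 2 -/

/-- The centraliser inside the group. -/
def centG : Subgroup grp := cent.subgroupOf grp

/-- The centraliser inside the group is the centraliser. -/
noncomputable def centEquiv : centG ≃* cent := subgroupOfEquivOfLe fun _ h => (cent_le h).1

theorem centG_perfect : ⁅(⊤ : Subgroup centG), (⊤ : Subgroup centG)⁆ = ⊤ := by
  obtain ⟨hcard, -, hns⟩ := nonsplit centEquiv
  let f : centG →* alternatingGroup (Fin 8) := phi.comp centEquiv.toMonoidHom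
  have hf : Function.Surjective f := phi_surjective.comp centEquiv.surjective
  have hA : ⁅(⊤ : Subgroup centG), (⊤ : Subgroup centG)⁆.map f = ⊤ := by
    rw [map_commutator, map_top_of_surjective f hf, ← _root_.commutator_def,
      commutator_alternatingGroup_eq_top (by simp)]
  have hcen : f.ker ≤ center centG := by
    intro g hg
    refine mem_center_iff.2 fun x => centEquiv.injective (Subtype.ext ?_)
    rcases phi_ker (g := centEquiv g) hg with h | h
    · rw [map_mul, map_mul, Subgroup.coe_mul, Subgroup.coe_mul, h, mul_one, one_mul]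
    · rw [map_mul, map_mul, Subgroup.coe_mul, Subgroup.coe_mul, h]
      exact (mem_cent_iff.1 (centEquiv x).2).2
  rw [eq_top_iff]
  by_contra hne
  -- the derived subgroup would complement the centre
  have hsup : ∀ g : centG, ∃ k ∈ f.ker, ∃ d ∈ ⁅(⊤ : Subgroup centG), (⊤ : Subgroup centG)⁆, g = k * d := fun g => by
    obtain ⟨d, hd, hde⟩ : f g ∈ ⁅(⊤ : Subgroup centG), (⊤ : Subgroup centG)⁆.map f := hA ▸ mem_top _
    exact ⟨g * d⁻¹, by rw [MonoidHom.mem_ker, map_mul, map_inv, hde, mul_inv_cancel], d, hd, by group⟩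
  have : Fact (Nat.card (center centG)).Prime := ⟨hcard ▸ Nat.prime_two⟩
  rcases (⁅(⊤ : Subgroup centG), (⊤ : Subgroup centG)⁆.subgroupOf (center centG)).eq_bot_or_eq_top_of_prime_card with h | h
  · refine hns ⁅(⊤ : Subgroup centG), (⊤ : Subgroup centG)⁆ (isComplement'_of_disjoint_and_mul_eq_univ ?_ ?_)
    · rw [subgroupOf_eq_bot] at h
      exact h.symm
    · refine Set.eq_univ_of_forall fun g => ?_
      obtain ⟨k, hk, d, hd, rfl⟩ := hsup g
      exact ⟨k, hcen hk, d, hd, rfl⟩
  · refine hne fun g _ => ?_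
    obtain ⟨k, hk, d, hd, rfl⟩ := hsup g
    exact mul_mem (subgroupOf_eq_top.1 h (hcen hk)) hd

variable {Γ : Type} [Group Γ] [Finite Γ] (σ : Γ →* grp)

/-- The preimage of the centraliser avoids the kernel with its derived group. -/
theorem local_two (hs : Function.Surjective σ) (hz : σ.ker ≤ center Γ) :
    ⁅centG.comap σ, centG.comap σ⁆ ⊓ σ.ker = ⊥ := by
  let D : Subgroup Γ := centG.comap σ
  let D' : Subgroup Γ := ⁅D, D⁆
  have hle : D' ≤ D := commutator_le.2 fun a ha b hb => by
    rw [commutatorElement_def]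
    exact mul_mem (mul_mem (mul_mem ha hb) (inv_mem ha)) (inv_mem hb)
  have hmap : D'.map σ = centG := by
    show ⁅D, D⁆.map σ = centG
    rw [map_commutator, map_comap_eq_self_of_surjective hs]
    have h := congrArg (Subgroup.map centG.subtype) centG_perfect
    rwa [map_commutator, ← MonoidHom.range_eq_map, range_subtype] at h
  have hself : D' ≤ ⁅D', D'⁆ := commutator_le.2 fun a ha b hb => by
    obtain ⟨a₀, ha₀, ea⟩ : σ a ∈ D'.map σ := hmap ▸ ha
    obtain ⟨b₀, hb₀, eb⟩ : σ b ∈ D'.map σ := hmap ▸ hb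
    rw [Schur.commutatorElement_eq_of_map_eq σ hz ea.symm eb.symm]
    exact commutator_mem_commutator ha₀ hb₀
  let τ : D' →* cent := centEquiv.toMonoidHom.comp
    ((σ.comp D'.subtype).codRestrict centG fun x => hle x.2)
  have hτs : Function.Surjective τ := by
    intro c
    have h : ((centEquiv.symm c : centG) : grp) ∈ D'.map σ := by rw [hmap]; exact (centEquiv.symm c).2
    obtain ⟨x, hx, hxc⟩ := h
    refine ⟨⟨x, hx⟩, ?_⟩
    show centEquiv ⟨σ x, _⟩ = c
    rw [show (⟨σ x, hle hx⟩ : centG) = centEquiv.symm c from Subtype.ext hxc, MulEquiv.apply_symm_apply]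
  let f : D' →* alternatingGroup (Fin 8) := phi.comp τ
  have hperf : _root_.commutator D' = ⊤ := by
    apply map_injective D'.subtype_injective
    rw [Subgroup.map_subtype_commutator, ← MonoidHom.range_eq_map, range_subtype]
    exact le_antisymm (commutator_le.2 fun a ha b hb => by
      rw [commutatorElement_def]
      exact mul_mem (mul_mem (mul_mem ha hb) (inv_mem ha)) (inv_mem hb)) hself
  have hzD : f.ker ≤ center D' := by
    intro w hw
    have hcomm : ∀ g : D', σ ⁅(w : Γ), (g : Γ)⁆ = 1 := fun g => by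
      rw [map_commutatorElement, commutatorElement_eq_one_iff_mul_comm]
      have : τ w * τ g = τ g * τ w := by
        rcases phi_ker (g := τ w) hw with h | h
        · rw [show τ w = 1 from Subtype.ext h, one_mul, mul_one]
        · exact Subtype.ext (by
            rw [Subgroup.coe_mul, Subgroup.coe_mul, h]
            exact (mem_cent_iff.1 (τ g).2).2.symm)
      have h2 := centEquiv.injective
        ((map_mul centEquiv _ _).trans (this.trans (map_mul centEquiv _ _).symm))
      exact congrArg Subtype.val h2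
    let : CommGroup (center Γ) :=
      { (inferInstance : Group (center Γ)) with
        mul_comm := fun x y => Subtype.ext (mem_center_iff.1 y.2 (x : Γ)) }
    let ψ : D' →* center Γ := MonoidHom.mk' (fun g => ⟨⁅(w : Γ), (g : Γ)⁆, hz (hcomm g)⟩) fun g g' =>
      Subtype.ext (by
        show ⁅(w : Γ), ((g * g' : D') : Γ)⁆ = ⁅(w : Γ), (g : Γ)⁆ * ⁅(w : Γ), (g' : Γ)⁆
        rw [Subgroup.coe_mul, show ⁅(w : Γ), (g : Γ) * (g' : Γ)⁆ =
          ⁅(w : Γ), (g : Γ)⁆ * ((g : Γ) * ⁅(w : Γ), (g' : Γ)⁆ * (g : Γ)⁻¹) by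
            simp only [commutatorElement_def]; group,
          mem_center_iff.1 (hz (hcomm g')) (g : Γ), mul_inv_cancel_right])
    refine mem_center_iff.2 fun g => Subtype.ext ?_
    have h1 : g ∈ ψ.ker := Abelianization.commutator_subset_ker ψ (hperf ▸ mem_top g)
    have h2 : ⁅(w : Γ), (g : Γ)⁆ = 1 := congrArg Subtype.val h1
    exact (commutatorElement_eq_one_iff_mul_comm.1 h2).symm
  have hcard : Nat.card f.ker ≤ 2 := S0892.result 8 (by norm_num) (by norm_num) (by norm_num) f.ker hzD
    (hperf ▸ le_top) (QuotientGroup.quotientKerEquivOfSurjective f (phi_surjective.comp hτs))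
  rw [eq_bot_iff]
  rintro x ⟨hx, hxk⟩
  rw [mem_bot]
  by_contra hx1
  obtain ⟨y, hy⟩ := hτs ⟨zPerm, zPerm_mem_cent⟩
  have hxτ : τ ⟨x, hx⟩ = 1 := by
    show centEquiv ⟨σ x, _⟩ = 1
    rw [show (⟨σ x, hle hx⟩ : centG) = 1 from Subtype.ext hxk, map_one]
  have hmem : (⟨x, hx⟩ : D') ∈ f.ker := by
    rw [MonoidHom.mem_ker, MonoidHom.comp_apply, hxτ, map_one]
  have hymem : y ∈ f.ker := by rw [MonoidHom.mem_ker, MonoidHom.comp_apply, hy, phi_z]
  have h3 : 3 ≤ Nat.card f.ker := by
    let g : Fin 3 → f.ker := ![1, ⟨_, hmem⟩, ⟨_, hymem⟩]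
    have hg : Function.Injective g := by
      intro i j hij
      have hne1 : (⟨_, hmem⟩ : f.ker) ≠ 1 := fun h => hx1 (congrArg (fun q : f.ker => ((q : D') : Γ)) h)
      have hne2 : τ y ≠ 1 := fun h => zPerm_ne (congrArg Subtype.val (hy.symm.trans h))
      have hne3 : y ≠ ⟨x, hx⟩ := fun h => hne2 (h ▸ hxτ)
      have hne4 : (⟨_, hymem⟩ : f.ker) ≠ 1 := fun h =>
        hne2 (by rw [show y = 1 from congrArg Subtype.val h, map_one])
      have hne5 : (⟨_, hymem⟩ : f.ker) ≠ ⟨_, hmem⟩ := fun h => hne3 (congrArg Subtype.val h)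
      fin_cases i <;> fin_cases j <;> simp_all [g, Ne.symm hne1, Ne.symm hne4, Ne.symm hne5]
    simpa using Nat.card_le_card_of_injective g hg
  omega

theorem centG_index : ¬ 2 ∣ centG.index := by
  have h := centG.card_mul_index
  rw [Nat.card_congr centEquiv.toEquiv, card_cent, card_grp] at h
  omega

/-! ### Elements from lists -/

theorem exists_three : ∃ (x : Fin 4 → grp) (t d : grp),
    (∀ i : Fin 4, Rep (x i : Equiv.Perm (Fin 275)) (threeAt i.val)) ∧
    Rep (t : Equiv.Perm (Fin 275)) threeT ∧ Rep (d : Equiv.Perm (Fin 275)) threeDd := by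
  obtain ⟨hA, hTD, hwA, hwTD, -⟩ := three_elts_ok
  choose x hx using fun i : Fin 4 => rep_of_list threeA hwA i.val (by rw [hA]; exact i.isLt)
  obtain ⟨t, ht⟩ := rep_of_list threeTD hwTD 0 (by rw [hTD]; norm_num)
  obtain ⟨d, hd⟩ := rep_of_list threeTD hwTD 1 (by rw [hTD]; norm_num)
  exact ⟨x, t, d, hx, ht, hd⟩

theorem eq_of_word {g h : grp} {w w' : List ℕ} (hg : RepW (g : Equiv.Perm (Fin 275)) w)
    (hh : RepW (h : Equiv.Perm (Fin 275)) w') (he : sameB w w' = true) : g = h :=
  eq_of_sameB hg hh he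

theorem repW_mul {g h : grp} {w w' : List ℕ} (hg : RepW (g : Equiv.Perm (Fin 275)) w)
    (hh : RepW (h : Equiv.Perm (Fin 275)) w') :
    RepW ((g * h : grp) : Equiv.Perm (Fin 275)) (w' ++ w) := hg.append hh

theorem inv_eq_pow {g : grp} {k : ℕ} (h : g ^ (k + 1) = 1) : g⁻¹ = g ^ k :=
  inv_eq_of_mul_eq_one_right (by rw [← pow_succ']; exact h)

/-- A word of the commutator. -/
theorem repW_comm {g h : grp} {l l' k : ℕ} (hg : Rep (g : Equiv.Perm (Fin 275)) l)
    (hh : Rep (h : Equiv.Perm (Fin 275)) l') (hgk : g ^ (k + 1) = 1) (hhk : h ^ (k + 1) = 1) :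
    RepW ((⁅g, h⁆ : grp) : Equiv.Perm (Fin 275))
      (powW [l'] k ++ powW [l] k ++ [l'] ++ [l]) := by
  rw [commutatorElement_def, inv_eq_pow hgk, inv_eq_pow hhk, List.append_assoc, List.append_assoc]
  exact repW_mul (repW_mul (repW_mul hg.toW hh.toW) (repW_pow hg.toW k)) (repW_pow hh.toW k) |> fun r => by
    simpa only [List.append_assoc] using r

theorem repW_word : ∀ {n : ℕ} (l : List (Fin n)) (x : Fin n → grp) (w : Fin n → List ℕ) (u : Fin n → ℕ),
    (∀ i, RepW (x i : Equiv.Perm (Fin 275)) (w i)) →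
    RepW (((l.map fun i => x i ^ u i).prod : grp) : Equiv.Perm (Fin 275))
      ((l.map fun i => powW (w i) (u i)).reverse.flatten)
  | _, [], _, _, _, _ => repW_nil
  | _, i :: l, x, w, u, h => by
    simp only [List.map_cons, List.prod_cons, List.reverse_cons, List.flatten_append, List.flatten_cons,
      List.flatten_nil, List.append_nil]
    exact repW_mul (repW_pow (h i) (u i)) (repW_word l x w u h)

/-- A Sylow subgroup from a subgroup of the full prime power. -/
theorem sylow_of_card {p k m : ℕ} [hp : Fact p.Prime] (hk : 898128000 = p ^ k * m) (hm : ¬ p ∣ m)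
    (S : Subgroup grp) (hS : Nat.card S = p ^ k) : ∃ Q : Sylow p grp, (Q : Subgroup grp) = S := by
  refine ⟨Sylow.ofCard S ?_, rfl⟩
  rw [hS, card_grp, hk, Nat.factorization_mul (pow_ne_zero _ hp.out.ne_zero)
    (fun h => hm (by rw [h]; exact dvd_zero p)), Nat.Prime.factorization_pow hp.out]
  simp [Nat.factorization_eq_zero_of_not_dvd hm]

theorem comm_eq_pow {G : Type*} [Group G] {a b k : G} {e : ℕ} (h : a * b = b * a * k ^ e)
    (ha : Commute k a) (hb : Commute k b) : ⁅a, b⁆ = k ^ e := by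
  rw [commutatorElement_def, h, mul_assoc (b * a), ((ha.pow_left e).inv_right).eq]
  calc b * a * (a⁻¹ * k ^ e) * b⁻¹ = b * (k ^ e * b⁻¹) := by group
    _ = k ^ e := by rw [(hb.pow_left e).inv_right.eq, mul_inv_cancel_left]

/-- The natural numbers of a list of exponents. -/
def expAt (u : List ℕ) (i : Fin 4) : ℕ := u.getD i.val 0

theorem three_distinct : ((List.range 243).map fun c =>
    bases.map fun b => appW (formW [c % 3, c / 3 % 3, c / 9 % 3, c / 27 % 3] (c / 81)) b).Nodup := by
  decide +kernel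

theorem repW_formW {x : Fin 4 → grp} (hx : ∀ i, Rep (x i : Equiv.Perm (Fin 275)) (threeAt i.val))
    (hk : RepW ((⁅x 0, x 1⁆ : grp) : Equiv.Perm (Fin 275)) threeC) (u : List ℕ) (m : ℕ) :
    RepW ((Schur.InvertedGens.word x (expAt u) * ⁅x 0, x 1⁆ ^ m : grp) : Equiv.Perm (Fin 275))
      (formW u m) := by
  have h := repW_mul (repW_word (List.finRange 4) x (fun i => [threeAt i.val]) (expAt u)
    fun i => (hx i).toW) (repW_pow hk m)
  simpa [formW, Schur.InvertedGens.word, List.finRange_succ, expAt, List.append_assoc] using h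

theorem three_e_cert : ∀ i j x y : Fin 4,
    ((if x = i ∧ y = j then (1 : ZMod 3) else 0) -
      (if x = 0 ∧ y = 1 then (((threeE.getD i.val []).getD j.val 0 : ℕ) : ZMod 3) else 0) -
      ∑ r : Fin 5, (((threeCoef.getD (4 * i.val + j.val) []).getD r.val 0 : ℕ) : ZMod 3) *
        (((((threeConj.getD r.val ((0, []), ([], 0), ([], 0))).2.1.1.getD x.val 0 : ℕ)) : ZMod 3) *
        ((((threeConj.getD r.val ((0, []), ([], 0), ([], 0))).2.2.1.getD y.val 0 : ℕ)) : ZMod 3))) =
    ((if y = i ∧ x = j then (1 : ZMod 3) else 0) -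
      (if y = 0 ∧ x = 1 then (((threeE.getD i.val []).getD j.val 0 : ℕ) : ZMod 3) else 0) -
      ∑ r : Fin 5, (((threeCoef.getD (4 * i.val + j.val) []).getD r.val 0 : ℕ) : ZMod 3) *
        (((((threeConj.getD r.val ((0, []), ([], 0), ([], 0))).2.1.1.getD y.val 0 : ℕ)) : ZMod 3) *
        ((((threeConj.getD r.val ((0, []), ([], 0), ([], 0))).2.2.1.getD x.val 0 : ℕ)) : ZMod 3))) := by
  decide +kernel

/-- A kernel of exponent three in which the pair lifts to commuting elements is local-trivial. -/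
theorem local_three (hs : Function.Surjective σ) (hz : σ.ker ≤ center Γ)
    (hexp : ∀ z ∈ σ.ker, z ^ 3 = 1)
    (hAB : ∀ A B : Γ, Rep (σ A : Equiv.Perm (Fin 275)) elA → Rep (σ B : Equiv.Perm (Fin 275)) elB →
      Commute A B) :
    ∃ P : Sylow 3 Γ, ⁅(P : Subgroup Γ), (P : Subgroup Γ)⁆ ⊓ σ.ker = ⊥ := by
  have : Fact (Nat.Prime 3) := ⟨by norm_num⟩
  obtain ⟨x, t, d, hx, ht, hd⟩ := exists_three
  obtain ⟨-, -, -, -, htt, hd3, htd⟩ := three_elts_ok
  have hrules := three_rules_ok
  simp only [List.all_eq_true, List.mem_range, Bool.and_eq_true] at hrules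
  have hx3 : ∀ i, x i ^ 3 = 1 := fun i =>
    eq_of_word (repW_pow (hx i).toW 3) repW_nil (hrules i.val i.isLt).1.1.1.1
  have ht2 : t * t = 1 := eq_of_word (repW_mul ht.toW ht.toW) repW_nil htt
  have hd31 : d ^ 3 = 1 := eq_of_word (repW_pow hd.toW 3) repW_nil hd3
  have hdt : Commute d t := eq_of_word (repW_mul hd.toW ht.toW) (repW_mul ht.toW hd.toW) htd
  have hk : RepW ((⁅x 0, x 1⁆ : grp) : Equiv.Perm (Fin 275)) threeC :=
    repW_comm (k := 2) (hx 0) (hx 1) (hx3 0) (hx3 1)
  have hform := repW_formW hx hk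
  set k := ⁅x 0, x 1⁆ with hkdef
  have hinv : ∀ i, t * x i * t⁻¹ = (x i)⁻¹ := fun i => by
    rw [inv_eq_pow (hx3 i), mul_inv_eq_iff_eq_mul]
    exact eq_of_word (repW_mul ht.toW (hx i).toW) (repW_mul (repW_pow (hx i).toW 2) ht.toW)
      (hrules i.val i.isLt).1.1.1.2
  have hkc : ∀ i, Commute k (x i) := fun i =>
    eq_of_word (repW_mul hk (hx i).toW) (repW_mul (hx i).toW hk) (hrules i.val i.isLt).1.1.2
  have hdx : ∀ i : Fin 4, d * x i * d⁻¹ = Schur.InvertedGens.word x
      (expAt (threeD.getD i.val ([], 0)).1) * k ^ (threeD.getD i.val ([], 0)).2 := fun i => by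
    rw [mul_inv_eq_iff_eq_mul]
    exact eq_of_word (repW_mul hd.toW (hx i).toW) (repW_mul (hform _ _) hd.toW) (hrules i.val i.isLt).1.2
  let e : Fin 4 → Fin 4 → ℕ := fun i j => (threeE.getD i.val []).getD j.val 0
  have hswap : ∀ i j, x i * x j = x j * x i * k ^ e i j := fun i j =>
    eq_of_word (repW_mul (hx i).toW (hx j).toW)
      (by simpa only [List.append_assoc] using repW_mul (repW_mul (hx j).toW (hx i).toW) (repW_pow hk (e i j)))
      (by simpa only [List.append_assoc, List.singleton_append, List.cons_append, List.nil_append] using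
        (hrules i.val i.isLt).2 j.val j.isLt)
  have hk3 : k ^ 3 = 1 := by
    have h := (hrules 1 (by norm_num)).2 0 (by norm_num)
    refine (Schur.pow_commutator_eq_one (MonoidHom.id grp) (by simp) (hkc 0).symm ?_)
    simpa using hx3 0
  -- the group of normal forms and the Sylow subgroup
  let Q : Subgroup grp := closure (Set.range x)
  have hmemQ : ∀ u m, Schur.InvertedGens.word x u * k ^ m ∈ Q := by
    have hx' : ∀ i, x i ∈ Q := fun i => Subgroup.subset_closure (Set.mem_range_self i)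
    intro u m
    refine mul_mem (Subgroup.list_prod_mem _ fun y hy => ?_) (pow_mem ?_ _)
    · obtain ⟨i, -, rfl⟩ := List.mem_map.1 hy; exact pow_mem (hx' i) _
    · rw [hkdef, commutatorElement_def]
      exact mul_mem (mul_mem (mul_mem (hx' 0) (hx' 1)) (inv_mem (hx' 0))) (inv_mem (hx' 1))
  let enc : Fin 243 → Q := fun c => ⟨_, hmemQ
    (expAt [c.val % 3, c.val / 3 % 3, c.val / 9 % 3, c.val / 27 % 3]) (c.val / 81)⟩
  have hencinj : Function.Injective enc := by
    intro c c' h
    have h' : sameB (formW [c.val % 3, c.val / 3 % 3, c.val / 9 % 3, c.val / 27 % 3] (c.val / 81))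
        (formW [c'.val % 3, c'.val / 3 % 3, c'.val / 9 % 3, c'.val / 27 % 3] (c'.val / 81)) = true :=
      RepW.sameB (hform _ _) (hform _ _) (congrArg Subtype.val h)
    simp only [sameB, List.all_eq_true, beq_iff_eq] at h'
    exact Fin.ext (List.inj_on_of_nodup_map three_distinct (List.mem_range.2 c.isLt)
      (List.mem_range.2 c'.isLt) (List.map_congr_left h'))
  have hcode : ∀ (u : Fin 4 → Fin 3) (m : Fin 3), ∃ c : Fin 243,
      expAt [c.val % 3, c.val / 3 % 3, c.val / 9 % 3, c.val / 27 % 3] = (fun i => (u i).val) ∧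
        c.val / 81 = m.val := by
    intro u m
    refine ⟨⟨(u 0).val + 3 * (u 1).val + 9 * (u 2).val + 27 * (u 3).val + 81 * m.val, by omega⟩,
      funext fun i => ?_, by simp only; omega⟩
    fin_cases i <;> simp [expAt] <;> omega
  have hencsurj : Function.Surjective enc := by
    rintro ⟨y, hy⟩
    obtain ⟨u, m, rfl⟩ := Schur.InvertedGens.exists_form x k hswap hkc hx3 hk3 hy
    obtain ⟨c, h1, h2⟩ := hcode u m
    exact ⟨c, Subtype.ext (by simp only [enc, h1, h2])⟩
  have hcardQ : Nat.card Q = 243 := by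
    rw [← Nat.card_eq_of_bijective enc ⟨hencinj, hencsurj⟩, Nat.card_fin]
  have hinj : ∀ (u : Fin 4 → Fin 3) (m : Fin 3),
      Schur.InvertedGens.word x (fun i => (u i).val) * k ^ m.val = 1 →
      (∀ i, (u i).val = 0) ∧ m.val = 0 := by
    intro u m h
    obtain ⟨c, h1, h2⟩ := hcode u m
    have h0 : enc c = enc 0 := by
      refine Subtype.ext ?_
      show Schur.InvertedGens.word x _ * k ^ (c.val / 81) = Schur.InvertedGens.word x _ * k ^ ((0 : Fin 243).val / 81)
      rw [h1, h2, h]
      simp [Schur.InvertedGens.word, expAt, List.finRange_succ]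
    rw [hencinj h0] at h1 h2
    exact ⟨fun i => by have := congrFun h1 i; fin_cases i <;> simpa [expAt] using this.symm,
      by simpa using h2.symm⟩
  have hdQ : d ∉ Q := by
    intro h
    obtain ⟨c, hc⟩ := hencsurj ⟨d, h⟩
    have h1 := RepW.sameB hd.toW (hform _ _) (congrArg Subtype.val hc).symm
    have h2 := List.all_eq_true.1 three_inj.2 c.val (List.mem_range.2 c.isLt)
    rw [h1] at h2
    exact absurd h2 (by decide)
  have hdxQ : ∀ i, d * x i * d⁻¹ ∈ closure (Set.range x) := fun i => hdx i ▸ hmemQ _ _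
  have hdn : ∀ (j : ℕ) (q : grp), q ∈ Q → d ^ j * q * (d ^ j)⁻¹ ∈ Q := by
    intro j
    induction j with
    | zero => intro q hq; simpa using hq
    | succ j ih =>
      intro q hq
      have hc : Q ≤ Q.comap (MulAut.conj d).toMonoidHom := (closure_le _).2 (by
        rintro _ ⟨i, rfl⟩; exact hdxQ i)
      have := ih _ (hc hq)
      rw [show d ^ (j + 1) * q * (d ^ (j + 1))⁻¹ = d ^ j * (d * q * d⁻¹) * (d ^ j)⁻¹ by
        rw [pow_succ]; group]
      exact this
  let S : Subgroup grp := closure (Set.range x ∪ {d})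
  let encS : Q × Fin 3 → S := fun q => ⟨q.1.1 * d ^ q.2.val, mul_mem
    (Subgroup.closure_mono Set.subset_union_left q.1.2) (pow_mem (Subgroup.subset_closure (Set.mem_union_right _ (Set.mem_singleton d))) _)⟩
  have hcardS : Nat.card S = 3 ^ 6 := by
    have hinjS : Function.Injective encS := by
      rintro ⟨q, i⟩ ⟨q', j⟩ h
      have h' : q.1 * d ^ i.val = q'.1 * d ^ j.val := congrArg Subtype.val h
      have hij : i = j := by
        by_contra hne
        have hm : d ^ (i.val + (3 - j.val)) ∈ Q := by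
          have h3 : d ^ (3 - j.val) * d ^ j.val = 1 := by
            rw [← pow_add, Nat.sub_add_cancel j.isLt.le, hd31]
          have : d ^ i.val * d ^ (3 - j.val) = q.1⁻¹ * q'.1 := by
            rw [eq_inv_mul_iff_mul_eq, ← mul_assoc, h', mul_assoc, ← pow_add,
              Nat.add_sub_cancel' j.isLt.le, hd31, mul_one]
          rw [pow_add, this]
          exact mul_mem (inv_mem q.2) q'.2
        have key : ∀ a b : Fin 3, a ≠ b → ∃ s, (a.val + (3 - b.val)) * s % 3 = 1 := by
          intro a b hab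
          fin_cases a <;> fin_cases b <;> first | exact absurd rfl hab | exact ⟨1, rfl⟩ | exact ⟨2, rfl⟩
        obtain ⟨s, hs⟩ := key i j hne
        have := pow_mem hm s
        rw [← pow_mul, ← Nat.mod_add_div ((i.val + (3 - j.val)) * s) 3, hs, pow_add, pow_mul, hd31,
          one_pow, mul_one, pow_one] at this
        exact hdQ this
      subst hij
      exact Prod.ext (Subtype.ext (mul_right_cancel h')) rfl
    have hsurjS : Function.Surjective encS := by
      rintro ⟨y, hy⟩
      suffices h : ∀ w : grp, (∃ q ∈ Q, ∃ j : ℕ, w = q * d ^ j) → ∃ q ∈ Q, ∃ j : ℕ, w * y = q * d ^ j by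
        obtain ⟨q, hq, j, hj⟩ := h 1 ⟨1, one_mem _, 0, by simp⟩
        rw [one_mul] at hj
        refine ⟨(⟨q, hq⟩, ⟨j % 3, Nat.mod_lt _ (by norm_num)⟩), Subtype.ext ?_⟩
        show q * d ^ (j % 3) = y
        rw [hj, ← pow_eq_pow_mod j hd31]
      change y ∈ S at hy
      rw [← Subgroup.mem_toSubmonoid, Subgroup.closure_toSubmonoid_of_finite] at hy
      induction hy using Submonoid.closure_induction with
      | mem g hg =>
        rintro w ⟨q, hq, j, rfl⟩
        rcases hg with ⟨i, rfl⟩ | hg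
        · exact ⟨q * (d ^ j * x i * (d ^ j)⁻¹), mul_mem hq (hdn j _ (Subgroup.subset_closure (Set.mem_range_self i))), j, by group⟩
        · rw [Set.mem_singleton_iff.1 hg]
          exact ⟨q, hq, j + 1, by rw [pow_succ, mul_assoc]⟩
      | one => intro w hw; rwa [mul_one]
      | mul g g' _ _ ih ih' => intro w hw; rw [← mul_assoc]; exact ih' _ (ih w hw)
    rw [← Nat.card_eq_of_bijective encS ⟨hinjS, hsurjS⟩, Nat.card_prod, hcardQ, Nat.card_fin]
    norm_num
  obtain ⟨R, hR⟩ := sylow_of_card (p := 3) (k := 6) (m := 1232000) (by norm_num) (by norm_num) S hcardS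
  obtain ⟨P, hP⟩ := Schur.exists_sylow_map_eq σ hs R
  obtain ⟨hlen5, hconj⟩ := three_conj_ok
  have hpair : ∀ (r : Fin 5) (A B : Γ),
      σ A = Schur.InvertedGens.word x (expAt (threeConj.getD r.val ((0, []), ([], 0), ([], 0))).2.1.1) *
        k ^ (threeConj.getD r.val ((0, []), ([], 0), ([], 0))).2.1.2 →
      σ B = Schur.InvertedGens.word x (expAt (threeConj.getD r.val ((0, []), ([], 0), ([], 0))).2.2.1) *
        k ^ (threeConj.getD r.val ((0, []), ([], 0), ([], 0))).2.2.2 → Commute A B := by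
    intro r A B hA hB
    obtain ⟨a, b, ha, hb, -⟩ := exists_pair
    have hr : r.val < threeConj.length := by rw [hlen5]; exact r.isLt
    have hc := List.all_eq_true.1 hconj _ (List.getElem_mem hr)
    rw [← List.getD_eq_getElem _ ((0, []), ([], 0), ([], 0)) hr] at hc
    simp only [Bool.and_eq_true] at hc
    obtain ⟨⟨hg, hga⟩, hgb⟩ := hc
    obtain ⟨g₀, hg₀, hgr⟩ := exists_rep_word hg
    let g : grp := ⟨g₀, hg₀⟩
    obtain ⟨G', hG'⟩ := hs g
    have ea : g * a = σ A * g := by
      rw [hA]; exact eq_of_word (repW_mul hgr.toW ha.toW) (repW_mul (hform _ _) hgr.toW) hga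
    have eb : g * b = σ B * g := by
      rw [hB]; exact eq_of_word (repW_mul hgr.toW hb.toW) (repW_mul (hform _ _) hgr.toW) hgb
    have hA' : σ (G'⁻¹ * A * G') = a := by
      rw [map_mul, map_mul, map_inv, hG', mul_assoc, ← ea, inv_mul_cancel_left]
    have hB' : σ (G'⁻¹ * B * G') = b := by
      rw [map_mul, map_mul, map_inv, hG', mul_assoc, ← eb, inv_mul_cancel_left]
    have h := hAB (G'⁻¹ * A * G') (G'⁻¹ * B * G') (by rw [hA']; exact ha) (by rw [hB']; exact hb)
    have h2 := h.map (MulAut.conj G').toMonoidHom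
    simpa [mul_assoc] using h2
  refine ⟨P, Schur.InvertedGens.commutator_inf_ker_eq_bot_of_inverted_gens (p := 3) (by norm_num) σ hs
    hz hexp x t d ht2 hinv hx3 0 1 e (fun i j => comm_eq_pow (hswap i j) (hkc i) (hkc j)) hkc hinj
    (fun r : Fin 5 => expAt (threeConj.getD r.val ((0, []), ([], 0), ([], 0))).2.1.1)
    (fun r : Fin 5 => expAt (threeConj.getD r.val ((0, []), ([], 0), ([], 0))).2.2.1)
    (fun r : Fin 5 => (threeConj.getD r.val ((0, []), ([], 0), ([], 0))).2.1.2)
    (fun r : Fin 5 => (threeConj.getD r.val ((0, []), ([], 0), ([], 0))).2.2.2) hpair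
    (fun i j r => (threeCoef.getD (4 * i.val + j.val) []).getD r.val 0)
    (fun i j => ⟨fun a b => (if a = i ∧ b = j then (1 : ZMod 3) else 0) -
      (if a = 0 ∧ b = 1 then (e i j : ZMod 3) else 0) -
      ∑ r : Fin 5, (((threeCoef.getD (4 * i.val + j.val) []).getD r.val 0 : ℕ) : ZMod 3) *
        ((expAt (threeConj.getD r.val ((0, []), ([], 0), ([], 0))).2.1.1 a : ZMod 3) *
          (expAt (threeConj.getD r.val ((0, []), ([], 0), ([], 0))).2.2.1 b : ZMod 3)),
      three_e_cert i j, fun a b => by ring⟩)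
    hdt hdxQ (P : Subgroup Γ) (le_of_eq (hP.trans hR))⟩

theorem five_distinct : ((List.range 125).map fun c =>
    bases.map fun b => appW (fiveW (c % 5) (c / 5 % 5) (c / 25)) b).Nodup := by decide +kernel

theorem five_e_cert : ∀ i j a b : Fin 2,
    ((if a = i ∧ b = j then (1 : ZMod 5) else 0) -
      (if a = 0 ∧ b = 1 then (((![![0, 1], ![4, 0]] : Fin 2 → Fin 2 → ℕ) i j : ℕ) : ZMod 5) else 0)) =
    ((if b = i ∧ a = j then (1 : ZMod 5) else 0) -
      (if b = 0 ∧ a = 1 then (((![![0, 1], ![4, 0]] : Fin 2 → Fin 2 → ℕ) i j : ℕ) : ZMod 5) else 0)) := by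
  decide

/-- A kernel of exponent five is local-trivial. -/
theorem local_five (hs : Function.Surjective σ) (hz : σ.ker ≤ center Γ)
    (hexp : ∀ z ∈ σ.ker, z ^ 5 = 1) :
    ∃ P : Sylow 5 Γ, ⁅(P : Subgroup Γ), (P : Subgroup Γ)⁆ ⊓ σ.ker = ⊥ := by
  have : Fact (Nat.Prime 5) := ⟨by norm_num⟩
  obtain ⟨hlen, hw, htt, hrules, hnid⟩ := five_ok
  simp only [List.all_eq_true, List.mem_range, Bool.and_eq_true] at hrules
  obtain ⟨a, ha⟩ := rep_of_list fiveData hw 0 (by rw [hlen]; norm_num)
  obtain ⟨b, hb⟩ := rep_of_list fiveData hw 1 (by rw [hlen]; norm_num)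
  obtain ⟨t, ht⟩ := rep_of_list fiveData hw 2 (by rw [hlen]; norm_num)
  have ha5 : a ^ 5 = 1 := eq_of_word (repW_pow ha.toW 5) repW_nil (hrules 0 (by norm_num)).1.1
  have hb5 : b ^ 5 = 1 := eq_of_word (repW_pow hb.toW 5) repW_nil (hrules 1 (by norm_num)).1.1
  have ht2 : t * t = 1 := eq_of_word (repW_mul ht.toW ht.toW) repW_nil htt
  have hk : RepW ((⁅a, b⁆ : grp) : Equiv.Perm (Fin 275)) fiveC := repW_comm (k := 4) ha hb ha5 hb5
  set k := ⁅a, b⁆ with hkdef
  let x : Fin 2 → grp := ![a, b]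
  have hx5 : ∀ i, x i ^ 5 = 1 := Fin.forall_fin_two.2 ⟨ha5, hb5⟩
  have hx : ∀ i : Fin 2, Rep (x i : Equiv.Perm (Fin 275)) (fiveAt i.val) := Fin.forall_fin_two.2 ⟨ha, hb⟩
  have hinv : ∀ i, t * x i * t⁻¹ = (x i)⁻¹ := fun i => by
    rw [inv_eq_pow (hx5 i), mul_inv_eq_iff_eq_mul]
    exact eq_of_word (repW_mul ht.toW (hx i).toW) (repW_mul (repW_pow (hx i).toW 4) ht.toW)
      (hrules i.val i.isLt).1.2
  have hkc : ∀ i, Commute k (x i) := fun i =>
    eq_of_word (repW_mul hk (hx i).toW) (repW_mul (hx i).toW hk) (hrules i.val i.isLt).2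
  have hk5 : k ^ 5 = 1 :=
    Schur.pow_commutator_eq_one (MonoidHom.id grp) (by simp) (hkc 0).symm (by simpa using ha5)
  let e : Fin 2 → Fin 2 → ℕ := ![![0, 1], ![4, 0]]
  have he : ∀ i j, ⁅x i, x j⁆ = k ^ e i j := by
    refine Fin.forall_fin_two.2 ⟨Fin.forall_fin_two.2 ⟨?_, ?_⟩, Fin.forall_fin_two.2 ⟨?_, ?_⟩⟩
    · show ⁅a, a⁆ = k ^ 0; rw [commutatorElement_self, pow_zero]
    · show ⁅a, b⁆ = k ^ 1; rw [pow_one]
    · show ⁅b, a⁆ = k ^ 4; rw [← commutatorElement_inv, ← hkdef, inv_eq_pow hk5]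
    · show ⁅b, b⁆ = k ^ 0; rw [commutatorElement_self, pow_zero]
  have hswap : ∀ i j, x i * x j = x j * x i * k ^ e i j := fun i j => by
    have h := he i j
    rw [commutatorElement_def, mul_inv_eq_iff_eq_mul, mul_inv_eq_iff_eq_mul] at h
    rw [h, mul_assoc, ← ((hkc j).mul_right (hkc i)).pow_left (e i j) |>.eq]
  have hform : ∀ u v m : ℕ, RepW ((Schur.InvertedGens.word x ![u, v] * k ^ m : grp) : Equiv.Perm (Fin 275))
      (fiveW u v m) := by
    intro u v m
    have h := repW_mul (repW_word (List.finRange 2) x (fun i => [fiveAt i.val]) ![u, v]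
      fun i => (hx i).toW) (repW_pow hk m)
    simpa [fiveW, Schur.InvertedGens.word, List.finRange_succ, List.append_assoc] using h
  have hinj : ∀ (u : Fin 2 → Fin 5) (m : Fin 5),
      Schur.InvertedGens.word x (fun i => (u i).val) * k ^ m.val = 1 →
      (∀ i, (u i).val = 0) ∧ m.val = 0 := by
    intro u m h
    rw [show (fun i => (u i).val) = ![(u 0).val, (u 1).val] from funext (Fin.forall_fin_two.2 ⟨rfl, rfl⟩)] at h
    have hc := List.all_eq_true.1 hnid ((u 0).val + 5 * (u 1).val + 25 * m.val)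
      (List.mem_range.2 (by omega))
    simp only [Bool.or_eq_true, beq_iff_eq, Bool.not_eq_eq_eq_not, Bool.not_true] at hc
    rcases hc with hc | hc
    · exact ⟨Fin.forall_fin_two.2 ⟨by omega, by omega⟩, by omega⟩
    · rw [show ((u 0).val + 5 * (u 1).val + 25 * m.val) % 5 = (u 0).val by omega,
        show ((u 0).val + 5 * (u 1).val + 25 * m.val) / 5 % 5 = (u 1).val by omega,
        show ((u 0).val + 5 * (u 1).val + 25 * m.val) / 25 = m.val by omega] at hc
      exact absurd (RepW.sameB (hform _ _ _) repW_nil h) (by rw [hc]; decide)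
  -- the Sylow subgroup
  let S : Subgroup grp := closure (Set.range x)
  have hcard : Nat.card S = 5 ^ 3 := by
    obtain ⟨P₀⟩ : Nonempty (Sylow 5 grp) := inferInstance
    have hsurj : Function.Surjective
        (fun q : (Fin 2 → Fin 5) × Fin 5 => (⟨Schur.InvertedGens.word x (fun i => (q.1 i).val) * k ^ q.2.val,
          mul_mem (Subgroup.list_prod_mem _ fun y hy => by
            obtain ⟨i, -, rfl⟩ := List.mem_map.1 hy
            exact pow_mem (Subgroup.subset_closure (Set.mem_range_self i)) _) (pow_mem (by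
              rw [hkdef, commutatorElement_def]
              exact mul_mem (mul_mem (mul_mem (Subgroup.subset_closure (Set.mem_range_self 0)) (Subgroup.subset_closure (Set.mem_range_self 1)))
                (inv_mem (Subgroup.subset_closure (Set.mem_range_self 0)))) (inv_mem (Subgroup.subset_closure (Set.mem_range_self 1)))) _)⟩ : S)) := by
      rintro ⟨y, hy⟩
      obtain ⟨u, m, rfl⟩ := Schur.InvertedGens.exists_form x k hswap hkc hx5 hk5 hy
      exact ⟨(u, m), rfl⟩
    rw [← Nat.card_eq_of_bijective _ ⟨fun q q' h => ?_, hsurj⟩]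
    · simp [Nat.card_eq_fintype_card]
    · have h' := RepW.sameB (hform (q.1 0).val (q.1 1).val q.2.val) (hform (q'.1 0).val (q'.1 1).val q'.2.val) (by
        have := congrArg Subtype.val h
        simp only at this
        rwa [show (fun i => (q.1 i).val) = ![(q.1 0).val, (q.1 1).val] from
            funext (Fin.forall_fin_two.2 ⟨rfl, rfl⟩),
          show (fun i => (q'.1 i).val) = ![(q'.1 0).val, (q'.1 1).val] from
            funext (Fin.forall_fin_two.2 ⟨rfl, rfl⟩)] at this)
      simp only [sameB, List.all_eq_true, beq_iff_eq] at h'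
      have h2 := List.inj_on_of_nodup_map five_distinct
        (x := ((q.1 0).val + 5 * (q.1 1).val + 25 * q.2.val))
        (List.mem_range.2 (by omega)) (y := ((q'.1 0).val + 5 * (q'.1 1).val + 25 * q'.2.val))
        (List.mem_range.2 (by omega)) (by
          refine List.map_congr_left fun w hw => ?_
          rw [show ((q.1 0).val + 5 * (q.1 1).val + 25 * q.2.val) % 5 = (q.1 0).val by omega,
            show ((q.1 0).val + 5 * (q.1 1).val + 25 * q.2.val) / 5 % 5 = (q.1 1).val by omega,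
            show ((q.1 0).val + 5 * (q.1 1).val + 25 * q.2.val) / 25 = q.2.val by omega,
            show ((q'.1 0).val + 5 * (q'.1 1).val + 25 * q'.2.val) % 5 = (q'.1 0).val by omega,
            show ((q'.1 0).val + 5 * (q'.1 1).val + 25 * q'.2.val) / 5 % 5 = (q'.1 1).val by omega,
            show ((q'.1 0).val + 5 * (q'.1 1).val + 25 * q'.2.val) / 25 = q'.2.val by omega]
          exact h' w hw)
      exact Prod.ext (funext (Fin.forall_fin_two.2 ⟨Fin.ext (by omega), Fin.ext (by omega)⟩)) (Fin.ext (by omega))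
  obtain ⟨R, hR⟩ := sylow_of_card (p := 5) (k := 3) (m := 7185024) (by norm_num) (by norm_num) S hcard
  obtain ⟨P, hP⟩ := Schur.exists_sylow_map_eq σ hs R
  refine ⟨P, Schur.InvertedGens.commutator_inf_ker_eq_bot_of_inverted_gens (p := 5) (by norm_num) σ hs
    hz hexp x t 1 ht2 hinv hx5 0 1 e he hkc hinj (ι := Fin 0) Fin.elim0 Fin.elim0 Fin.elim0 Fin.elim0
    (fun r => Fin.elim0 r) (fun _ _ => Fin.elim0)
    (fun i j => ⟨fun a b => (if a = i ∧ b = j then (1 : ZMod 5) else 0) -
      (if a = 0 ∧ b = 1 then (e i j : ZMod 5) else 0), five_e_cert i j, fun a b => by simp⟩)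
    (Commute.one_left t) (fun i => by simpa using Subgroup.subset_closure (Set.mem_range_self i)) (P : Subgroup Γ) ?_⟩
  exact (hP.trans hR).le.trans (Subgroup.closure_mono Set.subset_union_left)

end Cfsg.Agent.McL275.Mult
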