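import Cfsg.Agent.Lib.McL275.MultLocal

/-!
The Schur multiplier of the McLaughlin group is cyclic of order 3.
-/

set_option autoImplicit false
set_option maxRecDepth 100000

namespace Cfsg.Agent.McL275.Mult

open PermWide Subgroup
open scoped commutatorElement

theorem prime_of_sq_dvd {p : ℕ} (hp : p.Prime) (h : p ^ 2 ∣ 898128000) : p = 2 ∨ p = 3 ∨ p = 5 := by
  have h1 : p ∣ 2 ^ 7 * 3 ^ 6 * 5 ^ 3 * 77 := by
    refine (dvd_pow_self p two_ne_zero).trans ?_
    norm_num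
    exact h
  have e : ∀ q : ℕ, q.Prime → p ∣ q → p = q := fun q hq hd => (Nat.prime_dvd_prime_iff_eq hp hq).1 hd
  rcases hp.dvd_mul.1 h1 with h2 | h2
  · rcases hp.dvd_mul.1 h2 with h3 | h3
    · rcases hp.dvd_mul.1 h3 with h4 | h4
      · exact Or.inl (e 2 Nat.prime_two (hp.dvd_of_dvd_pow h4))
      · exact Or.inr (Or.inl (e 3 Nat.prime_three (hp.dvd_of_dvd_pow h4)))
    · exact Or.inr (Or.inr (e 5 (by norm_num) (hp.dvd_of_dvd_pow h3)))
  · exfalso
    rcases hp.dvd_mul.1 (show p ∣ 7 * 11 from h2) with h3 | h3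
    · have := e 7 (by norm_num) h3
      subst this
      norm_num at h
    · have := e 11 (by norm_num) h3
      subst this
      norm_num at h

variable {Γ : Type} [Group Γ] [Finite Γ]

/-- A stem extension with kernel of prime exponent in which the pair lifts to commuting elements when
the prime is 3 is injective. -/
theorem ker_eq_bot (σ : Γ →* grp) (hσ : Cfsg.IsStemExtension σ) {p : ℕ} (hp : p.Prime)
    (hexp : ∀ z ∈ σ.ker, z ^ p = 1)
    (hAB : ∀ A B : Γ, Rep (σ A : Equiv.Perm (Fin 275)) elA → Rep (σ B : Equiv.Perm (Fin 275)) elB →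
      Commute A B) : σ.ker = ⊥ := by
  obtain ⟨hs, hz, hc⟩ := hσ
  have := Fact.mk hp
  by_cases h : p ^ 2 ∣ Nat.card grp
  · rw [card_grp] at h
    rcases prime_of_sq_dvd hp h with rfl | rfl | rfl
    · refine Schur.ker_eq_bot_of_local σ hz hc Nat.prime_two hexp (centG.comap σ) ?_ (local_two σ hs hz)
      rw [index_comap_of_surjective _ hs]
      exact centG_index
    · obtain ⟨P, hP⟩ := local_three σ hs hz hexp hAB
      exact Schur.ker_eq_bot_of_local σ hz hc hp hexp P P.not_dvd_index hP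
    · obtain ⟨P, hP⟩ := local_five σ hs hz hexp
      exact Schur.ker_eq_bot_of_local σ hz hc hp hexp P P.not_dvd_index hP
  · obtain ⟨P, hP⟩ := Schur.local_of_not_sq_dvd σ hs hz hp h
    exact Schur.ker_eq_bot_of_local σ hz hc hp hexp P P.not_dvd_index hP

/-- The kernel of a stem extension is a quotient of the cyclic group of order 3. -/
theorem stem_le_three (σ : Γ →* grp) (hσ : Cfsg.IsStemExtension σ) :
    ∃ π : Multiplicative (ZMod 3) →* σ.ker, Function.Surjective π := by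
  obtain ⟨hs, hz, hc⟩ := hσ
  obtain ⟨a, b, ha, hb, hab, ha3, -⟩ := exists_pair
  obtain ⟨A, hA⟩ := hs a
  obtain ⟨B, hB⟩ := hs b
  set c := ⁅A, B⁆ with hcdef
  have hck : c ∈ σ.ker := by
    rw [MonoidHom.mem_ker, hcdef, map_commutatorElement, hA, hB, commutatorElement_eq_one_iff_mul_comm]
    exact hab
  have hc3 : c ^ 3 = 1 :=
    Schur.pow_commutator_eq_one σ hz (mem_center_iff.1 (hz hck) A) (by rw [hA]; exact ha3)
  refine Schur.exists_surjective_zmod_of_le_zpowers σ.ker 3 (c := c) (Schur.ker_le_of_exponent σ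
    ⟨hs, hz, hc⟩ _ (zpowers_le.2 hck) fun p hp M _ hM hDM hst hexp => ?_) hc3
  refine ker_eq_bot _ hst hp hexp fun x y hx hy => ?_
  obtain ⟨x, rfl⟩ := QuotientGroup.mk_surjective x
  obtain ⟨y, rfl⟩ := QuotientGroup.mk_surjective y
  have e : ⁅x, y⁆ = c := Schur.commutatorElement_eq_of_map_eq σ hz
    ((Subtype.ext (Rep.unique (hx : Rep (σ x : Equiv.Perm (Fin 275)) _) ha) : σ x = a).trans hA.symm)
    ((Subtype.ext (Rep.unique (hy : Rep (σ y : Equiv.Perm (Fin 275)) _) hb) : σ y = b).trans hB.symm)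
  have h1 : QuotientGroup.mk' M ⁅x, y⁆ = 1 :=
    (QuotientGroup.eq_one_iff _).2 (hDM (e ▸ mem_zpowers c))
  rw [map_commutatorElement] at h1
  exact commutatorElement_eq_one_iff_commute.1 h1

/-- The multiplier of the model. -/
theorem multiplier_grp : Cfsg.HasCyclicSchurMultiplier grp 3 := by
  refine ⟨?_, fun Δ _ _ τ hτ => stem_le_three τ hτ⟩
  obtain ⟨E, iG, iF, σ, hσ, hcard⟩ := exists_stem_three
  refine ⟨E, iG, iF, σ, hσ, ?_⟩
  obtain ⟨π, hπ⟩ := stem_le_three σ hσ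
  exact ⟨(MulEquiv.ofBijective π ((Nat.bijective_iff_surjective_and_card π).2
    ⟨hπ, by rw [hcard, Nat.card_congr Multiplicative.toAdd, Nat.card_zmod]⟩)).symm⟩

/-- The multiplier of the McLaughlin group. -/
theorem multiplier_mcl : Cfsg.HasCyclicSchurMultiplier ↥Cfsg.Spor.McL 3 := by
  obtain ⟨e⟩ := mcl_equiv_grp
  obtain ⟨⟨E, iE, iF, σ, hσ, ⟨k⟩⟩, h2⟩ := multiplier_grp
  have hker : (e.symm.toMonoidHom.comp σ).ker = σ.ker := by ext x; simp
  refine ⟨⟨E, iE, iF, e.symm.toMonoidHom.comp σ,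
    ⟨e.symm.surjective.comp hσ.1, by rw [hker]; exact hσ.2.1, by rw [hker]; exact hσ.2.2⟩,
    ⟨(MulEquiv.subgroupCongr hker).trans k⟩⟩, fun Δ _ _ τ hτ => ?_⟩
  have hker' : (e.toMonoidHom.comp τ).ker = τ.ker := by ext x; simp
  obtain ⟨π, hπ⟩ := h2 Δ (e.toMonoidHom.comp τ)
    ⟨e.surjective.comp hτ.1, by rw [hker']; exact hτ.2.1, by rw [hker']; exact hτ.2.2⟩
  exact ⟨(MulEquiv.subgroupCongr hker').toMonoidHom.comp π,
    (MulEquiv.subgroupCongr hker').surjective.comp hπ⟩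

end Cfsg.Agent.McL275.Mult
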