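import Cfsg.Agent.Lib.PermWide.Basic

/-!
Certificate data for the outer automorphism group: normalised generators, relations and an outer element.
-/

set_option autoImplicit false
set_option maxRecDepth 100000

namespace Cfsg.Agent.McL275

/-- An element normalising the subgroup of order eleven. -/
def elY : ℕ := 0x210dc88718002ed31e17cba444c3f0d2f900b484e9e4caa03e0c27ad8b2074a0dd3a4a769ac34de4d3e8e68b7e80892e821b09b30d863e2241d14998deef200f4dae20cab9dccd4e23502166b83596123d91982c90dbdcf9042bc24faec748e42a2b51bc074ea551500a79789c8d91033b808ea05fc2e027e01a9194c73d1c5e4a1032ecb10f14039ea212e30d521e262d026c46b362068c242f9750a528b0e07867b6a0c8016b9c702e124015e236fbd8eaeb5aaccb4e45c0c5f6c556114ec874922414cc60219b67f58154a5115302520ff4fa8830d57a39882207298914771782c2263281a210267f438c04b3a37060141daf038c882af54e424ab192e2a30ac4a208022092636199a95ad47094d22251f8c91e4d2dac81ece4299136b783b415634418f8bcd1110d4ac4e47259e6b932b760410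

/-- Its square. -/
def elYj : ℕ := 0x1e0630a860410a9c0a2c0a42610830ec598123466bb7a9f87ed172951208e0f414b00b39ab16466072d96a480fb7422e87f424da176981d088f49a25709a258c1f6f807b81f4cb87c0e0c640c978f6d0121a0fac12da505cf94f974708b2487136043d379780285b55e6af0d2cd8a8849074a0a1748f04ee732b1c8c1b80168d6f24b28dfee31b0f93a918895e02323b9e60f0457388028c318e5e05f65021c8236b8f5f8802890d90b16a278cee1148dceafd02bc4130d7525c9e7c50421eca55a2e86a12760b0802d88061cc6e521598899031c59cee25308c0256ca197cdf3088956c01021c886a54000fe2f75bbc54b71d8ac9ac934854070e54bdcb8826d9b0824e5cb6898bd4a9148ecd893d026ad3a319ac8a531c9060d3833050aa4c0597e4267b70aa8129a9d44626c30dda3a051bda434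

/-- A conjugate of the first generator adapted to the base. -/
def elXc : ℕ := 0x211d2042f41d88c869bc5d6e42e9e16aa60a06d82f530a4180d83684c763e29894f2bc0116c0ed910b79c0e30f0fd468e249d082991aa36246c7e84406b922188123d21424a2cc4bb5914a97b8b9007c31b98b4521340094235b440aab25db5d8e4652ab81eab4c2d058f4029c1def07dba0dc9f513457ada56961587f62c361d113491d482b13a80a89a44831f28f73a789a6a6dc0d86086a0d90ab12197e140067a4c96596a932025c408e59d042743174aa6ea5850104d855febe333b5166569035a0830f959f0310d0e802bf0b088f61c53a859a9c1543df4f20b8ce04b70c9f994a81e1bd1092630d1ecb84637060c965848ce503aa081c3248bf85a9d389c8eec2798e0167a71394d04870a512aea228bc5257053b0faaf829920cee7e1ac6e200c2c0ec87279810cdf39ace101d858184840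

/-- A word in the representatives. -/
def wordY : List (ℕ × ℕ) := [(4, 6), (3, 13), (2, 26), (1, 21), (0, 176)]

/-- A word in the representatives. -/
def wordXc : List (ℕ × ℕ) := [(4, 2), (3, 26), (2, 26), (1, 21), (0, 176)]

/-- The conjugating word. -/
def wordH : List (ℕ × ℕ) := [(4, 1), (3, 6), (2, 41), (1, 7), (0, 146)]

/-- Relations between the generators. -/
def relations : List (List (ℕ × ℕ) × ℕ) := [
  ([(2, 1)], 12),
  ([(3, 3), (5, 2)], 12),
  ([(4, 3), (1, 3), (3, 2)], 5)]

/-- The two possible images. -/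
def allowed : List (ℕ × List (ℕ × ℕ)) := [
  (1, [(4, 2), (3, 2), (2, 68), (1, 84), (0, 87)]),
  (1, [(4, 0), (3, 0), (2, 0), (1, 0), (0, 2)])]

/-- An outer element. -/
def delta : ℕ := 0x449c6b528989ecf210815ba0450051185e4c29473007dbd158a74f1bda81f2c354b63678888beb16c001647020be10e1a7485cee6875bf5c269553bd1c0806909bea15e8dc98556438852326598d00cf0c25c36c713aa58c8d20008602b3b1e4707c5b1c8d8133c265da4303c41e0ae6bac1b2d27e2b474a42327463014a80dbcc4171694c57303287ac31ac25a00a2a39cfe902925a0ee8458a10c754927ce68441849263b6d19dfcce7b9e8542587b91747416220cae027430e3040aba9d8bf2498496cd5e0b4cc1e1f2e420b77abfcb24a479582c3c5a271ca7e87111370d369eca0be00aad0afa0ca462303033cd76813231550af601f534d11a28c388a05a249e456b12066c169824b824119b9921135134190285c14a6cc733e4d6201320a0c5d07839dca24a0bd71081facd84dc0ec288edb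

/-- The conjugate of the first generator by it. -/
def wordDX : List (ℕ × ℕ) := [(4, 5), (3, 18), (2, 24), (1, 59), (0, 73)]

/-- The conjugate of the second generator by it. -/
def wordDT : List (ℕ × ℕ) := [(4, 3), (3, 18), (2, 5), (1, 4), (0, 23)]


end Cfsg.Agent.McL275
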