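import Cfsg.Agent.Lib.Presented.Table

/-!
Certificates about the subgroup generated by two or three elements of the point stabiliser.
-/

set_option autoImplicit false

namespace Cfsg.Agent.McL275.RankData

/-- A tree of points: each entry is a point, the position of its parent and a word number. -/
abbrev PTree : Type := List (ℕ × ℕ × ℕ)

/-- A certificate about the subgroups of order 20160 that contain the listed elements. -/
inductive Cert where
  /-- Words for the two generators of one of the two given subgroups. -/
  | gens (which : ℕ) (ws : List (List ℕ))
  /-- An orbit of more than 56 points and levels of exact orbits of words fixing a point. -/
  | big (orb : PTree) (q : ℕ) (levels : List (List (List ℕ) × PTree))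

end Cfsg.Agent.McL275.RankData
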