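import Cfsg.Agent.Lib.McL275.RankClassChecks
import Mathlib.GroupTheory.Sylow
import Mathlib.GroupTheory.GroupAction.ConjAct

/-!
The subgroups of orders 29160 and 20160 of the point stabiliser of the McLaughlin group: one class of the
first order and two classes, exchanged by an automorphism, of the second.
-/

set_option autoImplicit false
set_option maxRecDepth 100000

namespace Cfsg.Agent.McL275.Rank

attribute [local irreducible] RankData.tProp RankData.tPar RankData.tAct

open RankData MulAction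
open Cfsg.Agent.Presented (NTree force force_eq wval wval_append)
open scoped Pointwise

/-- The conjugate subgroup of elements whose conjugate by `h` lies in `M`. -/
noncomputable def cj (h : H) (M : Subgroup H) : Subgroup H := M.comap (MulAut.conj h).toMonoidHom

theorem mem_cj {h x : H} {M : Subgroup H} : x ∈ cj h M ↔ h * x * h⁻¹ ∈ M := Iff.rfl

theorem cj_cj (a b : H) (M : Subgroup H) : cj b (cj a M) = cj (a * b) M := by
  ext x
  simp only [mem_cj, mul_inv_rev, mul_assoc]

theorem cj_one (M : Subgroup H) : cj 1 M = M := by ext x; simp [mem_cj]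

theorem cj_inv_eq {h : H} {M K : Subgroup H} (e : cj h M = K) : M = cj h⁻¹ K := by
  rw [← e, cj_cj, mul_inv_cancel, cj_one]

theorem card_cj (h : H) (M : Subgroup H) : Nat.card (cj h M) = Nat.card M :=
  Nat.card_congr ((MulAut.conj h).toEquiv.subtypeEquiv fun _ => Iff.rfl)

theorem cj_stab (h : H) (p : Fin 275) : cj h (stabilizer H p) = stabilizer H (h⁻¹ • p) := by
  ext x
  rw [mem_cj, mem_stabilizer_iff, mem_stabilizer_iff, mul_smul, mul_smul, smul_eq_iff_eq_inv_smul]

/-- A subgroup is conjugate to one of the two given subgroups of order 20160. -/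
def IsLL (M : Subgroup H) : Prop := ∃ h : H, M = cj h L ∨ M = cj h L'

theorem IsLL.of_cj {h : H} {M : Subgroup H} (hl : IsLL (cj h M)) : IsLL M := by
  obtain ⟨a, e | e⟩ := hl
  · exact ⟨a * h⁻¹, Or.inl (by rw [← cj_cj]; exact cj_inv_eq e)⟩
  · exact ⟨a * h⁻¹, Or.inr (by rw [← cj_cj]; exact cj_inv_eq e)⟩

/-- A `p`-subgroup is conjugate into a subgroup containing a full `p`-part. -/
theorem exists_conj_le {G : Type*} [Group G] [Finite G] {p : ℕ} [Fact p.Prime] {M R : Subgroup G}
    (hR : IsPGroup p R) (hM : p ^ (Nat.card G).factorization p ∣ Nat.card M) :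
    ∃ h : G, ∀ r ∈ R, h * r * h⁻¹ ∈ M := by
  obtain ⟨S, hS⟩ := Sylow.exists_subgroup_card_pow_prime p hM
  have hc : Nat.card (S.map M.subtype) = p ^ (Nat.card G).factorization p := by
    rw [← hS]; exact (Nat.card_congr (S.equivMapOfInjective _ M.subtype_injective).toEquiv).symm
  obtain ⟨R', hR'⟩ := hR.exists_le_sylow
  obtain ⟨h, hh⟩ := MulAction.exists_smul_eq G R' (Sylow.ofCard (S.map M.subtype) hc)
  refine ⟨h, fun r hr => ?_⟩
  have h1 : h * r * h⁻¹ ∈ (h • R' : Sylow p G) := by
    show h * r * h⁻¹ ∈ (h • R').toSubgroup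
    rw [Sylow.coe_subgroup_smul]
    exact ⟨r, hR' hr, rfl⟩
  rw [hh] at h1
  exact Subgroup.map_subtype_le _ (show h * r * h⁻¹ ∈ S.map M.subtype from h1)

theorem fact_card {p k m : ℕ} (hp : p.Prime) (hm : ¬ p ∣ m) (h : 3265920 = p ^ k * m) :
    (Nat.card H).factorization p = k := by
  rw [card_H, h, Nat.factorization_mul (pow_ne_zero _ hp.ne_zero) (by rintro rfl; simp at hm),
    Finsupp.add_apply, hp.factorization_pow, Finsupp.single_eq_same,
    Nat.factorization_eq_zero_of_not_dvd hm, add_zero]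

theorem wH_replicate (g : ℕ) : ∀ n, wH (List.replicate n g) = elH g ^ n
  | 0 => rfl
  | n + 1 => by
    rw [List.replicate_succ', wH_append, wH_replicate g n, wH_single, pow_succ']

theorem isPGroup_zpowers {p n : ℕ} {u : H} (hu : u ^ p ^ n = 1) :
    IsPGroup p (Subgroup.zpowers u) := by
  rintro ⟨y, hy⟩
  obtain ⟨m, rfl⟩ := Subgroup.mem_zpowers_iff.1 hy
  refine ⟨n, Subtype.ext ?_⟩
  show (u ^ m) ^ p ^ n = 1
  rw [← zpow_natCast, ← zpow_mul, mul_comm, zpow_mul, zpow_natCast, hu, one_zpow]

theorem mem_orbit_map {M : Subgroup H} {x y : Fin 275} :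
    y ∈ orbit (M.map H.subtype) x ↔ y ∈ orbit M x := by
  constructor
  · rintro ⟨⟨_, m, hm, rfl⟩, rfl⟩
    exact ⟨⟨m, hm⟩, rfl⟩
  · rintro ⟨⟨m, hm⟩, rfl⟩
    exact ⟨⟨(m : Equiv.Perm (Fin 275)), Subgroup.mem_map_of_mem _ hm⟩, rfl⟩

theorem card_map_subtype (M : Subgroup H) : Nat.card (M.map H.subtype) = Nat.card M :=
  Subgroup.card_map_of_injective H.subtype_injective

theorem wval_mem_map {M : Subgroup H} {w : List ℕ} (h : wH w ∈ M) :
    wval el w ∈ M.map H.subtype := by
  rw [← coe_wH]; exact Subgroup.mem_map_of_mem H.subtype h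

/-! ### Subgroups of order 29160 -/

/-- The first `k` generators of the 3-group generate it. -/
noncomputable def Pk (k : ℕ) : Subgroup H :=
  Subgroup.closure ((fun j => elH (14 + j)) '' {j | j < k})

theorem Pk_succ (k : ℕ) : Pk (k + 1) = Subgroup.zpowers (elH (14 + k)) ⊔ Pk k := by
  rw [Pk, Pk, Subgroup.zpowers_eq_closure, ← Subgroup.closure_union]
  congr 1
  ext x
  simp only [Set.mem_image, Set.mem_ofPred_eq, Set.mem_union, Set.mem_singleton_iff]
  constructor
  · rintro ⟨j, hj, rfl⟩
    rcases Nat.lt_succ_iff_lt_or_eq.1 hj with h | rfl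
    · exact Or.inr ⟨j, h, rfl⟩
    · exact Or.inl rfl
  · rintro (rfl | ⟨j, hj, rfl⟩)
    · exact ⟨k, Nat.lt_succ_self k, rfl⟩
    · exact ⟨j, Nat.lt_succ_of_lt hj, rfl⟩

theorem Pk_isPGroup : ∀ k ≤ 6, IsPGroup 3 (Pk k) := by
  intro k
  induction k with
  | zero =>
    intro _
    rw [show Pk 0 = ⊥ by simp [Pk]]
    exact IsPGroup.of_bot
  | succ k ih =>
    intro hk
    have h := List.all_eq_true.1 u_ok.2 k (List.mem_range.2 (by omega))
    simp only [Bool.and_eq_true, List.all_eq_true, List.mem_range, Nat.beq_eq] at h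
    obtain ⟨⟨⟨h9, hlen⟩, -⟩, hconj⟩ := h
    have h9' : elH (14 + k) ^ 3 ^ 2 = 1 := by
      have := wH_eq_of_same h9
      rwa [wH_replicate] at this
    rw [Pk_succ]
    refine (isPGroup_zpowers h9').to_sup_of_normal_right' (ih (by omega)) ?_
    set u := elH (14 + k) with hu
    have hle : (Pk k).map (MulAut.conj u).toMonoidHom ≤ Pk k := by
      rw [Pk, MonoidHom.map_closure, Subgroup.closure_le]
      rintro _ ⟨_, ⟨j, hj, rfl⟩, rfl⟩
      obtain ⟨hl, hs⟩ := hconj j hj
      have e := wH_eq_of_same hs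
      rw [wH_append, wH_append, wH_single, wH_single, wH_replicate] at e
      have hi : (u ^ 8 : H) = u⁻¹ := eq_inv_of_mul_eq_one_left (by rw [← pow_succ]; exact h9')
      rw [← hu, hi, ← mul_assoc] at e
      show u * elH (14 + j) * u⁻¹ ∈ Pk k
      rw [e, ← SetLike.mem_coe]
      show wval elH _ ∈ Pk k
      have : ∀ (w : List ℕ), (∀ g ∈ w, 14 ≤ g ∧ g < 14 + k) → wval elH w ∈ Pk k := by
        intro w
        induction w with
        | nil => intro _; exact one_mem _
        | cons g w ihw =>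
          intro hg
          obtain ⟨h1, h2⟩ := hg g List.mem_cons_self
          refine mul_mem (ihw fun a ha => hg a (List.mem_cons_of_mem _ ha)) (Subgroup.subset_closure ?_)
          exact ⟨g - 14, show g - 14 < k by omega, by show elH (14 + (g - 14)) = _; congr 1; omega⟩
      refine this _ fun g hg => ?_
      simpa [Nat.ble_eq, Nat.blt_eq] using hl g hg
    have heq := Subgroup.eq_of_le_of_card_ge hle
      (le_of_eq (Subgroup.card_map_of_injective (MulAut.conj u).injective).symm)
    rw [Subgroup.zpowers_le, Subgroup.mem_normalizer_iff]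
    intro x
    constructor
    · intro hx
      rw [← heq]
      exact Subgroup.mem_map_of_mem (MulAut.conj u).toMonoidHom hx
    · intro hx
      rw [← heq] at hx
      obtain ⟨y, hy, e⟩ := hx
      have : y = x := (MulAut.conj u).injective e
      exact this ▸ hy

/-- The 3-group. -/
noncomputable def P : Subgroup H := Pk 6

theorem mem_P {g : ℕ} (h1 : 14 ≤ g) (h2 : g < 20) : elH g ∈ P :=
  Subgroup.subset_closure ⟨g - 14, show g - 14 < 6 by omega, by show elH (14 + (g - 14)) = _; congr 1; omega⟩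

theorem uWords_spec : ∀ w ∈ uWords, ∃ g, w = [g] ∧ 14 ≤ g ∧ g < 20 := by
  intro w hw
  simp only [uWords, uList, List.map_cons, List.map_nil, List.mem_append, List.mem_replicate,
    List.mem_cons, List.not_mem_nil, or_false] at hw
  rcases hw with ⟨-, rfl⟩ | rfl | rfl | rfl | rfl | rfl | rfl <;> exact ⟨_, rfl, by norm_num, by norm_num⟩

theorem five_fix {M : Subgroup H} {x : Fin 275} {g : H} (hg : g ∈ M) (h5 : g ^ 5 = 1)
    (h : (orbit M x).ncard < 5) : g • x = x := by
  haveI : Fact (Nat.Prime 5) := ⟨by norm_num⟩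
  obtain ⟨n, hn⟩ := (isPGroup_zpowers (p := 5) (n := 1) (by simpa using h5)).card_orbit x
  have hle : orbit (Subgroup.zpowers g) x ⊆ orbit M x := by
    rintro _ ⟨⟨y, hy⟩, rfl⟩
    exact ⟨⟨y, Subgroup.zpowers_le.2 hg hy⟩, rfl⟩
  have hc := Set.ncard_le_ncard hle (Set.toFinite _)
  rw [← Nat.card_coe_set_eq, hn] at hc
  have hn0 : n = 0 := by
    by_contra hne
    have : 5 ≤ 5 ^ n := Nat.le_self_pow hne 5
    omega
  rw [hn0, pow_zero, Nat.card_coe_set_eq] at hn
  obtain ⟨y, hy⟩ := Set.ncard_eq_one.1 hn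
  have h1 : g • x ∈ orbit (Subgroup.zpowers g) x := ⟨⟨g, Subgroup.mem_zpowers g⟩, rfl⟩
  have h2 : x ∈ orbit (Subgroup.zpowers g) x := mem_orbit_self x
  rw [hy, Set.mem_singleton_iff] at h1 h2
  rw [h1, ← h2]

theorem class_o1 {M : Subgroup H} (hM : Nat.card M = 29160) :
    ∃ x : Fin 275, (x : ℕ) ∈ o1 ∧ M = stabilizer H x := by
  haveI : Fact (Nat.Prime 3) := ⟨by norm_num⟩
  haveI : Fact (Nat.Prime 5) := ⟨by norm_num⟩
  obtain ⟨h, hh⟩ := exists_conj_le (M := M) (Pk_isPGroup 6 le_rfl)
    (by rw [fact_card (k := 6) (m := 4480) (by norm_num) (by norm_num) (by norm_num), hM]; norm_num)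
  set M' := cj h M with hM'
  suffices hs : M' = stabilizer H q1 by
    have e := cj_inv_eq hs
    rw [cj_stab, inv_inv] at e
    exact ⟨h • q1, pres_o1 h.2 q1_mem, e⟩
  have hc' : Nat.card M' = 29160 := by rw [hM', card_cj, hM]
  have hdiv : (orbit M' q1).ncard ∣ 29160 := by
    rw [← index_stabilizer, ← hc']; exact (stabilizer M' q1).index_dvd_card
  have hsub : ∀ p ∈ orbit M' q1, (p : ℕ) ∈ o1 := by
    rintro _ ⟨m, rfl⟩
    exact pres_o1 (m : H).2 q1_mem
  suffices h1 : (orbit M' q1).ncard = 1 by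
    refine Subgroup.eq_of_le_of_card_ge (fun m hm => ?_) (by rw [hc', card_stab_o1 q1_mem])
    obtain ⟨y, hy⟩ := Set.ncard_eq_one.1 h1
    have a : m • q1 ∈ orbit M' q1 := ⟨⟨m, hm⟩, rfl⟩
    have b : q1 ∈ orbit M' q1 := mem_orbit_self q1
    rw [hy, Set.mem_singleton_iff] at a b
    exact mem_stabilizer_iff.2 (a.trans b.symm)
  classical
  set S : Finset ℕ := (orbit M' q1).toFinset.image Fin.val with hS
  have hSc : S.card = (orbit M' q1).ncard := by
    rw [hS, Finset.card_image_of_injective _ Fin.val_injective, Set.ncard_eq_toFinset_card']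
  obtain ⟨hblk, hlens, hcov, hnd, hb0, hin⟩ := blocks_ok
  simp only [List.all_eq_true, List.any_eq_true, Nat.beq_eq, Bool.and_eq_true] at hblk hcov hin
  have hnd' := distinct_nodup hnd
  set l := (blocks.map pts).flatten with hl
  have hlS : (l.filter fun p => decide (p ∈ S)).toFinset = S := by
    ext p
    simp only [List.mem_toFinset, List.mem_filter, decide_eq_true_eq, and_iff_right_iff_imp]
    intro hp
    simp only [hS, Finset.mem_image, Set.mem_toFinset] at hp
    obtain ⟨y, hy, rfl⟩ := hp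
    obtain ⟨b, hb, x, hx, e⟩ := hcov _ (hsub y hy)
    exact List.mem_flatten.2 ⟨pts b, List.mem_map_of_mem hb, e ▸ hx⟩
  have hall : ∀ b ∈ blocks, ((pts b).filter fun p => decide (p ∈ S)).length = 0 ∨
      ((pts b).filter fun p => decide (p ∈ S)).length = b.length := by
    intro b hb
    by_cases hx : ∃ x ∈ pts b, x ∈ S
    · right
      obtain ⟨x, hx, hxS⟩ := hx
      simp only [hS, Finset.mem_image, Set.mem_toFinset] at hxS
      obtain ⟨y, hy, hyx⟩ := hxS
      subst hyx
      have hl' : ∀ w ∈ uWords, ∀ g ∈ w, g < 24 := fun w hw g hg => by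
        obtain ⟨a, rfl, -, h2⟩ := uWords_spec w hw
        rw [List.mem_singleton] at hg
        omega
      have hK : ∀ w ∈ uWords, wval el w ∈ M'.map H.subtype := fun w hw => by
        obtain ⟨a, rfl, h1, h2⟩ := uWords_spec w hw
        exact wval_mem_map (by rw [wH_single]; exact hh _ (mem_P h1 h2))
      have h0 : 0 < b.length := List.length_pos_of_ne_nil (by rintro rfl; simp [pts] at hx)
      have hroot : (b.getD 0 (0, 0, 0)).1 ∈ pts b := List.mem_map.2 ⟨b.getD 0 (0, 0, 0), by
        rw [List.getD_eq_getElem _ _ h0]; exact List.getElem_mem _, rfl⟩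
      obtain ⟨p, hp, hpe⟩ := hin _ (List.mem_flatten.2 ⟨pts b, List.mem_map_of_mem hb, hroot⟩)
      have hrlt : (b.getD 0 (0, 0, 0)).1 < 275 := hpe ▸ o1_mem_lt hp
      set r : Fin 275 := ⟨_, hrlt⟩ with hr
      have hreach := tree_mem hl' hK (hblk b hb).1 (r := r) rfl
      obtain ⟨_, hy'⟩ := hreach _ hx
      rw [mem_orbit_map] at hy'
      have hor : orbit M' r = orbit M' q1 := (orbit_eq_iff.2 hy').symm.trans (orbit_eq_iff.2 hy)
      rw [List.filter_eq_self.2 fun z hz => ?_]
      · exact List.length_map _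
      · obtain ⟨hz', hzm⟩ := hreach z hz
        rw [mem_orbit_map, hor] at hzm
        simp only [decide_eq_true_eq, hS, Finset.mem_image, Set.mem_toFinset]
        exact ⟨_, hzm, rfl⟩
    · left
      push Not at hx
      rw [List.length_eq_zero_iff, List.filter_eq_nil_iff]
      intro z hz
      simpa using hx z hz
  obtain ⟨B0, B1, B2, B3, hB⟩ : ∃ a b c d, blocks = [a, b, c, d] := by
    match hq : blocks with
    | [a, b, c, d] => exact ⟨a, b, c, d, rfl⟩
    | [] | [_] | [_, _] | [_, _, _] | _ :: _ :: _ :: _ :: _ :: _ => simp [hq] at hlens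
  rw [hB] at hlens hb0
  simp only [List.map_cons, List.map_nil, List.cons.injEq, and_true] at hlens
  have hlsum : S.card = ((pts B0).filter fun p => decide (p ∈ S)).length +
      ((pts B1).filter fun p => decide (p ∈ S)).length +
      ((pts B2).filter fun p => decide (p ∈ S)).length +
      ((pts B3).filter fun p => decide (p ∈ S)).length := by
    conv_lhs => rw [← hlS]
    rw [List.toFinset_card_of_nodup (hnd'.filter _), hl, hB]
    simp only [List.map_cons, List.map_nil, List.flatten_cons, List.flatten_nil, List.append_nil,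
      List.filter_append, List.length_append]
    omega
  have hq1S : b0 ∈ S := by
    simp only [hS, Finset.mem_image, Set.mem_toFinset]
    exact ⟨q1, mem_orbit_self q1, rfl⟩
  have e0 : ((pts B0).filter fun p => decide (p ∈ S)).length = 1 := by
    rw [pts, show B0.map Prod.fst = [b0] from hb0]
    simp [hq1S]
  have a1 := hall B1 (by simp [hB])
  have a2 := hall B2 (by simp [hB])
  have a3 := hall B3 (by simp [hB])
  rw [hlens.2.1] at a1
  rw [hlens.2.2.1] at a2
  rw [hlens.2.2.2] at a3
  rw [← hSc] at hdiv ⊢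
  rw [hlsum, e0] at hdiv ⊢
  have hne4 : (orbit M' q1).ncard ≠ 4 := by
    intro h4
    obtain ⟨k, hk⟩ := exists_conj_le (M := M') (R := Subgroup.zpowers (elH 9))
      (isPGroup_zpowers (p := 5) (n := 1) (by
        have := wH_eq_of_same five_ok.1
        rw [show [9, 9, 9, 9, 9] = List.replicate 5 9 from rfl, wH_replicate] at this
        simpa [wH, wval] using this))
      (by rw [fact_card (k := 1) (m := 653184) (by norm_num) (by norm_num) (by norm_num), hc']; norm_num)
    have hg := hk _ (Subgroup.mem_zpowers (elH 9))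
    have h5 : (k * elH 9 * k⁻¹) ^ 5 = 1 := by
      have h9 := wH_eq_of_same five_ok.1
      rw [show [9, 9, 9, 9, 9] = List.replicate 5 9 from rfl, wH_replicate] at h9
      rw [conj_pow, h9, show wH [] = 1 from rfl, mul_one, mul_inv_cancel]
    have hsub' : (k⁻¹ • ·) '' orbit M' q1 ⊆
        {p : Fin 275 | (p : ℕ) ∈ o1.filter fun p => Nat.beq (img 9 p) p} := by
      rintro _ ⟨y, hy, rfl⟩
      refine List.mem_filter.2 ⟨pres_o1 (k⁻¹).2 (hsub y hy), ?_⟩
      have hfix := five_fix (x := y) hg h5 (by rw [orbit_eq_iff.2 hy, h4]; norm_num)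
      have : elH 9 • (k⁻¹ • y) = k⁻¹ • y := by
        rw [mul_smul, mul_smul] at hfix
        rw [eq_inv_smul_iff]
        exact hfix
      rw [Nat.beq_eq, ← el_apply (by norm_num : 9 < 24)]
      exact congrArg Fin.val this
    have hc := Set.ncard_le_ncard hsub' (Set.toFinite _)
    rw [Set.ncard_image_of_injective _ (MulAction.injective _), h4,
      ncard_list (o1_nodup.filter _) fun p hp => o1_mem_lt (List.mem_filter.1 hp).1] at hc
    exact absurd (hc.trans five_ok.2.1) (by norm_num)
  rw [← hSc, hlsum, e0] at hne4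
  rcases a1 with a1 | a1 <;> rcases a2 with a2 | a2 <;> rcases a3 with a3 | a3 <;>
    rw [a1, a2, a3] at hdiv hne4 ⊢ <;> first | rfl | (exact absurd rfl hne4) | (norm_num at hdiv)

/-! ### The involutions -/

/-- An involution of the tree. -/
noncomputable def tinv (i : ℕ) : H := wH (tword i)

theorem flip_spec {k : ℕ} (hk : k < 4) : elH (flip4 k) = (elH k)⁻¹ := by
  interval_cases k
  · exact elH_one
  · rw [show flip4 1 = 0 from rfl, elH_one, inv_inv]
  · exact elH_three
  · rw [show flip4 3 = 2 from rfl, elH_three, inv_inv]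

theorem wH_conj {k : ℕ} (hk : k < 4) (w : List ℕ) :
    wH ([flip4 k] ++ w ++ [k]) = elH k * wH w * (elH k)⁻¹ := by
  rw [wH_append, wH_append, wH_single, wH_single, flip_spec hk, mul_assoc]

theorem tw_conj : ∀ n i, ∃ h : H, wH (tw n i) = h * elH 7 * h⁻¹
  | 0, _ => ⟨1, by simp [tw]⟩
  | n + 1, i => by
    obtain ⟨h, e⟩ := tw_conj n (tPar.get 14 i / 4)
    by_cases hi : i = 0
    · exact ⟨1, by simp [tw, force_eq, hi]⟩
    · refine ⟨elH (tPar.get 14 i % 4) * h, ?_⟩
      have hb : Nat.beq i 0 = false := by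
        simpa [Bool.eq_false_iff, Nat.beq_eq] using hi
      rw [tw, force_eq, hb, cond_false, wH_conj (Nat.mod_lt _ (by norm_num)), e, mul_inv_rev]
      simp only [mul_assoc]

theorem tinv_act {i : ℕ} (hi : i < 2835) (h : H) :
    ∃ j, j < 2835 ∧ h * tinv i * h⁻¹ = tinv j := by
  have key : ∀ k, k < 4 → ∀ i, i < 2835 → ∃ j, j < 2835 ∧ elH k * tinv i * (elH k)⁻¹ = tinv j := by
    intro k hk i hi
    have hb := List.all_eq_true.1 (List.all_eq_true.1 tAct_ok i (List.mem_range.2 hi)) k (List.mem_range.2 hk)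
    simp only [force_eq, Bool.and_eq_true, Nat.blt_eq] at hb
    exact ⟨_, hb.1, by rw [tinv, ← wH_conj hk]; exact wH_eq_of_same hb.2⟩
  refine gen_induction (P := fun h => ∀ i, i < 2835 → ∃ j, j < 2835 ∧ h * tinv i * h⁻¹ = tinv j) h
    (key 0 (by norm_num)) (key 2 (by norm_num)) (fun i hi => ⟨i, hi, by simp⟩) ?_ i hi
  intro a b ha hb i hi
  obtain ⟨j, hj, e⟩ := hb i hi
  obtain ⟨k, hk, e'⟩ := ha j hj
  exact ⟨k, hk, by rw [← e', ← e, mul_inv_rev]; simp only [mul_assoc]⟩

theorem increasing_lt : ∀ {l : List ℕ}, increasing l = true → l.Pairwise (· < ·)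
  | [], _ => List.Pairwise.nil
  | [a], _ => List.pairwise_singleton _ a
  | a :: b :: l, h => by
    change (Nat.blt a b && increasing (b :: l)) = true at h
    rw [Bool.and_eq_true, Nat.blt_eq] at h
    have hp := increasing_lt h.2
    refine List.pairwise_cons.2 ⟨fun c hc => ?_, hp⟩
    rcases List.mem_cons.1 hc with rfl | hc
    · exact h.1
    · exact h.1.trans ((List.pairwise_cons.1 hp).1 c hc)

theorem code_eq {i j : ℕ} (hi : i < 2835) (hj : j < 2835) (h : tinv i = tinv j) :
    code (tword i) = code (tword j) := by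
  have hb : ∀ b ∈ bases, b < 275 := by decide
  have hw : ∀ b ∈ bases, walk (tword i) b = walk (tword j) b := fun b hbm => by
    have h1 := wH_smul (letters_lt (List.all_eq_true.1 tword_ok i (List.mem_range.2 hi))) ⟨b, hb b hbm⟩
    have h2 := wH_smul (letters_lt (List.all_eq_true.1 tword_ok j (List.mem_range.2 hj))) ⟨b, hb b hbm⟩
    rw [← tinv, h] at h1
    rw [← tinv] at h2
    exact h1.symm.trans h2
  clear hb
  unfold code
  generalize bases = bs at hw ⊢
  induction bs with
  | nil => rfl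
  | cons b l ih =>
    show walk _ b + 512 * _ = walk _ b + 512 * _
    rw [hw b List.mem_cons_self, ih fun c hc => hw c (List.mem_cons_of_mem _ hc)]

theorem tinv_conj {i j : ℕ} : ∃ h : H, h * tinv i * h⁻¹ = tinv j := by
  obtain ⟨a, ha⟩ := tw_conj 24 i
  obtain ⟨b, hb⟩ := tw_conj 24 j
  refine ⟨b * a⁻¹, ?_⟩
  rw [tinv, tinv, tword, tword, ha, hb, mul_inv_rev, inv_inv]
  simp only [mul_assoc, inv_mul_cancel_left, inv_mul_cancel, mul_one]

theorem orbit_tinv {i : ℕ} (hi : i < 2835) :
    orbit (ConjAct H) (tinv i) = tinv '' {j | j < 2835} := by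
  ext y
  constructor
  · rintro ⟨c, rfl⟩
    obtain ⟨j, hj, e⟩ := tinv_act hi (ConjAct.ofConjAct c)
    exact ⟨j, hj, e.symm⟩
  · rintro ⟨j, -, rfl⟩
    obtain ⟨h, e⟩ := tinv_conj (i := i) (j := j)
    exact ⟨ConjAct.toConjAct h, e⟩

theorem ncard_tinv : (tinv '' {j | j < 2835}).ncard = 2835 := by
  classical
  refine le_antisymm ?_ ?_
  · exact (Set.ncard_image_le (Set.finite_Iio 2835)).trans (le_of_eq (Set.ncard_Iio_nat 2835))
  · obtain ⟨hlen, hlt, hinc⟩ := tOrd_ok
    simp only [List.all_eq_true, Nat.blt_eq] at hlt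
    have hp := List.pairwise_map.1 (increasing_lt hinc)
    have hnd : (tOrd.map tinv).Nodup := List.pairwise_map.2 <| hp.imp_of_mem fun ha hb hab e =>
      (Nat.ne_of_lt hab) (code_eq (hlt _ ha) (hlt _ hb) e)
    have hsub : ((tOrd.map tinv).toFinset : Set H) ⊆ tinv '' {j | j < 2835} := fun y hy => by
      obtain ⟨i, hi, rfl⟩ := List.mem_map.1 (List.mem_toFinset.1 hy)
      exact ⟨i, hlt i hi, rfl⟩
    have hc := Set.ncard_le_ncard hsub ((Set.finite_Iio 2835).image _)
    rwa [Set.ncard_coe_finset, List.toFinset_card_of_nodup hnd, List.length_map, hlen] at hc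

theorem many_tinv {M : Subgroup H} (hM : Nat.card M = 20160) {i : ℕ} (hi : i < 2835)
    (hiM : tinv i ∈ M) : 35 ≤ {j | j < 2835 ∧ tinv j ∈ M}.ncard := by
  set Mc : Subgroup (ConjAct H) := M.map (ConjAct.toConjAct : H ≃* ConjAct H).toMonoidHom with hMc
  have hcM : Nat.card Mc = 20160 := by
    rw [hMc, Subgroup.card_map_of_injective (MulEquiv.injective _), hM]
  have hsub : orbit Mc (tinv i) ⊆ tinv '' {j | j < 2835 ∧ tinv j ∈ M} := by
    rintro _ ⟨⟨_, m, hm, rfl⟩, rfl⟩
    obtain ⟨j, hj, e⟩ := tinv_act hi m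
    refine ⟨j, ⟨hj, e ▸ mul_mem (mul_mem hm hiM) (inv_mem hm)⟩, e.symm⟩
  have hfin : {j | j < 2835 ∧ tinv j ∈ M}.Finite := (Set.finite_Iio 2835).subset fun j hj => hj.1
  refine le_trans ?_ ((Set.ncard_le_ncard hsub (hfin.image _)).trans (Set.ncard_image_le hfin))
  have hs := (stabilizer Mc (tinv i)).index_mul_card
  rw [index_stabilizer, hcM] at hs
  have hstab : Nat.card (stabilizer (ConjAct H) (tinv i)) = 1152 := by
    have h := (stabilizer (ConjAct H) (tinv i)).index_mul_card
    rw [index_stabilizer, orbit_tinv hi, ncard_tinv,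
      ← Nat.card_congr (ConjAct.toConjAct : H ≃* ConjAct H).toEquiv, card_H] at h
    omega
  have hd1 : Nat.card (stabilizer Mc (tinv i)) ∣ 1152 := by
    rw [← hstab]
    refine Subgroup.card_dvd_of_injective
      { toFun := fun c => (⟨((c : Mc) : ConjAct H), c.2⟩ : stabilizer (ConjAct H) (tinv i))
        map_one' := rfl
        map_mul' := fun _ _ => rfl } ?_
    intro a b e
    exact Subtype.ext (Subtype.ext (congrArg Subtype.val e :))
  have hd2 : Nat.card (stabilizer Mc (tinv i)) ∣ 20160 := Dvd.intro_left _ hs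
  have hd : Nat.card (stabilizer Mc (tinv i)) ≤ 576 :=
    Nat.le_of_dvd (by norm_num) (by simpa using Nat.dvd_gcd hd1 hd2)
  by_contra hlt
  push Not at hlt
  have := Nat.mul_le_mul (Nat.le_of_lt_succ (show _ < 34 + 1 from hlt)) hd
  omega

/-! ### Certificates -/

theorem wH_flat_mem {M : Subgroup H} {ls : List (List ℕ)} (hls : ∀ w ∈ ls, wH w ∈ M) :
    ∀ u : List ℕ, wH (flatW ls u) ∈ M
  | [] => one_mem _
  | k :: u => by
    rw [show flatW ls (k :: u) = ls.getD k [] ++ flatW ls u from rfl, wH_append]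
    refine mul_mem (wH_flat_mem hls u) ?_
    by_cases hk : k < ls.length
    · rw [List.getD_eq_getElem _ _ hk]; exact hls _ (List.getElem_mem _)
    · rw [List.getD_eq_default _ _ (by omega)]; exact one_mem _

theorem cert_sound {M : Subgroup H} (hM : Nat.card M = 20160) {ls : List (List ℕ)}
    (hls : ∀ w ∈ ls, wH w ∈ M) {c : Cert} (hc : certB ls c = true) : IsLL M := by
  cases c with
  | gens which ws =>
    simp only [certB, Bool.and_eq_true, Nat.blt_eq, Nat.beq_eq] at hc
    obtain ⟨⟨⟨hwh, -⟩, h0⟩, h1⟩ := hc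
    have e0 := wH_eq_of_same h0
    have e1 := wH_eq_of_same h1
    rw [wH_single] at e0 e1
    have m0 := e0 ▸ wH_flat_mem hls (ws.getD 0 [])
    have m1 := e1 ▸ wH_flat_mem hls (ws.getD 1 [])
    interval_cases which
    · refine ⟨1, Or.inl ?_⟩
      rw [cj_one]
      refine (Subgroup.eq_of_le_of_card_ge ((Subgroup.closure_le _).2 ?_) ?_).symm
      · rintro _ (rfl | rfl) <;> assumption
      · show Nat.card M ≤ Nat.card L
        rw [hM, card_L]
    · refine ⟨1, Or.inr ?_⟩
      rw [cj_one]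
      refine (Subgroup.eq_of_le_of_card_ge ((Subgroup.closure_le _).2 ?_) ?_).symm
      · rintro _ (rfl | rfl) <;> assumption
      · show Nat.card M ≤ Nat.card L'
        rw [hM, card_L']
  | big orb q lv =>
    exfalso
    simp only [certB, Bool.and_eq_true, Nat.blt_eq, List.all_eq_true, List.any_eq_true, Nat.beq_eq,
      Bool.not_eq_true'] at hc
    obtain ⟨⟨⟨⟨⟨⟨⟨hlet, htree⟩, hd⟩, hlen⟩, hin⟩, ⟨q', hq', hqe⟩⟩, hlev⟩, hprod⟩ := hc
    subst hqe
    set K := M.map H.subtype with hK
    have hKle : K ≤ H := Subgroup.map_subtype_le M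
    have hKc : Nat.card K = 20160 := by rw [hK, card_map_subtype, hM]
    have hroot : (orb.getD 0 (0, 0, 0)).1 ∈ pts orb := List.mem_map.2 ⟨orb.getD 0 (0, 0, 0), by
      rw [List.getD_eq_getElem _ _ (by omega : 0 < orb.length)]; exact List.getElem_mem _, rfl⟩
    obtain ⟨r', hr', hre⟩ := hin _ hroot
    set r : Fin 275 := ⟨_, hre ▸ o1_mem_lt hr'⟩ with hr
    have hrm : (r : ℕ) ∈ o1 := show (orb.getD 0 (0, 0, 0)).1 ∈ o1 by rw [hre]; exact hr'
    have hge := le_orbit_ncard (K := K) (fun w hw => letters_lt (hlet w hw))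
      (fun w hw => wval_mem_map (hls w hw)) htree (distinct_nodup hd) (r := r) rfl
    have hsub : orbit K r ⊆ {p : Fin 275 | (p : ℕ) ∈ o1} := by
      rintro _ ⟨m, rfl⟩
      exact pres_o1 (hKle m.2) hrm
    have hle := Set.ncard_le_ncard hsub (Set.toFinite _)
    rw [ncard_list o1_nodup fun p hp => o1_mem_lt hp, orb_ok.2.2.2.2.2.1] at hle
    have hos := orbit_mul_stab K r
    rw [hKc] at hos
    have hs1 : Nat.card ↥(K ⊓ stabilizer (Equiv.Perm (Fin 275)) r) ∣ 29160 := by
      rw [← card_stab_o1 hrm, card_stab_inf]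
      exact Subgroup.card_dvd_of_le (inf_le_inf_right _ hKle)
    obtain ⟨m, hm⟩ : Nat.card ↥(K ⊓ stabilizer (Equiv.Perm (Fin 275)) r) ∣ 360 :=
      (show Nat.gcd 29160 20160 = 360 by norm_num) ▸ Nat.dvd_gcd hs1 (Dvd.intro_left _ hos)
    have ho : (orbit K r).ncard = 112 := by
      have e : (orbit K r).ncard = 56 * m := by
        have hpos : 0 < Nat.card ↥(K ⊓ stabilizer (Equiv.Perm (Fin 275)) r) := Nat.card_pos
        refine Nat.eq_of_mul_eq_mul_right hpos ?_
        rw [hos, mul_assoc, mul_comm m, ← hm]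
        all_goals norm_num
      omega
    have horb : orbit K r = {p : Fin 275 | (p : ℕ) ∈ o1} :=
      Set.eq_of_subset_of_ncard_le hsub (by
        rw [ho, ncard_list o1_nodup fun p hp => o1_mem_lt hp, orb_ok.2.2.2.2.2.1]) (Set.toFinite _)
    set qq : Fin 275 := ⟨q, o1_mem_lt hq'⟩ with hqq
    have hq2 : orbit K qq = orbit K r := orbit_eq_iff.2 (horb ▸ hq')
    have hos' := orbit_mul_stab K qq
    rw [hKc, hq2, ho] at hos'
    have h180 : Nat.card ↥(K ⊓ stabilizer (Equiv.Perm (Fin 275)) qq) = 180 := by omega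
    have hdv := levels_dvd hlev (K := K ⊓ stabilizer (Equiv.Perm (Fin 275)) qq) fun w hw => by
      obtain ⟨hwl, hwf⟩ := levels_fix hlev w hw
      refine ⟨?_, mem_stabilizer_iff.2 (Fin.ext ?_)⟩
      · simp only [lwords, List.mem_flatMap, flatL, List.mem_map] at hw
        obtain ⟨_, ⟨p, -, rfl⟩, hw⟩ := hw
        obtain ⟨u, -, rfl⟩ := List.mem_map.1 hw
        exact wval_mem_map (wH_flat_mem hls u)
      · show (wval el w qq : ℕ) = qq
        rw [el_walk hwl]
        exact hwf _ List.mem_cons_self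
    rw [h180] at hdv
    obtain ⟨c, hc⟩ := hdv
    rw [hc, Nat.mul_mod_right] at hprod
    simp at hprod

/-! ### Subgroups of order 20160 -/

/-- Every subgroup of order 20160 containing the element of order seven and the involution is of one of
the two classes. -/
def Good (i : ℕ) : Prop :=
  ∀ M : Subgroup H, Nat.card M = 20160 → elH 4 ∈ M → tinv i ∈ M → IsLL M

theorem x_inv : elH 5 = (elH 4)⁻¹ := by
  have h := wH_eq_of_same norm_ok.2.1
  simp only [wH, wval, one_mul] at h
  exact eq_inv_of_mul_eq_one_left h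

theorem good_keys {i : ℕ} (hi : i ∈ keysI) : Good i := by
  intro M hM hx ht
  obtain ⟨p, hp, rfl⟩ := List.mem_map.1 hi
  refine cert_sound hM (fun w hw => ?_) (List.all_eq_true.1 certsI_ok p hp)
  simp only [List.mem_cons, List.not_mem_nil, or_false] at hw
  rcases hw with rfl | rfl | rfl
  · rwa [wH_single]
  · rw [wH_single, x_inv]; exact inv_mem hx
  · exact ht

theorem good_step {g : H} {u j : ℕ} (hg : g * elH 4 * g⁻¹ ∈ Subgroup.zpowers (elH 4))
    (e : tinv j = g * tinv u * g⁻¹) (h : Good u) : Good j := fun M hM hx ht =>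
  IsLL.of_cj (h := g) <| h (cj g M) (by rw [card_cj, hM]) (Subgroup.zpowers_le.2 hx hg) (mem_cj.2 (e ▸ ht))

theorem good_root : ∀ n i, i < 2835 → Good (root n i) → Good i
  | 0, _, _, h => h
  | n + 1, i, hi, h => by
    have hp := List.all_eq_true.1 tProp_ok i (List.mem_range.2 hi)
    rw [root, force_eq] at h
    rw [force_eq, Bool.or_eq_true, Nat.beq_eq] at hp
    rcases hp with he | hp
    · rw [show Nat.beq (tProp.get 13 i) 0 = true by rw [Nat.beq_eq]; exact he] at h
      exact h
    · by_cases he : tProp.get 13 i = 0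
      · rw [show Nat.beq (tProp.get 13 i) 0 = true by rw [Nat.beq_eq]; exact he] at h
        exact h
      rw [show Nat.beq (tProp.get 13 i) 0 = false by simpa [Bool.eq_false_iff, Nat.beq_eq] using he,
        cond_false] at h
      rw [force_eq, Bool.and_eq_true, Nat.blt_eq] at hp
      obtain ⟨hu, hsame⟩ := hp
      have hgood := good_root n _ hu h
      cases hk : Nat.beq ((tProp.get 13 i - 1) % 2) 0 with
      | true =>
        rw [hk, cond_true] at hsame
        refine good_step (g := elH 4) ?_ ?_ hgood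
        · simp
        · have e := wH_eq_of_same hsame
          rw [wH_append, wH_append, wH_single, wH_single, x_inv, ← mul_assoc] at e
          exact e.symm
      | false =>
        rw [hk, cond_false] at hsame
        have h6 : wH [6, 6] = (elH 6)⁻¹ := by
          refine eq_inv_of_mul_eq_one_right ?_
          rw [← wH_single 6, ← wH_append]
          exact wH_eq_of_same norm_ok.1
        obtain ⟨k, -, hk'⟩ := List.any_eq_true.1 norm_ok.2.2.1
        refine good_step (g := elH 6) ?_ ?_ hgood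
        · have e := wH_eq_of_same hk'
          rw [show [6, 6, 4, 6] = [6, 6] ++ [4] ++ [6] from rfl, wH_append, wH_append, wH_single,
            wH_single, h6, wH_replicate, ← mul_assoc] at e
          rw [e]
          exact Subgroup.npow_mem_zpowers _ k
        · have e := wH_eq_of_same hsame
          rw [wH_append, wH_append, wH_single, h6, ← mul_assoc] at e
          exact e.symm

theorem cover {j : ℕ} (hj : j < 2835) :
    j ∈ ptsC ∧ root propDepth j ∈ repsC ∨ root propDepth j ∈ keysI := by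
  have h := List.all_eq_true.1 cover_ok j (List.mem_range.2 hj)
  simp only [force_eq, Bool.or_eq_true, Bool.and_eq_true, List.any_eq_true, Nat.beq_eq] at h
  rcases h with ⟨⟨a, ha, rfl⟩, ⟨b, hb, e⟩⟩ | ⟨b, hb, e⟩
  · exact Or.inl ⟨ha, e ▸ hb⟩
  · exact Or.inr (e ▸ hb)

theorem repsC_lt : ∀ i ∈ repsC, i < 2835 := by decide

theorem good_repsC {i : ℕ} (hi : i ∈ repsC) : Good i := by
  intro M hM hx ht
  obtain ⟨k, hk, rfl⟩ := List.getElem_of_mem hi
  have h := List.all_eq_true.1 pairs_ok k (List.mem_range.2 hk)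
  simp only [Bool.and_eq_true, Nat.beq_eq, List.all_eq_true, Bool.or_eq_true, List.any_eq_true] at h
  obtain ⟨hlen, hall⟩ := h
  have hcount := many_tinv hM (repsC_lt _ hi) ht
  classical
  obtain ⟨j, ⟨hj, hjM⟩, hout⟩ : ∃ j ∈ {j | j < 2835 ∧ tinv j ∈ M}, j ∉ insideC.getD k [] := by
    by_contra hne
    push Not at hne
    have hsub : {j | j < 2835 ∧ tinv j ∈ M} ⊆ ((insideC.getD k []).toFinset : Set ℕ) :=
      fun j hj => List.mem_toFinset.2 (hne j hj)
    have := Set.ncard_le_ncard hsub (Set.toFinite _)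
    rw [Set.ncard_coe_finset] at this
    have := this.trans ((List.toFinset_card_le _).trans hlen.le)
    omega
  rcases cover hj with ⟨hjp, -⟩ | hjk
  · rcases hall j hjp with ⟨a, ha, e⟩ | ⟨p, hp, e1, e2⟩
    · exact absurd (e ▸ ha) hout
    · rw [List.getD_eq_getElem _ _ hk] at e1
      refine cert_sound hM (fun w hw => ?_) (List.all_eq_true.1 certsP_ok p hp)
      simp only [List.mem_cons, List.not_mem_nil, or_false] at hw
      rcases hw with rfl | rfl | rfl | rfl
      · rwa [wH_single]
      · rw [wH_single, x_inv]; exact inv_mem hx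
      · rw [e1]; exact ht
      · rw [e2]; exact hjM
  · exact good_root _ j hj (good_keys hjk) M hM hx hjM

theorem good_all {i : ℕ} (hi : i < 2835) : Good i := by
  rcases cover hi with ⟨-, h⟩ | h
  · exact good_root _ i hi (good_repsC h)
  · exact good_root _ i hi (good_keys h)

theorem class_o2 {M : Subgroup H} (hM : Nat.card M = 20160) : IsLL M := by
  haveI : Fact (Nat.Prime 7) := ⟨by norm_num⟩
  haveI : Fact (Nat.Prime 2) := ⟨by norm_num⟩
  obtain ⟨h, hh⟩ := exists_conj_le (M := M) (R := Subgroup.zpowers (elH 4))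
    (isPGroup_zpowers (p := 7) (n := 1) (by
      have := wH_eq_of_same norm_ok.2.2.2.1
      rw [show [4, 4, 4, 4, 4, 4, 4] = List.replicate 7 4 from rfl, wH_replicate] at this
      simpa [wH, wval] using this))
    (by rw [fact_card (k := 1) (m := 466560) (by norm_num) (by norm_num) (by norm_num), hM]; norm_num)
  refine IsLL.of_cj (h := h) ?_
  set M' := cj h M
  have hM' : Nat.card M' = 20160 := by rw [card_cj, hM]
  have hx : elH 4 ∈ M' := hh _ (Subgroup.mem_zpowers _)
  obtain ⟨U, hU⟩ := Sylow.exists_subgroup_card_pow_prime (G := M') 2 (n := 6) (by rw [hM']; norm_num)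
  have hUc : Nat.card (U.map M'.subtype) = 64 := by
    rw [Subgroup.card_map_of_injective M'.subtype_injective, hU]; norm_num
  obtain ⟨S, hS⟩ := (IsPGroup.of_card (p := 2) (n := 6) (hUc.trans (by norm_num))).exists_le_sylow
  have hSc : Nat.card S = 128 := by
    rw [S.card_eq_multiplicity, fact_card (k := 7) (m := 25515) (by norm_num) (by norm_num) (by norm_num)]
    norm_num
  obtain ⟨a, ha⟩ := exists_conj_le (M := (S : Subgroup H)) (R := Subgroup.zpowers (elH 8))
    (isPGroup_zpowers (p := 2) (n := 3) (by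
      have := wH_eq_of_same norm_ok.2.2.2.2.2.1
      rw [show [8, 8, 8, 8, 8, 8, 8, 8] = List.replicate 8 8 from rfl, wH_replicate] at this
      simpa [wH, wval] using this))
    (by rw [fact_card (k := 7) (m := 25515) (by norm_num) (by norm_num) (by norm_num), show Nat.card
      (S : Subgroup H) = 128 from hSc]; norm_num)
  have hY : a * elH 8 * a⁻¹ ∈ (S : Subgroup H) := ha _ (Subgroup.mem_zpowers _)
  have hidx : ((U.map M'.subtype).subgroupOf (S : Subgroup H)).index = 2 := by
    have := ((U.map M'.subtype).subgroupOf (S : Subgroup H)).index_mul_card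
    rw [Nat.card_congr (Subgroup.subgroupOfEquivOfLe hS).toEquiv, hUc,
      show Nat.card (S : Subgroup H) = 128 from hSc] at this
    omega
  have hsq := Subgroup.sq_mem_of_index_two hidx (⟨_, hY⟩ : (S : Subgroup H))
  have hsq' : (a * elH 8 * a⁻¹) ^ 2 ∈ U.map M'.subtype := by simpa [Subgroup.mem_subgroupOf] using hsq
  have h4 : (a * elH 8 * a⁻¹) ^ 4 ∈ M' := by
    rw [show (4 : ℕ) = 2 * 2 from rfl, pow_mul]
    exact pow_mem (Subgroup.map_subtype_le _ hsq') 2
  have e4 := wH_eq_of_same norm_ok.2.2.2.2.2.2.1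
  rw [show [8, 8, 8, 8] = List.replicate 4 8 from rfl, wH_replicate] at e4
  rw [conj_pow, e4] at h4
  have hi0 : i0 < 2835 := by simpa using norm_ok.2.2.2.2.2.2.2
  obtain ⟨j, hj, e⟩ := tinv_act hi0 a
  exact good_all hj M' hM' hx (e ▸ h4)

end Cfsg.Agent.McL275.Rank
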