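import Cfsg.Agent.Lib.McL275.RankOrbits
import Cfsg.Agent.Lib.McL275.RankClassData

/-!
The computations behind the classification of the subgroups of orders 20160 and 29160 of the point
stabiliser of the McLaughlin group.
-/

set_option autoImplicit false
set_option maxRecDepth 100000

namespace Cfsg.Agent.McL275.Rank

open RankData
open Cfsg.Agent.Presented (NTree force force_eq)

/-- The inverse letter among the first four. -/
def flip4 (k : ℕ) : ℕ :=
  if k = 0 then 1 else if k = 1 then 0 else if k = 2 then 3 else 2

/-- The word of an involution, read from the tree. -/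
noncomputable def tw : ℕ → ℕ → List ℕ
  | 0, _ => [7]
  | n + 1, i => force (tPar.get 14 i) fun e =>
      bif Nat.beq i 0 then [7] else [flip4 (e % 4)] ++ tw n (e / 4) ++ [e % 4]

/-- The word of an involution. -/
noncomputable def tword (i : ℕ) : List ℕ := tw 24 i

/-- The code of an element by the images of the base points. -/
noncomputable def code (w : List ℕ) : ℕ :=
  List.rec (motive := fun _ => ℕ) 0 (fun b _ ih => walk w b + 512 * ih) bases

/-- The list increases. -/
noncomputable def increasing (l : List ℕ) : Bool :=
  List.rec (motive := fun _ => Bool) true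
    (fun a l ih => (List.casesOn l true fun b _ => Nat.blt a b) && ih) l

theorem tword_ok : ((List.range 2835).all fun i => letters (tword i)) = true := by decide +kernel

theorem tAct_ok : ((List.range 2835).all fun i => (List.range 4).all fun k =>
    force (tAct.get 12 (i * 4 + k)) fun j =>
      Nat.blt j 2835 && same ([flip4 k] ++ tword i ++ [k]) (tword j)) = true := by
  decide +kernel

theorem tOrd_ok : tOrd.length = 2835 ∧ (tOrd.all fun i => Nat.blt i 2835) = true ∧
    increasing (tOrd.map fun i => code (tword i)) = true := by
  decide +kernel

/-- The representative of an involution under the two normalising elements. -/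
noncomputable def root : ℕ → ℕ → ℕ
  | 0, i => i
  | n + 1, i => force (tProp.get 13 i) fun e => bif Nat.beq e 0 then i else root n ((e - 1) / 2)

theorem tProp_ok : ((List.range 2835).all fun i => force (tProp.get 13 i) fun e =>
    Nat.beq e 0 || force ((e - 1) / 2) fun u => Nat.blt u 2835 &&
      (bif Nat.beq ((e - 1) % 2) 0 then same ([5] ++ tword u ++ [4]) (tword i)
        else same ([6, 6] ++ tword u ++ [6]) (tword i))) = true := by
  decide +kernel

theorem norm_ok : same [6, 6, 6] [] = true ∧ same [4, 5] [] = true ∧
    ((List.range 7).any fun k => same [6, 6, 4, 6] (List.replicate k 4)) = true ∧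
    same [4, 4, 4, 4, 4, 4, 4] [] = true ∧ same [4] [] = false ∧
    same [8, 8, 8, 8, 8, 8, 8, 8] [] = true ∧ same [8, 8, 8, 8] (tword i0) = true ∧ Nat.blt i0 2835 = true := by
  decide +kernel

/-- The representatives with a certificate. -/
def keysI : List ℕ := certsI.map Prod.fst

theorem cover_ok : ((List.range 2835).all fun i => force (root propDepth i) fun r =>
    (ptsC.any fun j => Nat.beq i j) && (repsC.any fun j => Nat.beq r j) ||
      keysI.any fun j => Nat.beq r j) = true := by
  decide +kernel

/-- The local words of a certificate, over the elements it is about. -/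
def flatW (ls : List (List ℕ)) (w : List ℕ) : List ℕ := (w.map fun k => ls.getD k []).flatten

/-- The levels over the named elements. -/
def flatL (ls : List (List ℕ)) (lv : List (List (List ℕ) × PTree)) : List (List (List ℕ) × PTree) :=
  lv.map fun p => (p.1.map (flatW ls), p.2)

/-- The conditions on a certificate. -/
noncomputable def certB (ls : List (List ℕ)) : Cert → Bool
  | .gens which ws => Nat.blt which 2 && Nat.beq ws.length 2 &&
      same (flatW ls (ws.getD 0 [])) [10 + 2 * which] && same (flatW ls (ws.getD 1 [])) [11 + 2 * which]
  | .big orb q lv => ls.all letters && treeOK ls orb && distinct (pts orb) && Nat.blt 56 orb.length &&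
      (pts orb).all (fun x => o1.any fun y => Nat.beq x y) && (o1.any fun y => Nat.beq q y) &&
      levelsB (flatL ls lv) [q] && !(Nat.beq (180 % ((flatL ls lv).map fun l => l.2.length).prod) 0)

theorem certsI_ok : (certsI.all fun p => certB [[4], [5], tword p.1] p.2) = true := by
  decide +kernel

theorem certsP_ok : (certsP.all fun p =>
    certB [[4], [5], tword p.1, tword p.2.1] p.2.2) = true := by
  decide +kernel

theorem pairs_ok : ((List.range repsC.length).all fun k => Nat.beq (insideC.getD k []).length 21 &&
    ptsC.all fun j => ((insideC.getD k []).any fun a => Nat.beq j a) ||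
      certsP.any fun p => Nat.beq p.1 (repsC.getD k 0) && Nat.beq p.2.1 j) = true := by
  decide +kernel

/-- The generators of the 3-group. -/
def uList : List ℕ := [14, 15, 16, 17, 18, 19]

theorem u_ok : uConj.length = 6 ∧ ((List.range 6).all fun k =>
    same (List.replicate 9 (14 + k)) [] && Nat.beq (uConj.getD k []).length k &&
    Nat.beq (walk [14 + k] b0) b0 &&
    (List.range k).all fun j =>
      ((uConj.getD k []).getD j []).all (fun g => Nat.ble 14 g && Nat.blt g (14 + k)) &&
        same (List.replicate 8 (14 + k) ++ [14 + j] ++ [14 + k]) ((uConj.getD k []).getD j [])) = true := by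
  decide +kernel

/-- The letters of the 3-group as words. -/
def uWords : List (List ℕ) := List.replicate 14 [14] ++ uList.map fun g => [g]

theorem blocks_ok : (blocks.all fun b => treeOK uWords b && distinct (pts b)) = true ∧
    (blocks.map List.length = [1, 3, 27, 81]) ∧
    (o1.all fun p => blocks.any fun b => (pts b).any fun x => Nat.beq p x) = true ∧
    distinct (blocks.map pts).flatten = true ∧ (blocks.getD 0 []).map Prod.fst = [b0] ∧
    ((blocks.map pts).flatten.all fun x => o1.any fun p => Nat.beq x p) = true := by
  decide +kernel

theorem five_ok : same [9, 9, 9, 9, 9] [] = true ∧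
    ((o1.filter fun p => Nat.beq (img 9 p) p).length ≤ 2) ∧ same [9] [] = false := by
  decide +kernel

end Cfsg.Agent.McL275.Rank
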