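import Cfsg.Agent.Lib.McL275.RankGraphChecks
import Cfsg.Agent.Lib.McL275.RankClass
import Mathlib.GroupTheory.Index
import Mathlib.Combinatorics.Enumerative.DoubleCounting

/-!
A transitive group on 275 indices with the given point stabiliser is conjugate to the McLaughlin group: its
orbital graph is one of two isomorphic graphs, whose group is small.
-/

set_option autoImplicit false
set_option maxRecDepth 100000

namespace Cfsg.Agent.McL275.Rank

open RankData MulAction
open Cfsg.Agent.Presented (NTree force force_eq wval)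
open scoped Pointwise

attribute [local irreducible] RankData.rows RankData.rows0 RankData.sPerm RankData.sInv

/-- A transitive group with the given point stabiliser. -/
structure Rk (G : Subgroup (Equiv.Perm (Fin 275))) : Prop where
  le : H ≤ G
  trans : ∀ v, ∃ g ∈ G, g p0 = v
  stab : ∀ g ∈ G, g p0 = p0 → g ∈ H

variable {G : Subgroup (Equiv.Perm (Fin 275))}

theorem Rk.card (hG : Rk G) : Nat.card G = 275 * 3265920 := by
  have ho : orbit G p0 = Set.univ := Set.eq_univ_of_forall fun v => by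
    obtain ⟨g, hg, e⟩ := hG.trans v
    exact ⟨⟨g, hg⟩, e⟩
  have hs : G ⊓ stabilizer (Equiv.Perm (Fin 275)) p0 = H := by
    refine le_antisymm (fun g hg => hG.stab g hg.1 hg.2) fun g hg => ⟨hG.le hg, ?_⟩
    exact (mem_H.1 hg).2
  have h := orbit_mul_stab G p0
  rw [ho, hs, card_H, Set.ncard_univ, Nat.card_fin] at h
  exact h.symm

/-- The orbital of the smaller suborbit. -/
def N (G : Subgroup (Equiv.Perm (Fin 275))) (u v : Fin 275) : Prop :=
  ∃ g ∈ G, g p0 = u ∧ ((g⁻¹ v : Fin 275) : ℕ) ∈ o1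

theorem N_iff (hG : Rk G) {g : Equiv.Perm (Fin 275)} (hg : g ∈ G) {u : Fin 275} (e : g p0 = u)
    (v : Fin 275) : N G u v ↔ ((g⁻¹ v : Fin 275) : ℕ) ∈ o1 := by
  refine ⟨?_, fun h => ⟨g, hg, e, h⟩⟩
  rintro ⟨g', hg', e', h⟩
  have hh : g⁻¹ * g' ∈ H := hG.stab _ (mul_mem (inv_mem hg) hg') (by
    rw [Equiv.Perm.mul_apply, e', ← e]; exact g.symm_apply_apply p0)
  have h' := pres_o1 hh h
  simpa [Equiv.Perm.mul_apply] using h'

theorem N_smul (hG : Rk G) {g : Equiv.Perm (Fin 275)} (hg : g ∈ G) (u v : Fin 275) :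
    N G (g u) (g v) ↔ N G u v := by
  obtain ⟨k, hk, rfl⟩ := hG.trans u
  rw [N_iff hG hk rfl, N_iff hG (mul_mem hg hk) (show (g * k) p0 = g (k p0) from rfl)]
  simp [Equiv.Perm.mul_apply]

theorem N_hsmul (hG : Rk G) (h : H) (u v : Fin 275) : N G (h • u) (h • v) ↔ N G u v :=
  N_smul hG (hG.le h.2) u v

theorem N_p0 (hG : Rk G) (v : Fin 275) : N G p0 v ↔ (v : ℕ) ∈ o1 := by
  rw [N_iff hG (one_mem G) (show (1 : Equiv.Perm (Fin 275)) p0 = p0 from rfl)]
  simp

theorem N_irrefl (hG : Rk G) (u : Fin 275) : ¬ N G u u := by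
  obtain ⟨k, hk, rfl⟩ := hG.trans u
  rw [N_iff hG hk rfl]
  simpa using p0_not_o1

/-- The points of a list. -/
def ofList (l : List ℕ) : Finset (Fin 275) := Finset.univ.filter fun p => (p : ℕ) ∈ l

theorem mem_ofList {l : List ℕ} {p : Fin 275} : p ∈ ofList l ↔ (p : ℕ) ∈ l := by simp [ofList]

theorem card_ofList {l : List ℕ} (hl : l.Nodup) (hb : ∀ x ∈ l, x < 275) :
    (ofList l).card = l.length := by
  rw [← Set.ncard_coe_finset, ← ncard_list hl hb]
  congr 1
  ext p
  simp [ofList]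

theorem o2_mem_lt {p : ℕ} (hp : p ∈ o2) : p < 275 := by
  simpa using List.all_eq_true.1 o_lt.2 p hp

theorem card_o1 : (ofList o1).card = 112 := by
  rw [card_ofList o1_nodup fun _ => o1_mem_lt, orb_ok.2.2.2.2.2.1]

theorem card_o2 : (ofList o2).card = 162 := by
  rw [card_ofList o2_nodup fun _ => o2_mem_lt, orb_ok.2.2.2.2.2.2.1]

theorem univ_split : (Finset.univ : Finset (Fin 275)) = insert p0 (ofList o1 ∪ ofList o2) := by
  ext p
  simp only [Finset.mem_univ, Finset.mem_insert, Finset.mem_union, mem_ofList, true_iff]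
  exact part p

open scoped Classical in
theorem card_N (hG : Rk G) (u : Fin 275) : (Finset.univ.filter fun v => N G u v).card = 112 := by
  obtain ⟨k, hk, rfl⟩ := hG.trans u
  rw [← card_o1]
  refine Finset.card_bij' (fun v _ => k⁻¹ v) (fun v _ => k v) ?_ ?_ ?_ ?_
  · intro v hv
    rw [Finset.mem_filter] at hv
    exact mem_ofList.2 ((N_iff hG hk rfl v).1 hv.2)
  · intro v hv
    rw [Finset.mem_filter]
    refine ⟨Finset.mem_univ _, (N_iff hG hk rfl _).2 ?_⟩
    simpa using mem_ofList.1 hv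
  · intro v _; simp
  · intro v _; simp

open scoped Classical in
theorem N_symm (hG : Rk G) {u v : Fin 275} (h : N G u v) : N G v u := by
  have hcol : ∀ v, (Finset.univ.filter fun u => N G u v).card =
      (Finset.univ.filter fun u => N G u p0).card := by
    intro v
    obtain ⟨k, hk, rfl⟩ := hG.trans v
    refine Finset.card_bij' (fun u _ => k⁻¹ u) (fun u _ => k u) ?_ ?_ ?_ ?_
    · intro u hu
      rw [Finset.mem_filter] at hu ⊢
      refine ⟨Finset.mem_univ _, (N_smul hG hk _ _).1 ?_⟩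
      simpa using hu.2
    · intro u hu
      rw [Finset.mem_filter] at hu ⊢
      exact ⟨Finset.mem_univ _, (N_smul hG hk _ _).2 hu.2⟩
    · intro u _; simp
    · intro u _; simp
  set D := Finset.univ.filter fun u => N G u p0 with hD
  have hDc : D.card = 112 := by
    have h2 := Finset.sum_card_bipartiteAbove_eq_sum_card_bipartiteBelow
      (s := (Finset.univ : Finset (Fin 275))) (t := (Finset.univ : Finset (Fin 275))) (N G)
    have e1 : ∀ u ∈ (Finset.univ : Finset (Fin 275)),
        (Finset.bipartiteAbove (N G) Finset.univ u).card = 112 := fun u _ =>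
      (congrArg Finset.card (Finset.ext fun v => by simp)).trans (card_N hG u)
    have e2 : ∀ v ∈ (Finset.univ : Finset (Fin 275)),
        (Finset.bipartiteBelow (N G) Finset.univ v).card = D.card := fun v _ =>
      (congrArg Finset.card (Finset.ext fun u => by simp)).trans (hcol v)
    rw [Finset.sum_congr rfl e1, Finset.sum_congr rfl e2, Finset.sum_const, Finset.sum_const,
      smul_eq_mul, smul_eq_mul, Finset.card_univ, Fintype.card_fin] at h2
    omega
  have hinv : ∀ h : H, ∀ x, x ∈ D → h • x ∈ D := fun h x hx => by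
    rw [hD, Finset.mem_filter] at hx ⊢
    refine ⟨Finset.mem_univ _, ?_⟩
    have := (N_hsmul hG h x p0).2 hx.2
    rwa [show h • p0 = p0 from (mem_H.1 h.2).2] at this
  have hp : p0 ∉ D := by simp [hD, N_irrefl hG p0]
  have hno : ∀ x ∈ D, (x : ℕ) ∈ o1 := by
    intro x hx
    rcases part x with rfl | hx1 | hx2
    · exact absurd hx hp
    · exact hx1
    · exfalso
      have hsub : ofList o2 ⊆ D := fun y hy => by
        obtain ⟨a, ha⟩ := exists_o2 hx2
        obtain ⟨b, hb⟩ := exists_o2 (mem_ofList.1 hy)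
        have : (b * a⁻¹) • x = y := by rw [mul_smul, ← ha, inv_smul_smul, hb]
        exact this ▸ hinv _ x hx
      have := Finset.card_le_card hsub
      rw [card_o2, hDc] at this
      omega
  have hD1 : D = ofList o1 :=
    Finset.eq_of_subset_of_card_le (fun x hx => mem_ofList.2 (hno x hx)) (by rw [card_o1, hDc])
  obtain ⟨k, hk, rfl⟩ := hG.trans u
  have hv := (N_iff hG hk rfl v).1 h
  have : k⁻¹ v ∈ D := hD1 ▸ mem_ofList.2 hv
  rw [hD, Finset.mem_filter] at this
  have := (N_smul hG hk (k⁻¹ v) p0).2 this.2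
  simpa using this

theorem N_comm (hG : Rk G) (u v : Fin 275) : N G u v ↔ N G v u := ⟨N_symm hG, N_symm hG⟩

/-! ### The neighbours of the chosen points -/

theorem list_split {X : Finset (Fin 275)} {l : List ℕ} (hl : l.Nodup) (hb : ∀ x ∈ l, x < 275)
    (h : ∀ x : Fin 275, (x : ℕ) ∈ l → x ∈ X → ∀ y : Fin 275, (y : ℕ) ∈ l → y ∈ X) :
    ((X ∩ ofList l).card = 0 ∧ ∀ x ∈ X, (x : ℕ) ∉ l) ∨
      ((X ∩ ofList l).card = l.length ∧ ∀ x : Fin 275, (x : ℕ) ∈ l → x ∈ X) := by
  by_cases hx : ∃ x : Fin 275, (x : ℕ) ∈ l ∧ x ∈ X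
  · obtain ⟨x, hx, hxX⟩ := hx
    refine Or.inr ⟨?_, fun y hy => h x hx hxX y hy⟩
    rw [Finset.inter_eq_right.2 fun y hy => h x hx hxX y (mem_ofList.1 hy), card_ofList hl hb]
  · push Not at hx
    refine Or.inl ⟨?_, fun y hy hyl => hx y hyl hy⟩
    rw [Finset.card_eq_zero, Finset.eq_empty_iff_forall_notMem]
    intro y hy
    rw [Finset.mem_inter, mem_ofList] at hy
    exact hx y hy.2 hy.1

/-- Two points of an orbit tree of words fixing a point are adjacent to it together. -/
theorem tree_together {ws : List (List ℕ)} {t : PTree} {q : Fin 275} (hG : Rk G)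
    (hl : ∀ w ∈ ws, ∀ g ∈ w, g < 24) (hfix : ∀ w ∈ ws, wH w • q = q) (ht : treeOK ws t = true)
    {x y : Fin 275} (hx : (x : ℕ) ∈ pts t) (hy : (y : ℕ) ∈ pts t) (h : N G q x) : N G q y := by
  set K : Subgroup H := stabilizer H q
  have hK : ∀ w ∈ ws, wval el w ∈ K.map H.subtype := fun w hw => wval_mem_map (hfix w hw)
  have h0 : 0 < t.length := List.length_pos_of_ne_nil (by rintro rfl; simp [pts] at hx)
  have hr : (t.getD 0 (0, 0, 0)).1 < 275 := by
    have h' := ht
    simp only [treeOK, List.all_eq_true, List.mem_range, force_eq, Bool.and_eq_true, Nat.blt_eq] at h'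
    exact (h' 0 h0).1
  set r : Fin 275 := ⟨_, hr⟩ with hr'
  obtain ⟨_, hx'⟩ := tree_mem hl hK ht (r := r) rfl _ hx
  obtain ⟨_, hy'⟩ := tree_mem hl hK ht (r := r) rfl _ hy
  rw [mem_orbit_map] at hx' hy'
  obtain ⟨⟨a, ha⟩, hax⟩ := hx'
  obtain ⟨⟨b, hb⟩, hby⟩ := hy'
  change a • r = x at hax
  change b • r = y at hby
  have e : (b * a⁻¹) • x = y := by rw [mul_smul, ← hax, inv_smul_smul, hby]
  have eq : (b * a⁻¹) • q = q := mem_stabilizer_iff.1 (mul_mem hb (inv_mem ha) : b * a⁻¹ ∈ K)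
  have := (N_hsmul hG (b * a⁻¹) q x).2 h
  rwa [eq, e] at this

theorem uWords_lt : ∀ w ∈ uWords, ∀ g ∈ w, g < 24 := fun w hw g hg => by
  obtain ⟨a, rfl, -, h2⟩ := uWords_spec w hw
  rw [List.mem_singleton] at hg
  omega

theorem uWords_fix : ∀ w ∈ uWords, wH w • q1 = q1 := fun w hw => by
  obtain ⟨a, rfl, h1, h2⟩ := uWords_spec w hw
  refine Fin.ext ?_
  rw [wH_smul (fun g hg => by rw [List.mem_singleton] at hg; omega)]
  have h := List.all_eq_true.1 u_ok.2 (a - 14) (List.mem_range.2 (by omega))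
  simp only [Bool.and_eq_true, Nat.beq_eq] at h
  rw [show 14 + (a - 14) = a by omega] at h
  exact h.1.2

theorem lwsB_fix : ∀ w ∈ lwsB, wH w • q2 = q2 := by
  intro w hw
  simp only [lwsB, List.mem_cons, List.not_mem_nil, or_false] at hw
  rcases hw with rfl | rfl <;> rw [wH_single] <;> refine mem_stabilizer_iff.1 (L_eq ▸ Subgroup.subset_closure ?_)
  · exact Set.mem_insert _ _
  · exact Set.mem_insert_of_mem _ rfl

theorem lwsB_lt : ∀ w ∈ lwsB, ∀ g ∈ w, g < 24 := by decide

theorem lo_spec {k : ℕ} (hk : k < 4) : treeOK lwsB (lOrbs.getD k []) = true ∧ (lo k).Nodup ∧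
    ∀ x ∈ lo k, x ∈ if k < 2 then o1 else o2 := by
  have h := List.all_eq_true.1 lOrbs_ok.1 k (List.mem_range.2 hk)
  simp only [Bool.and_eq_true, List.all_eq_true, List.any_eq_true, Nat.beq_eq] at h
  exact ⟨h.1.1, distinct_nodup h.1.2, fun x hx => by obtain ⟨y, hy, rfl⟩ := h.2 x hx; exact hy⟩

theorem lo_lt {k : ℕ} (hk : k < 4) {x : ℕ} (hx : x ∈ lo k) : x < 275 := by
  have h := (lo_spec hk).2.2 x hx
  split_ifs at h
  · exact o1_mem_lt h
  · exact o2_mem_lt h

theorem lo_len : (lo 0).length = 56 ∧ (lo 1).length = 56 ∧ (lo 2).length = 56 ∧ (lo 3).length = 105 := by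
  have h := lOrbs_ok.2.1
  simp only [List.range_succ, List.range_zero, List.nil_append, List.cons_append, List.map_cons,
    List.map_nil, List.cons.injEq, and_true] at h
  exact h

theorem blk_spec {k : ℕ} (hk : k < 4) : treeOK uWords (blocks.getD k []) = true ∧
    (pts (blocks.getD k [])).Nodup ∧ ∀ x ∈ pts (blocks.getD k []), x ∈ o1 := by
  obtain ⟨hblk, hlens, -, -, -, hin⟩ := blocks_ok
  have hlen : blocks.length = 4 := by simpa using congrArg List.length hlens
  have hmem : blocks.getD k [] ∈ blocks := by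
    rw [List.getD_eq_getElem _ _ (by omega)]; exact List.getElem_mem _
  simp only [List.all_eq_true, List.any_eq_true, Nat.beq_eq, Bool.and_eq_true] at hblk hin
  refine ⟨(hblk _ hmem).1, distinct_nodup (hblk _ hmem).2, fun x hx => ?_⟩
  obtain ⟨y, hy, rfl⟩ := hin x (List.mem_flatten.2 ⟨_, List.mem_map_of_mem hmem, hx⟩)
  exact hy

theorem blk_len {k : ℕ} (hk : k < 4) :
    (pts (blocks.getD k [])).length = [1, 3, 27, 81].getD k 0 := by
  have h := blocks_ok.2.1
  rw [pts, List.length_map, ← h, List.getD_eq_getElem?_getD, List.getD_eq_getElem?_getD,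
    List.getElem?_map]
  have hlen : blocks.length = 4 := by simpa using congrArg List.length h
  rw [List.getElem?_eq_getElem (by omega)]
  rfl

theorem closed_clique (hG : Rk G) (hall : ∀ x : Fin 275, (x : ℕ) ∈ o1 → x ≠ q1 → N G q1 x) : False := by
  classical
  set C : Set (Fin 275) := {x | x = p0 ∨ (x : ℕ) ∈ o1} with hC
  have hclosed : ∀ u, u ∈ C → ∀ v, (v = u ∨ N G u v) ↔ v ∈ C := by
    have hq : ∀ v, (v = q1 ∨ N G q1 v) ↔ v ∈ C := by
      have hsub : insert p0 ((ofList o1).erase q1) ⊆ Finset.univ.filter fun v => N G q1 v := by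
        intro v hv
        simp only [Finset.mem_insert, Finset.mem_erase, mem_ofList] at hv
        simp only [Finset.mem_filter, Finset.mem_univ, true_and]
        rcases hv with rfl | ⟨h1, h2⟩
        · exact N_symm hG ((N_p0 hG q1).2 q1_mem)
        · exact hall v h2 h1
      have heq := Finset.eq_of_subset_of_card_le hsub (by
        rw [card_N hG, Finset.card_insert_of_notMem (by simp [mem_ofList, p0_not_o1]),
          Finset.card_erase_of_mem (mem_ofList.2 q1_mem), card_o1])
      intro v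
      constructor
      · rintro (rfl | h)
        · exact Or.inr q1_mem
        · have : v ∈ insert p0 ((ofList o1).erase q1) := heq ▸ Finset.mem_filter.2 ⟨Finset.mem_univ _, h⟩
          simp only [Finset.mem_insert, Finset.mem_erase, mem_ofList] at this
          exact this.imp_right And.right
      · rintro (rfl | h)
        · exact Or.inr (N_symm hG ((N_p0 hG q1).2 q1_mem))
        · by_cases e : v = q1
          · exact Or.inl e
          · exact Or.inr (hall v h e)
    rintro u (rfl | hu) v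
    · rw [N_p0 hG]; rfl
    · obtain ⟨h, rfl⟩ := exists_o1 hu
      have h1 : ∀ w, w ∈ C → h • w ∈ C := by
        rintro w (rfl | hw)
        · exact Or.inl (mem_H.1 h.2).2
        · exact Or.inr (pres_o1 h.2 hw)
      have h2 : ∀ w, w ∈ C → h⁻¹ • w ∈ C := by
        rintro w (rfl | hw)
        · exact Or.inl (mem_H.1 (h⁻¹).2).2
        · exact Or.inr (pres_o1 (h⁻¹).2 hw)
      have e := hq (h⁻¹ • v)
      rw [inv_smul_eq_iff] at e
      have e' : N G q1 (h⁻¹ • v) ↔ N G (h • q1) v := by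
        rw [← N_hsmul hG h, smul_inv_smul]
      rw [e'] at e
      rw [e]
      exact ⟨fun hv => by simpa using h1 _ hv, h2 v⟩
  set S := G ⊓ stabilizer (Equiv.Perm (Fin 275)) C with hS
  have hmove : ∀ g ∈ G, g p0 ∈ C → g ∈ stabilizer (Equiv.Perm (Fin 275)) C := by
    intro g hg hgC
    rw [mem_stabilizer_iff]
    ext v
    rw [Set.mem_smul_set_iff_inv_smul_mem, Equiv.Perm.smul_def, ← hclosed _ hgC v,
      ← hclosed p0 (Or.inl rfl) (g⁻¹ v)]
    refine or_congr ?_ ?_
    · exact Equiv.Perm.inv_eq_iff_eq.trans eq_comm |>.trans eq_comm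
    · rw [← N_smul hG hg p0 (g⁻¹ v)]; simp
  have ho : orbit S p0 = C := by
    ext v
    constructor
    · rintro ⟨⟨g, hg⟩, rfl⟩
      have h : g • p0 ∈ g • C := Set.smul_mem_smul_set (Or.inl rfl)
      rwa [mem_stabilizer_iff.1 hg.2] at h
    · intro hv
      obtain ⟨g, hg, rfl⟩ := hG.trans v
      exact ⟨⟨g, hg, hmove g hg hv⟩, rfl⟩
  have hst : S ⊓ stabilizer (Equiv.Perm (Fin 275)) p0 = H := by
    refine le_antisymm (fun g hg => hG.stab g hg.1.1 hg.2) fun g hg => ⟨⟨hG.le hg, ?_⟩, (mem_H.1 hg).2⟩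
    exact hmove g (hG.le hg) (Or.inl (mem_H.1 hg).2)
  have h := orbit_mul_stab S p0
  rw [ho, hst, card_H] at h
  have hCc : C.ncard = 113 := by
    rw [show C = insert p0 {p : Fin 275 | (p : ℕ) ∈ o1} from rfl,
      Set.ncard_insert_of_notMem (show p0 ∉ {p : Fin 275 | (p : ℕ) ∈ o1} from p0_not_o1) (Set.toFinite _),
      ncard_list o1_nodup fun _ => o1_mem_lt, orb_ok.2.2.2.2.2.1]
  have hd := Subgroup.card_dvd_of_le (show S ≤ G from inf_le_left)
  rw [← h, hCc, hG.card] at hd
  norm_num at hd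

open scoped Classical in
theorem neighbours (hG : Rk G) : ∃ k, k < 2 ∧
    (∀ x : Fin 275, (x : ℕ) ∈ o1 → (N G q1 x ↔ (x : ℕ) ∈ bA)) ∧
    (∀ x : Fin 275, (x : ℕ) ∈ o1 → (N G q2 x ↔ (x : ℕ) ∈ lo k)) ∧
    (∀ x : Fin 275, (x : ℕ) ∈ o2 → (N G q2 x ↔ (x : ℕ) ∈ lo 2)) := by
  set X1 := Finset.univ.filter fun v => N G q1 v with hX1
  set X2 := Finset.univ.filter fun v => N G q2 v with hX2
  have m1 : ∀ v, v ∈ X1 ↔ N G q1 v := fun v => by simp [hX1]
  have m2 : ∀ v, v ∈ X2 ↔ N G q2 v := fun v => by simp [hX2]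
  have hp1 : p0 ∈ X1 := (m1 _).2 (N_symm hG ((N_p0 hG q1).2 q1_mem))
  have hp2 : p0 ∉ X2 := fun h =>
    not_o2_of_o1 ((N_p0 hG q2).1 (N_symm hG ((m2 _).1 h))) q2_mem
  have hsplit : ∀ X : Finset (Fin 275), X.card = (X ∩ {p0}).card + (X ∩ ofList o1).card +
      (X ∩ ofList o2).card := by
    intro X
    conv_lhs => rw [← Finset.inter_univ X, univ_split, Finset.insert_eq, Finset.inter_union_distrib_left,
      Finset.inter_union_distrib_left]
    have d1 : Disjoint (X ∩ ofList o1) (X ∩ ofList o2) := Finset.disjoint_left.2 fun a ha hb => by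
      simp only [Finset.mem_inter, mem_ofList] at ha hb
      exact not_o2_of_o1 ha.2 hb.2
    have d2 : Disjoint (X ∩ {p0}) (X ∩ ofList o1 ∪ X ∩ ofList o2) :=
      Finset.disjoint_left.2 fun a ha hb => by
        simp only [Finset.mem_inter, Finset.mem_singleton, Finset.mem_union, mem_ofList] at ha hb
        obtain ⟨-, rfl⟩ := ha
        rcases hb with hb | hb
        · exact p0_not_o1 hb.2
        · exact p0_not_o2 hb.2
    rw [Finset.card_union_of_disjoint d2, Finset.card_union_of_disjoint d1]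
    omega
  have s1 := hsplit X1
  rw [show X1.card = 112 from card_N hG q1, show (X1 ∩ {p0}).card = 1 by simp [hp1]] at s1
  have s2 := hsplit X2
  rw [show X2.card = 112 from card_N hG q2, show (X2 ∩ {p0}).card = 0 by simp [hp2]] at s2
  -- the edges between the two suborbits
  have hedge : 162 * (X2 ∩ ofList o1).card = 112 * (X1 ∩ ofList o2).card := by
    have h2 := Finset.sum_card_bipartiteAbove_eq_sum_card_bipartiteBelow
      (s := ofList o2) (t := ofList o1) (N G)
    have hc : ∀ c ∈ ofList o2, ((ofList o1).filter fun b => N G c b).card = (X2 ∩ ofList o1).card := by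
      intro c hc
      obtain ⟨h, rfl⟩ := exists_o2 (mem_ofList.1 hc)
      refine Finset.card_bij' (fun b _ => h⁻¹ • b) (fun b _ => h • b) ?_ ?_ ?_ ?_
      · intro b hb
        rw [Finset.mem_filter, mem_ofList] at hb
        rw [Finset.mem_inter, m2, mem_ofList]
        refine ⟨(N_hsmul hG h _ _).1 ?_, pres_o1 (h⁻¹).2 hb.1⟩
        rw [smul_inv_smul]; exact hb.2
      · intro b hb
        rw [Finset.mem_inter, m2, mem_ofList] at hb
        rw [Finset.mem_filter, mem_ofList]
        exact ⟨pres_o1 h.2 hb.2, (N_hsmul hG h _ _).2 hb.1⟩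
      · intro b _; exact smul_inv_smul h b
      · intro b _; exact inv_smul_smul h b
    have hb : ∀ b ∈ ofList o1, ((ofList o2).filter fun c => N G c b).card = (X1 ∩ ofList o2).card := by
      intro b hb
      obtain ⟨h, rfl⟩ := exists_o1 (mem_ofList.1 hb)
      refine Finset.card_bij' (fun c _ => h⁻¹ • c) (fun c _ => h • c) ?_ ?_ ?_ ?_
      · intro c hc
        rw [Finset.mem_filter, mem_ofList] at hc
        rw [Finset.mem_inter, m1, mem_ofList]
        refine ⟨(N_hsmul hG h _ _).1 ?_, pres_o2 (h⁻¹).2 hc.1⟩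
        rw [smul_inv_smul]; exact N_symm hG hc.2
      · intro c hc
        rw [Finset.mem_inter, m1, mem_ofList] at hc
        rw [Finset.mem_filter, mem_ofList]
        exact ⟨pres_o2 h.2 hc.2, N_symm hG ((N_hsmul hG h _ _).2 hc.1)⟩
      · intro c _; exact smul_inv_smul h c
      · intro c _; exact inv_smul_smul h c
    have e1 : ∀ c ∈ ofList o2, (Finset.bipartiteAbove (N G) (ofList o1) c).card =
        (X2 ∩ ofList o1).card := fun c hcm =>
      (congrArg Finset.card (Finset.ext fun b => by simp)).trans (hc c hcm)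
    have e2 : ∀ b ∈ ofList o1, (Finset.bipartiteBelow (N G) (ofList o2) b).card =
        (X1 ∩ ofList o2).card := fun b hbm =>
      (congrArg Finset.card (Finset.ext fun c => by simp)).trans (hb b hbm)
    rw [Finset.sum_congr rfl e1, Finset.sum_congr rfl e2, Finset.sum_const, Finset.sum_const,
      smul_eq_mul, smul_eq_mul, card_o1, card_o2] at h2
    exact h2
  -- the parts
  have hL : ∀ k, k < 4 → ((X2 ∩ ofList (lo k)).card = 0 ∧ ∀ x ∈ X2, (x : ℕ) ∉ lo k) ∨
      ((X2 ∩ ofList (lo k)).card = (lo k).length ∧ ∀ x : Fin 275, (x : ℕ) ∈ lo k → x ∈ X2) := fun k hk =>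
    list_split (lo_spec hk).2.1 (fun _ => lo_lt hk) fun x hx hxX y hy =>
      (m2 y).2 (tree_together hG lwsB_lt lwsB_fix (lo_spec hk).1 hx hy ((m2 x).1 hxX))
  obtain ⟨-, -, hcov1, hcov2, hd1, hd2⟩ := lOrbs_ok
  simp only [List.all_eq_true, Bool.or_eq_true, List.any_eq_true, Nat.beq_eq] at hcov1 hcov2
  have c1 : (X2 ∩ ofList o1).card = (X2 ∩ ofList (lo 0)).card + (X2 ∩ ofList (lo 1)).card := by
    rw [← Finset.card_union_of_disjoint]
    · congr 1
      ext x
      simp only [Finset.mem_inter, Finset.mem_union, mem_ofList]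
      constructor
      · rintro ⟨hx, hx1⟩
        rcases hcov1 _ hx1 with ⟨y, hy, e⟩ | ⟨y, hy, e⟩
        · exact Or.inl ⟨hx, e ▸ hy⟩
        · exact Or.inr ⟨hx, e ▸ hy⟩
      · rintro (⟨hx, hl⟩ | ⟨hx, hl⟩)
        · exact ⟨hx, by simpa using (lo_spec (k := 0) (by norm_num)).2.2 _ hl⟩
        · exact ⟨hx, by simpa using (lo_spec (k := 1) (by norm_num)).2.2 _ hl⟩
    · refine Finset.disjoint_left.2 fun a ha hb => ?_
      simp only [Finset.mem_inter, mem_ofList] at ha hb
      exact (List.nodup_append.1 (distinct_nodup hd1)).2.2 _ ha.2 _ hb.2 rfl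
  have hq2X : q2 ∉ X2 := fun h => N_irrefl hG q2 ((m2 _).1 h)
  have c2 : (X2 ∩ ofList o2).card = (X2 ∩ ofList (lo 2)).card + (X2 ∩ ofList (lo 3)).card := by
    rw [← Finset.card_union_of_disjoint]
    · congr 1
      ext x
      simp only [Finset.mem_inter, Finset.mem_union, mem_ofList]
      constructor
      · rintro ⟨hx, hx1⟩
        rcases hcov2 _ hx1 with (e | ⟨y, hy, e⟩) | ⟨y, hy, e⟩
        · exact absurd hx ((show x = q2 from Fin.ext e) ▸ hq2X)
        · exact Or.inl ⟨hx, e ▸ hy⟩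
        · exact Or.inr ⟨hx, e ▸ hy⟩
      · rintro (⟨hx, hl⟩ | ⟨hx, hl⟩)
        · exact ⟨hx, by simpa using (lo_spec (k := 2) (by norm_num)).2.2 _ hl⟩
        · exact ⟨hx, by simpa using (lo_spec (k := 3) (by norm_num)).2.2 _ hl⟩
    · refine Finset.disjoint_left.2 fun a ha hb => ?_
      simp only [Finset.mem_inter, mem_ofList] at ha hb
      exact (List.nodup_append.1 (List.nodup_cons.1 (distinct_nodup hd2)).2).2.2 _ ha.2 _ hb.2 rfl
  have hB : ∀ k, k < 4 → ((X1 ∩ ofList (pts (blocks.getD k []))).card = 0 ∧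
      ∀ x ∈ X1, (x : ℕ) ∉ pts (blocks.getD k [])) ∨
      ((X1 ∩ ofList (pts (blocks.getD k []))).card = (pts (blocks.getD k [])).length ∧
      ∀ x : Fin 275, (x : ℕ) ∈ pts (blocks.getD k []) → x ∈ X1) := fun k hk =>
    list_split (blk_spec hk).2.1 (fun _ h => o1_mem_lt ((blk_spec hk).2.2 _ h)) fun x hx hxX y hy =>
      (m1 y).2 (tree_together hG uWords_lt uWords_fix (blk_spec hk).1 hx hy ((m1 x).1 hxX))
  have hcovB : ∀ x : Fin 275, (x : ℕ) ∈ o1 → ∃ k, k < 4 ∧ (x : ℕ) ∈ pts (blocks.getD k []) := by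
    intro x hx
    obtain ⟨-, hlens, hcov, -⟩ := blocks_ok
    simp only [List.all_eq_true, List.any_eq_true, Nat.beq_eq] at hcov
    obtain ⟨b, hb, y, hy, e⟩ := hcov _ hx
    obtain ⟨k, hk, rfl⟩ := List.getElem_of_mem hb
    have hlen : blocks.length = 4 := by simpa using congrArg List.length hlens
    exact ⟨k, hlen ▸ hk, by rw [List.getD_eq_getElem _ _ hk, e]; exact hy⟩
  have hb00 : pts (blocks.getD 0 []) = [b0] := blocks_ok.2.2.2.2.1
  have hdisj : ∀ i j : ℕ, i < j → j < 4 → ∀ x, x ∈ pts (blocks.getD i []) →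
      x ∉ pts (blocks.getD j []) := by
    intro i j hij hj x hxi hxj
    have hlen : blocks.length = 4 := by simpa using congrArg List.length blocks_ok.2.1
    have hp := (List.nodup_flatten.1 (distinct_nodup blocks_ok.2.2.2.1)).2
    rw [List.pairwise_map, List.pairwise_iff_getElem] at hp
    rw [List.getD_eq_getElem _ _ (by omega)] at hxi hxj
    exact hp i j (by omega) (by omega) hij hxi hxj
  have c3 : (X1 ∩ ofList o1).card = (X1 ∩ ofList (pts (blocks.getD 1 []))).card +
      (X1 ∩ ofList (pts (blocks.getD 2 []))).card + (X1 ∩ ofList (pts (blocks.getD 3 []))).card := by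
    rw [← Finset.card_union_of_disjoint, ← Finset.card_union_of_disjoint]
    · congr 1
      ext x
      simp only [Finset.mem_inter, Finset.mem_union, mem_ofList]
      constructor
      · rintro ⟨hx, hx1⟩
        obtain ⟨k, hk, hxk⟩ := hcovB x hx1
        interval_cases k
        · rw [hb00, List.mem_singleton] at hxk
          exact absurd ((m1 x).1 hx) ((show x = q1 from Fin.ext hxk) ▸ N_irrefl hG q1)
        · exact Or.inl (Or.inl ⟨hx, hxk⟩)
        · exact Or.inl (Or.inr ⟨hx, hxk⟩)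
        · exact Or.inr ⟨hx, hxk⟩
      · rintro ((⟨hx, hl⟩ | ⟨hx, hl⟩) | ⟨hx, hl⟩)
        · exact ⟨hx, (blk_spec (k := 1) (by norm_num)).2.2 _ hl⟩
        · exact ⟨hx, (blk_spec (k := 2) (by norm_num)).2.2 _ hl⟩
        · exact ⟨hx, (blk_spec (k := 3) (by norm_num)).2.2 _ hl⟩
    · refine Finset.disjoint_left.2 fun a ha hb => ?_
      simp only [Finset.mem_inter, Finset.mem_union, mem_ofList] at ha hb
      rcases ha with ha | ha
      · exact hdisj 1 3 (by norm_num) (by norm_num) _ ha.2 hb.2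
      · exact hdisj 2 3 (by norm_num) (by norm_num) _ ha.2 hb.2
    · refine Finset.disjoint_left.2 fun a ha hb => ?_
      simp only [Finset.mem_inter, mem_ofList] at ha hb
      exact hdisj 1 2 (by norm_num) (by norm_num) _ ha.2 hb.2
  have l1 : (pts (blocks.getD 1 [])).length = 3 := blk_len (k := 1) (by norm_num)
  have l2 : (pts (blocks.getD 2 [])).length = 27 := blk_len (k := 2) (by norm_num)
  have l3 : (pts (blocks.getD 3 [])).length = 81 := blk_len (k := 3) (by norm_num)
  obtain ⟨n0, n1, n2, n3⟩ := lo_len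
  have hne : (X2 ∩ ofList o1).card ≠ 0 := by
    intro h0
    refine closed_clique hG fun x hx hne => (m1 x).1 ?_
    obtain ⟨k, hk, hxk⟩ := hcovB x hx
    interval_cases k
    · rw [hb00, List.mem_singleton] at hxk
      exact absurd (Fin.ext hxk) hne
    all_goals
      rcases hB 1 (by norm_num) with a1 | a1 <;> rcases hB 2 (by norm_num) with a2 | a2 <;>
        rcases hB 3 (by norm_num) with a3 | a3 <;>
        first
          | exact a1.2 x hxk
          | exact a2.2 x hxk
          | exact a3.2 x hxk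
          | omega
  have h56 : (X2 ∩ ofList o1).card = 56 := by
    rcases hL 0 (by norm_num) with a0 | a0 <;> rcases hL 1 (by norm_num) with a1 | a1 <;> omega
  have h30 : (X1 ∩ ofList o1).card = 30 := by omega
  have hC56 : (X2 ∩ ofList o2).card = 56 := by omega
  have hA : ∀ x : Fin 275, (x : ℕ) ∈ o1 → (N G q1 x ↔ (x : ℕ) ∈ bA) := by
    intro x hx
    rcases hB 1 (by norm_num) with a1 | a1 <;> rcases hB 2 (by norm_num) with a2 | a2 <;>
      rcases hB 3 (by norm_num) with a3 | a3 <;> try (exfalso; omega)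
    rw [bA, List.mem_append, ← m1]
    refine ⟨fun hX => ?_, fun h => h.elim (a1.2 x) (a2.2 x)⟩
    obtain ⟨k, hk, hxk⟩ := hcovB x hx
    interval_cases k
    · rw [hb00, List.mem_singleton] at hxk
      exact absurd ((m1 x).1 hX) ((show x = q1 from Fin.ext hxk) ▸ N_irrefl hG q1)
    · exact Or.inl hxk
    · exact Or.inr hxk
    · exact absurd hxk (a3.2 x hX)
  have hCC : ∀ x : Fin 275, (x : ℕ) ∈ o2 → (N G q2 x ↔ (x : ℕ) ∈ lo 2) := by
    intro x hx
    rcases hL 2 (by norm_num) with a2 | a2 <;> rcases hL 3 (by norm_num) with a3 | a3 <;>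
      try (exfalso; omega)
    rw [← m2]
    refine ⟨fun hX => ?_, a2.2 x⟩
    rcases hcov2 _ hx with (e | ⟨y, hy, e⟩) | ⟨y, hy, e⟩
    · exact absurd hX ((show x = q2 from Fin.ext e) ▸ hq2X)
    · exact e ▸ hy
    · exact absurd (e ▸ hy) (a3.2 x hX)
  rcases hL 0 (by norm_num) with a0 | a0 <;> rcases hL 1 (by norm_num) with a1 | a1 <;>
    try (exfalso; omega)
  · refine ⟨1, by norm_num, hA, fun x hx => ?_, hCC⟩
    rw [← m2]
    refine ⟨fun hX => ?_, a1.2 x⟩
    rcases hcov1 _ hx with ⟨y, hy, e⟩ | ⟨y, hy, e⟩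
    · exact absurd (e ▸ hy) (a0.2 x hX)
    · exact e ▸ hy
  · refine ⟨0, by norm_num, hA, fun x hx => ?_, hCC⟩
    rw [← m2]
    refine ⟨fun hX => ?_, a0.2 x⟩
    rcases hcov1 _ hx with ⟨y, hy, e⟩ | ⟨y, hy, e⟩
    · exact e ▸ hy
    · exact absurd (e ▸ hy) (a1.2 x hX)

theorem adj_eq (hG : Rk G) {R : NTree} {k : ℕ} (h0 : autB R 0 = true) (h2 : autB R 2 = true)
    (hgr : graphB R k = true) (hA : ∀ x : Fin 275, (x : ℕ) ∈ o1 → (N G q1 x ↔ (x : ℕ) ∈ bA))
    (hB : ∀ x : Fin 275, (x : ℕ) ∈ o1 → (N G q2 x ↔ (x : ℕ) ∈ lo k))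
    (hC : ∀ x : Fin 275, (x : ℕ) ∈ o2 → (N G q2 x ↔ (x : ℕ) ∈ lo 2)) (u v : Fin 275) :
    N G u v ↔ adj R u v = true := by
  simp only [graphB, Bool.and_eq_true, List.all_eq_true, List.mem_range, beq_iff_eq] at hgr
  obtain ⟨⟨⟨g0, g12⟩, g2⟩, gs⟩ := hgr
  have ay : ∀ (l : List ℕ) (x : ℕ), (l.any fun y => Nat.beq x y) = true ↔ x ∈ l := fun l x => by
    simp [List.any_eq_true]
  have hp : ∀ v : Fin 275, N G p0 v ↔ adj R p0 v = true := fun v => by
    rw [N_p0 hG, show ((p0 : Fin 275) : ℕ) = 35 from rfl, g0 _ v.2, ay]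
  have h2' : ∀ (u : Fin 275), (u : ℕ) ∈ o2 → ∀ v, N G u v ↔ adj R u v = true := by
    intro u hu v
    obtain ⟨h, rfl⟩ := exists_o2 hu
    obtain ⟨w, rfl⟩ : ∃ w, h • w = v := ⟨h⁻¹ • v, smul_inv_smul h v⟩
    rw [N_hsmul hG, adj_smul h0 h2]
    rcases part w with rfl | hw | hw
    · rw [N_comm hG, hp, gs _ q2.2 _ p0.2]
    · rw [hB w hw, show ((q2 : Fin 275) : ℕ) = c0 from rfl, (g12 _ hw).2, ay]
    · rw [hC w hw, show ((q2 : Fin 275) : ℕ) = c0 from rfl, g2 _ hw, ay]
  rcases part u with rfl | hu | hu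
  · exact hp v
  · obtain ⟨h, rfl⟩ := exists_o1 hu
    obtain ⟨w, rfl⟩ : ∃ w, h • w = v := ⟨h⁻¹ • v, smul_inv_smul h v⟩
    rw [N_hsmul hG, adj_smul h0 h2]
    rcases part w with rfl | hw | hw
    · rw [N_comm hG, hp, gs _ q1.2 _ p0.2]
    · rw [hA w hw, show ((q1 : Fin 275) : ℕ) = b0 from rfl, (g12 _ hw).1, ay]
    · rw [N_comm hG, h2' w hw, gs _ q1.2 _ w.2]
  · exact h2' u hu v

/-! ### The group of the graph -/

/-- The automorphism group of the graph. -/
def autG : Subgroup (Equiv.Perm (Fin 275)) where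
  carrier := {σ | ∀ u v : Fin 275, adj rows (σ u) (σ v) = adj rows u v}
  one_mem' _ _ := rfl
  mul_mem' {a b} ha hb u v := by rw [Equiv.Perm.mul_apply, Equiv.Perm.mul_apply, ha, hb]
  inv_mem' {a} ha u v := by
    rw [← ha (a⁻¹ u) (a⁻¹ v)]
    simp

theorem class_bound : ∀ (l : List (ℕ × ℕ)) (fixed : List ℕ) (K : Subgroup (Equiv.Perm (Fin 275))),
    classB l fixed = true → K ≤ autG →
    (∀ σ ∈ K, ∀ p : Fin 275, (p : ℕ) ∈ fixed → σ p = p) → (∀ x ∈ fixed, x < 275) →
    Nat.card K ≤ (l.map Prod.snd).prod := by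
  have hagree : ∀ {fixed : List ℕ} {K : Subgroup (Equiv.Perm (Fin 275))}, K ≤ autG →
      (∀ σ ∈ K, ∀ p : Fin 275, (p : ℕ) ∈ fixed → σ p = p) → (∀ x ∈ fixed, x < 275) →
      ∀ σ ∈ K, ∀ p : Fin 275, agree fixed p ((σ p : Fin 275) : ℕ) = true := by
    intro fixed K hK hfix hlt σ hσ p
    simp only [agree, List.all_eq_true, beq_iff_eq]
    intro f hf
    have h := hK hσ p ⟨f, hlt f hf⟩
    rw [hfix σ hσ ⟨f, hlt f hf⟩ hf] at h
    exact h.symm
  have hout : ∀ {fixed : List ℕ} {K : Subgroup (Equiv.Perm (Fin 275))},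
      (∀ σ ∈ K, ∀ p : Fin 275, (p : ℕ) ∈ fixed → σ p = p) → ∀ σ ∈ K, ∀ p : Fin 275,
      (p : ℕ) ∉ fixed → ((σ p : Fin 275) : ℕ) ∉ fixed := by
    intro fixed K hfix σ hσ p hp hm
    exact hp (σ.injective (hfix σ hσ _ hm) ▸ hm)
  intro l
  induction l with
  | nil =>
    intro fixed K h hK hfix hlt
    simp only [List.map_nil, List.prod_nil]
    refine le_of_eq ?_
    rw [show K = ⊥ from (Subgroup.eq_bot_iff_forall K).2 fun σ hσ => Equiv.ext fun p => ?_,
      Subgroup.card_bot]
    simp only [classB, List.all_eq_true, List.mem_range, Bool.or_eq_true, List.any_eq_true, Nat.beq_eq,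
      Bool.not_eq_true'] at h
    by_cases hp : (p : ℕ) ∈ fixed
    · exact hfix σ hσ p hp
    · rcases h p p.2 with ⟨f, hf, e⟩ | h'
      · exact absurd (e ▸ hf) hp
      · rcases h' (σ p) (σ p).2 with (e | ⟨f, hf, e⟩) | e
        · exact (Fin.ext e).symm
        · exact absurd (e ▸ hf) (hout hfix σ hσ p hp)
        · rw [hagree hK hfix hlt σ hσ p] at e
          exact absurd e (by simp)
  | cons vc rest ih =>
    obtain ⟨v, c⟩ := vc
    intro fixed K h hK hfix hlt
    simp only [classB, Bool.and_eq_true, Nat.blt_eq, Nat.ble_eq, Bool.not_eq_true', List.any_eq_false,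
      Nat.beq_eq] at h
    obtain ⟨⟨⟨hv, hc⟩, hvout⟩, hrest⟩ := h
    set x : Fin 275 := ⟨v, hv⟩ with hx
    have ho : (orbit K x).ncard ≤ c := by
      refine le_trans ?_ hc
      rw [← Set.ncard_image_of_injective _ Fin.val_injective,
        ← List.toFinset_card_of_nodup (List.nodup_range.filter _), ← Set.ncard_coe_finset]
      refine Set.ncard_le_ncard ?_ (Finset.finite_toSet _)
      rintro _ ⟨_, ⟨⟨σ, hσ⟩, rfl⟩, rfl⟩
      refine List.mem_toFinset.2 (List.mem_filter.2 ⟨List.mem_range.2 (Fin.is_lt _), ?_⟩)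
      simp only [Bool.and_eq_true, Bool.not_eq_true', List.any_eq_false, Nat.beq_eq]
      exact ⟨fun f hf e => hout hfix σ hσ x (fun hm => hvout _ hm rfl) (e ▸ hf),
        hagree hK hfix hlt σ hσ x⟩
    have hr := ih (v :: fixed) (K ⊓ stabilizer (Equiv.Perm (Fin 275)) x) hrest
      (inf_le_left.trans hK) (fun σ hσ p hp => by
        rcases List.mem_cons.1 hp with hp | hp
        · rw [show p = x from Fin.ext hp]; exact hσ.2
        · exact hfix σ hσ.1 p hp) (by
        intro y hy
        rcases List.mem_cons.1 hy with rfl | hy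
        · exact hv
        · exact hlt y hy)
    rw [← orbit_mul_stab K x]
    simp only [List.map_cons, List.prod_cons]
    exact Nat.mul_le_mul ho hr

theorem card_autG : Nat.card autG ≤ 275 * 836075520 := by
  rw [← orbit_mul_stab autG p0, ← class_ok.2]
  refine Nat.mul_le_mul ?_ ?_
  · exact (Set.ncard_le_ncard (Set.subset_univ _) (Set.toFinite _)).trans
      (le_of_eq (by rw [Set.ncard_univ, Nat.card_fin]))
  · refine class_bound _ _ _ class_ok.1 inf_le_left (fun σ hσ p hp => ?_) (by simp)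
    rw [List.mem_singleton] at hp
    rw [show p = p0 from Fin.ext hp]
    exact hσ.2

theorem Rk.le_autG (hG : Rk G) (h : ∀ u v : Fin 275, N G u v ↔ adj rows u v = true) : G ≤ autG :=
  fun σ hσ u v => Bool.eq_iff_iff.2 ((h _ _).symm.trans ((N_smul hG hσ u v).trans (h u v)))

theorem rk_grp : Rk grp where
  le := inf_le_left
  trans v := by
    have h := orbit_mul_stab grp p0
    rw [show grp ⊓ stabilizer (Equiv.Perm (Fin 275)) p0 = H from rfl, card_H, card_grp] at h
    have ho : orbit grp p0 = Set.univ := Set.eq_of_subset_of_ncard_le (Set.subset_univ _)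
      (by rw [Set.ncard_univ, Nat.card_fin]; omega) (Set.toFinite _)
    obtain ⟨⟨g, hg⟩, e⟩ : v ∈ orbit grp p0 := ho ▸ Set.mem_univ v
    exact ⟨g, hg, e⟩
  stab g hg e := mem_H.2 ⟨hg, e⟩

theorem eq_grp_of_le (hG : Rk G) (h1 : G ≤ autG) (h2 : grp ≤ autG) : G = grp := by
  set K := G ⊓ grp with hK
  have hH : H ≤ K := le_inf hG.le rk_grp.le
  have hA := (G.subgroupOf autG).index_mul_card
  rw [Nat.card_congr (Subgroup.subgroupOfEquivOfLe h1).toEquiv, hG.card] at hA
  have hlt : G.relIndex autG ≤ 256 := by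
    have hb := card_autG
    change G.relIndex autG * (275 * 3265920) = Nat.card autG at hA
    omega
  have hne : G.relIndex autG ≠ 0 := Subgroup.index_ne_zero_of_finite
  have hrel : G.relIndex grp ≤ 256 := (Subgroup.relIndex_le_of_le_right h2 hne).trans hlt
  have hKc : G.relIndex grp * Nat.card K = 275 * 3265920 := by
    have h := (G.subgroupOf grp).index_mul_card
    rw [← Subgroup.inf_subgroupOf_right G grp, Nat.card_congr (Subgroup.subgroupOfEquivOfLe
      (inf_le_right : K ≤ grp)).toEquiv] at h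
    rw [rk_grp.card] at h
    rw [← h, Subgroup.relIndex, Subgroup.inf_subgroupOf_right]
  have hst : K ⊓ stabilizer (Equiv.Perm (Fin 275)) p0 = H :=
    le_antisymm (fun g hg => hG.stab g hg.1.1 hg.2) fun g hg => ⟨hH hg, (mem_H.1 hg).2⟩
  have hos := orbit_mul_stab K p0
  rw [hst, card_H] at hos
  have hd : (orbit K p0).ncard ∣ 275 := by
    have : (orbit K p0).ncard * 3265920 ∣ 275 * 3265920 := by
      rw [hos, ← hKc]; exact dvd_mul_left _ _
    exact Nat.dvd_of_mul_dvd_mul_right (by norm_num) this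
  classical
  have hK1 : ∀ x y : Fin 275, (x : ℕ) ∈ o1 → (y : ℕ) ∈ o1 → x ∈ orbit K p0 → y ∈ orbit K p0 := by
    intro x y hx hy hxo
    obtain ⟨a, rfl⟩ := exists_o1 hx
    obtain ⟨b, rfl⟩ := exists_o1 hy
    rw [← orbit_eq_iff.2 hxo]
    exact ⟨⟨_, hH (b * a⁻¹).2⟩, show (b * a⁻¹) • a • q1 = _ by rw [mul_smul, inv_smul_smul]⟩
  have hK2 : ∀ x y : Fin 275, (x : ℕ) ∈ o2 → (y : ℕ) ∈ o2 → x ∈ orbit K p0 → y ∈ orbit K p0 := by
    intro x y hx hy hxo
    obtain ⟨a, rfl⟩ := exists_o2 hx
    obtain ⟨b, rfl⟩ := exists_o2 hy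
    rw [← orbit_eq_iff.2 hxo]
    exact ⟨⟨_, hH (b * a⁻¹).2⟩, show (b * a⁻¹) • a • q2 = _ by rw [mul_smul, inv_smul_smul]⟩
  set X := (orbit K p0).toFinset with hX
  have hXc : X.card = (orbit K p0).ncard := (Set.ncard_eq_toFinset_card' _).symm
  have hp : p0 ∈ X := Set.mem_toFinset.2 (mem_orbit_self p0)
  have e1 := list_split (X := X) o1_nodup (fun _ => o1_mem_lt) fun x hx hxX y hy =>
    Set.mem_toFinset.2 (hK1 x y hx hy (Set.mem_toFinset.1 hxX))
  have e2 := list_split (X := X) o2_nodup (fun _ => o2_mem_lt) fun x hx hxX y hy =>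
    Set.mem_toFinset.2 (hK2 x y hx hy (Set.mem_toFinset.1 hxX))
  have hsum : X.card = 1 + (X ∩ ofList o1).card + (X ∩ ofList o2).card := by
    conv_lhs => rw [← Finset.inter_univ X, univ_split, Finset.inter_insert_of_mem hp,
      Finset.inter_union_distrib_left]
    rw [Finset.card_insert_of_notMem (by simp [mem_ofList, p0_not_o1, p0_not_o2]),
      Finset.card_union_of_disjoint (Finset.disjoint_left.2 fun a ha hb => by
        simp only [Finset.mem_inter, mem_ofList] at ha hb
        exact not_o2_of_o1 ha.2 hb.2)]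
    omega
  rw [orb_ok.2.2.2.2.2.1] at e1
  rw [orb_ok.2.2.2.2.2.2.1] at e2
  have hbig : 2 ≤ (orbit K p0).ncard := by
    by_contra hlt'
    push Not at hlt'
    have : Nat.card K ≤ 1 * 3265920 := by rw [← hos]; exact Nat.mul_le_mul_right _ (by omega)
    have := Nat.mul_le_mul hrel this
    omega
  have hall : (orbit K p0).ncard = 275 := by
    rw [← hXc, hsum] at hd hbig ⊢
    rcases e1 with e1 | e1 <;> rcases e2 with e2 | e2 <;> rw [e1.1, e2.1] at hd hbig ⊢ <;>
      first
        | omega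
        | (exfalso; norm_num at hd)
  rw [hall] at hos
  have hKG : K = G := Subgroup.eq_of_le_of_card_ge inf_le_left (by rw [hG.card, hos])
  have hKg : K = grp := Subgroup.eq_of_le_of_card_ge inf_le_right (by rw [rk_grp.card, hos])
  exact hKG.symm.trans hKg

/-- The permutation exchanging the two graphs. -/
noncomputable def swapPerm : Equiv.Perm (Fin 275) where
  toFun p := ⟨sPerm.get 9 p, by
    have h := List.all_eq_true.1 swap_ok.1 p (List.mem_range.2 p.2)
    simp only [force_eq, Bool.and_eq_true, Nat.blt_eq] at h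
    exact h.1.1.1.1.1.1⟩
  invFun p := ⟨sInv.get 9 p, by
    have h := List.all_eq_true.1 swap_ok.1 p (List.mem_range.2 p.2)
    simp only [force_eq, Bool.and_eq_true, Nat.blt_eq] at h
    exact h.1.1.1.1.1.2⟩
  left_inv p := Fin.ext (by
    have h := List.all_eq_true.1 swap_ok.1 p (List.mem_range.2 p.2)
    simp only [force_eq, Bool.and_eq_true, Nat.beq_eq] at h
    exact h.1.1.1.1.2)
  right_inv p := Fin.ext (by
    have h := List.all_eq_true.1 swap_ok.1 p (List.mem_range.2 p.2)
    simp only [force_eq, Bool.and_eq_true, Nat.beq_eq] at h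
    exact h.1.1.1.2)

theorem swap_p0 : swapPerm p0 = p0 := Fin.ext swap_ok.2

theorem swap_H : H.map (MulAut.conj swapPerm).toMonoidHom = H := by
  refine Subgroup.eq_of_le_of_card_ge ?_
    (le_of_eq (Subgroup.card_map_of_injective (MulAut.conj swapPerm).injective).symm)
  rintro _ ⟨h, hh, rfl⟩
  have key : ∀ g g', g < 24 → g' < 24 → (∀ p : Fin 275, img g' (sPerm.get 9 p) = sPerm.get 9 (img g p)) →
      (MulAut.conj swapPerm).toMonoidHom (el g) ∈ H := by
    intro g g' hg hg' hs
    have e : (MulAut.conj swapPerm).toMonoidHom (el g) = el g' := by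
      show swapPerm * el g * swapPerm⁻¹ = el g'
      rw [mul_inv_eq_iff_eq_mul]
      ext p
      show sPerm.get 9 (el g p : ℕ) = (el g' ⟨sPerm.get 9 p, _⟩ : ℕ)
      rw [el_apply hg, el_apply hg']
      exact (hs p).symm
    rw [e]; exact el_mem g'
  refine gen_induction (P := fun h => (MulAut.conj swapPerm).toMonoidHom (h : Equiv.Perm (Fin 275)) ∈ H)
    ⟨h, hh⟩ (key 0 22 (by norm_num) (by norm_num) fun p => ?_)
    (key 2 23 (by norm_num) (by norm_num) fun p => ?_) (by simp [one_mem]) fun a b ha hb => by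
      rw [Subgroup.coe_mul, map_mul]; exact mul_mem ha hb
  all_goals
    have h := List.all_eq_true.1 swap_ok.1 p (List.mem_range.2 p.2)
    simp only [force_eq, Bool.and_eq_true, Nat.beq_eq] at h
  · exact h.1.1.2
  · exact h.1.2

theorem autG_swap {σ : Equiv.Perm (Fin 275)}
    (h : ∀ u v : Fin 275, adj rows0 (σ u) (σ v) = adj rows0 u v) :
    swapPerm * σ * swapPerm⁻¹ ∈ autG := by
  intro u v
  obtain ⟨u, rfl⟩ := swapPerm.surjective u
  obtain ⟨v, rfl⟩ := swapPerm.surjective v
  have key : ∀ a b : Fin 275, adj rows (swapPerm a) (swapPerm b) = adj rows0 a b := fun a b => by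
    have hh := List.all_eq_true.1 swap_ok.1 a (List.mem_range.2 a.2)
    simp only [force_eq, Bool.and_eq_true, List.all_eq_true, List.mem_range, beq_iff_eq] at hh
    exact hh.2 b b.2
  simp only [Equiv.Perm.mul_apply, Equiv.Perm.inv_def, Equiv.symm_apply_apply, key, h]

theorem grp_le_autG : grp ≤ autG :=
  (Subgroup.closure_le _).2 fun σ ⟨l, hl, hσ⟩ u v => by
    have h := List.all_eq_true.1 grp_graph_ok l hl
    simp only [List.all_eq_true, List.mem_range, force_eq, beq_iff_eq] at h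
    rw [hσ u, hσ v]
    exact h u u.2 v v.2

/-- A transitive group on the 275 indices with the given point stabiliser is isomorphic to the model. -/
theorem mulEquiv_grp {G : Subgroup (Equiv.Perm (Fin 275))} (hG : Rk G) : Nonempty (G ≃* grp) := by
  obtain ⟨k, hk, hA, hB, hC⟩ := neighbours hG
  obtain ⟨a0, a2, b0', b2'⟩ := aut_ok
  interval_cases k
  · have hN := adj_eq hG b0' b2' graph_ok.1 hA hB hC
    set G' := G.map (MulAut.conj swapPerm).toMonoidHom with hG'
    have hG'r : Rk G' := by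
      refine ⟨?_, fun v => ?_, ?_⟩
      · rw [← swap_H]; exact Subgroup.map_mono hG.le
      · obtain ⟨g, hg, e⟩ := hG.trans (swapPerm⁻¹ v)
        refine ⟨_, Subgroup.mem_map_of_mem _ hg, ?_⟩
        show swapPerm (g (swapPerm⁻¹ p0)) = v
        rw [show swapPerm⁻¹ p0 = p0 from (Equiv.symm_apply_eq _).2 swap_p0.symm, e]
        exact swapPerm.apply_symm_apply v
      · rintro _ ⟨g, hg, rfl⟩ e
        have e' : g p0 = p0 := by
          refine swapPerm.injective ?_
          have e2 : swapPerm (g (swapPerm⁻¹ p0)) = p0 := e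
          rw [show swapPerm⁻¹ p0 = p0 from (Equiv.symm_apply_eq _).2 swap_p0.symm] at e2
          rw [e2, swap_p0]
        rw [← swap_H]
        exact Subgroup.mem_map_of_mem _ (hG.stab g hg e')
    have hle : G' ≤ autG := by
      rintro _ ⟨g, hg, rfl⟩
      exact autG_swap fun u v =>
        Bool.eq_iff_iff.2 ((hN _ _).symm.trans ((N_smul hG hg u v).trans (hN u v)))
    exact ⟨((MulAut.conj swapPerm).subgroupMap G).trans
      (MulEquiv.subgroupCongr (eq_grp_of_le hG'r hle grp_le_autG))⟩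
  · exact ⟨MulEquiv.subgroupCongr
      (eq_grp_of_le hG (hG.le_autG (adj_eq hG a0 a2 graph_ok.2 hA hB hC)) grp_le_autG)⟩

end Cfsg.Agent.McL275.Rank
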