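import Cfsg.Agent.Lib.McL275.RankOrbits

/-!
The computations about the two graphs on 275 points invariant under the point stabiliser.
-/

set_option autoImplicit false
set_option maxRecDepth 100000

namespace Cfsg.Agent.McL275.Rank

open RankData PermWide
open Cfsg.Agent.Presented (NTree force force_eq)

/-- The words of the two generators of the stabiliser of the chosen point. -/
def lwsB : List (List ℕ) := [[10], [11]]

/-- One of the orbits of the stabiliser of the chosen point. -/
def lo (k : ℕ) : List ℕ := pts (lOrbs.getD k [])

/-- The points of the two middle orbits of the 3-group. -/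
def bA : List ℕ := pts (blocks.getD 1 []) ++ pts (blocks.getD 2 [])

theorem lOrbs_ok : ((List.range 4).all fun k => treeOK lwsB (lOrbs.getD k []) && distinct (lo k) &&
    (lo k).all fun x => (if k < 2 then o1 else o2).any fun y => Nat.beq x y) = true ∧
    (List.range 4).map (fun k => (lo k).length) = [56, 56, 56, 105] ∧
    (o1.all fun x => (lo 0).any (fun y => Nat.beq x y) || (lo 1).any fun y => Nat.beq x y) = true ∧
    (o2.all fun x => Nat.beq x c0 || (lo 2).any (fun y => Nat.beq x y) ||
      (lo 3).any fun y => Nat.beq x y) = true ∧
    distinct (lo 0 ++ lo 1) = true ∧ distinct (c0 :: (lo 2 ++ lo 3)) = true := by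
  decide +kernel

/-- The conditions on one of the two graphs. -/
noncomputable def graphB (R : NTree) (k : ℕ) : Bool :=
  ((List.range 275).all fun v => (adj R 35 v == o1.any fun y => Nat.beq v y)) &&
  (o1.all fun v => (adj R b0 v == bA.any fun y => Nat.beq v y) &&
    (adj R c0 v == (lo k).any fun y => Nat.beq v y)) &&
  (o2.all fun v => adj R c0 v == (lo 2).any fun y => Nat.beq v y) &&
  ((List.range 275).all fun u => (List.range 275).all fun v => adj R u v == adj R v u)

theorem graph_ok : graphB rows0 0 = true ∧ graphB rows 1 = true := by decide +kernel

theorem swap_ok : ((List.range 275).all fun p => force (sPerm.get 9 p) fun q =>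
    Nat.blt q 275 && Nat.blt (sInv.get 9 p) 275 && Nat.beq (sInv.get 9 q) p &&
      Nat.beq (sPerm.get 9 (sInv.get 9 p)) p && Nat.beq (img 22 q) (sPerm.get 9 (img 0 p)) &&
      Nat.beq (img 23 q) (sPerm.get 9 (img 2 p)) &&
      (List.range 275).all fun p' => adj rows q (sPerm.get 9 p') == adj rows0 p p') = true ∧
    sPerm.get 9 35 = 35 := by
  decide +kernel

/-- A point agrees with another one in all adjacencies to the listed points. -/
noncomputable def agree (fixed : List ℕ) (v w : ℕ) : Bool :=
  fixed.all fun f => adj rows v f == adj rows w f

/-- The classes along the base are small and the last ones are single points. -/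
noncomputable def classB : List (ℕ × ℕ) → List ℕ → Bool
  | [], fixed => (List.range 275).all fun u => fixed.any (fun f => Nat.beq u f) ||
      (List.range 275).all fun v => Nat.beq u v || fixed.any (fun f => Nat.beq v f) || !(agree fixed u v)
  | (v, c) :: rest, fixed => Nat.blt v 275 &&
      Nat.ble ((List.range 275).filter fun w =>
        !(fixed.any fun f => Nat.beq w f) && agree fixed v w).length c &&
      !(fixed.any fun f => Nat.beq v f) && classB rest (v :: fixed)

theorem class_ok : classB baseSeq [35] = true ∧ (baseSeq.map Prod.snd).prod = 836075520 := by
  decide +kernel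

theorem grp_graph_ok : ([genX, genT].all fun l => (List.range 275).all fun u =>
    force (PermWide.app l u) fun u' => (List.range 275).all fun v =>
      adj rows u' (PermWide.app l v) == adj rows u v) = true := by
  decide +kernel

end Cfsg.Agent.McL275.Rank
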