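import Cfsg.Agent.Lib.McL275.Model
import Cfsg.Agent.Lib.McL275.RankData
import Cfsg.Agent.Lib.McL275.RankCert
import Cfsg.Agent.Lib.Presented.Coset
import Cfsg.Agent.Lib.Presented.Count
import Cfsg.Agent.Lib.PermWide.Search

/-!
The stabiliser of a point in the McLaughlin group on 275 indices, with named elements read from a table
and with words evaluated by walks.
-/

set_option autoImplicit false
set_option maxRecDepth 100000

namespace Cfsg.Agent.McL275.Rank

open Cfsg PermWide RankData MulAction
open Cfsg.Agent.Presented (NTree force force_eq wval wval_append)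

/-- The fixed point. -/
def p0 : Fin 275 := ⟨35, by norm_num⟩

/-- The point stabiliser. -/
def H : Subgroup (Equiv.Perm (Fin 275)) := grp ⊓ stabilizer (Equiv.Perm (Fin 275)) p0

theorem mem_H {σ : Equiv.Perm (Fin 275)} : σ ∈ H ↔ σ ∈ grp ∧ σ p0 = p0 := by
  rw [H, Subgroup.mem_inf, mem_stabilizer_iff]
  rfl

theorem head_ok : chain.head?.map Prod.fst = some 35 ∧ levelsOK 275 [] chain.tail = true ∧
    ((allReps chain.tail).all fun t => app t 35 == 35) = true ∧ size chain.tail = 3265920 := by
  decide +kernel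

theorem chain_H : Chain H chain.tail := by
  obtain ⟨hhead, hok, hfix, -⟩ := head_ok
  refine ⟨hok, fun t ht => ?_, fun σ hσ => ?_⟩
  · have ht' : t ∈ allReps chain := by
      obtain ⟨p, hp, hpt⟩ := List.mem_flatMap.1 ht
      exact List.mem_flatMap.2 ⟨p, List.mem_of_mem_tail hp, hpt⟩
    obtain ⟨τ, hτ, hr⟩ := chain_reps t ht'
    refine ⟨τ, mem_H.2 ⟨hτ, Fin.ext ?_⟩, hr⟩
    rw [hr p0]
    exact eq_of_beq (List.all_eq_true.1 hfix t ht)
  · have hlev := chain_grp.ok
    have hall := chain_grp.all σ (mem_H.1 hσ).1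
    cases hchain : chain with
    | nil => simp [hchain] at hhead
    | cons p rest =>
      rw [hchain] at hhead hall hlev
      obtain ⟨b, ts⟩ := p
      simp only [List.head?_cons, Option.map_some, Option.some.injEq] at hhead
      subst hhead
      obtain ⟨t, ht, τ, hτ, ρ, hρ, rfl⟩ := hall
      simp only [levelsOK, Bool.and_eq_true, List.all_eq_true, Bool.or_eq_true, Bool.not_eq_true',
        beq_eq_false_iff_ne] at hlev
      obtain ⟨⟨-, hone⟩, hrest⟩ := hlev
      have hρ0 : ρ p0 = p0 := hρ.fix hrest p0 List.mem_cons_self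
      have hτ0 : τ p0 = p0 := by
        have h := (mem_H.1 hσ).2
        rwa [Equiv.Perm.mul_apply, hρ0] at h
      have hid : isId 275 t = true := by
        rcases (hone t ht).2 with h | h
        · exact absurd ((hτ p0).symm.trans (congrArg Fin.val hτ0)) h
        · exact h
      rw [hτ.eq_one hid, one_mul, List.tail_cons]
      exact hρ

theorem card_H : Nat.card H = 3265920 := by rw [chain_H.card, head_ok.2.2.2]

/-! ### Named elements and words -/

/-- The image of a point under a named element. -/
noncomputable def img (g i : ℕ) : ℕ := alph.get 9 (g * 275 + i)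

/-- A walk. -/
noncomputable def walk (w : List ℕ) : ℕ → ℕ :=
  List.rec (motive := fun _ => ℕ → ℕ) (fun i => i) (fun g _ ih i => force (img g i) ih) w

@[simp] theorem walk_nil (i : ℕ) : walk [] i = i := rfl

@[simp] theorem walk_cons (g i : ℕ) (w : List ℕ) : walk (g :: w) i = walk w (img g i) := force_eq _ _

theorem walk_append (u v : List ℕ) : ∀ i, walk (u ++ v) i = walk v (walk u i) := by
  induction u with
  | nil => intro i; simp
  | cons g u ih => intro i; simp [ih]

/-- The representatives whose product is a named element, the one acting first in front. -/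
def repsOf (g : ℕ) : List ℕ :=
  ((List.range 4).map fun k => (chain.tail.getD k (0, [])).2.getD ((ids.getD g []).getD k 0) 0).reverse

theorem ids_ok : ((List.range 24).all fun g => (List.range 4).all (fun k =>
    decide (k < chain.tail.length) &&
      decide ((ids.getD g []).getD k 0 < (chain.tail.getD k (0, [])).2.length)) &&
    (List.range 275).all fun i => Nat.beq (appW (repsOf g) i) (img g i)) = true := by
  decide +kernel

theorem exists_el (g : ℕ) : ∃ σ : Equiv.Perm (Fin 275), σ ∈ H ∧
    (g < 24 → ∀ i : Fin 275, (σ i : ℕ) = img g i) := by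
  by_cases hg : g < 24
  · have h := List.all_eq_true.1 ids_ok g (List.mem_range.2 hg)
    simp only [Bool.and_eq_true, List.all_eq_true, List.mem_range, decide_eq_true_eq, Nat.beq_eq] at h
    obtain ⟨σ, hσ, hr⟩ := exists_repW (G := H) (w := repsOf g) fun t ht => by
      simp only [repsOf, List.mem_reverse, List.mem_map, List.mem_range] at ht
      obtain ⟨k, hk, rfl⟩ := ht
      obtain ⟨h1, h2⟩ := h.1 k hk
      refine chain_H.reps _ (List.mem_flatMap.2 ⟨chain.tail.getD k (0, []), ?_, ?_⟩)
      · rw [List.getD_eq_getElem _ _ h1]; exact List.getElem_mem _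
      · rw [List.getD_eq_getElem _ _ h2]; exact List.getElem_mem _
    exact ⟨σ, hσ, fun _ i => (hr i).trans (h.2 i i.2)⟩
  · exact ⟨1, one_mem _, fun h => absurd h hg⟩

/-- A named element. -/
noncomputable def el (g : ℕ) : Equiv.Perm (Fin 275) := (exists_el g).choose

theorem el_mem (g : ℕ) : el g ∈ H := (exists_el g).choose_spec.1

theorem el_apply {g : ℕ} (hg : g < 24) (i : Fin 275) : (el g i : ℕ) = img g i :=
  (exists_el g).choose_spec.2 hg i

/-- The letters name elements. -/
def letters (w : List ℕ) : Bool := w.all fun g => Nat.blt g 24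

theorem letters_lt {w : List ℕ} (h : letters w = true) : ∀ g ∈ w, g < 24 := fun g hg => by
  simpa [letters, Nat.blt_eq] using List.all_eq_true.1 h g hg

theorem el_walk {w : List ℕ} (hw : ∀ g ∈ w, g < 24) (i : Fin 275) :
    (wval el w i : ℕ) = walk w i := by
  induction w generalizing i with
  | nil => simp [wval]
  | cons g w ih =>
    rw [wval, Equiv.Perm.mul_apply, ih (fun a ha => hw a (List.mem_cons_of_mem _ ha)),
      el_apply (hw g List.mem_cons_self), walk_cons]

theorem wval_mem {K : Subgroup (Equiv.Perm (Fin 275))} : ∀ {w : List ℕ}, (∀ g ∈ w, el g ∈ K) →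
    wval el w ∈ K := by
  intro w
  induction w with
  | nil => intro _; exact one_mem _
  | cons g w ih =>
    intro h
    exact mul_mem (ih fun a ha => h a (List.mem_cons_of_mem _ ha)) (h g List.mem_cons_self)

theorem wval_H (w : List ℕ) : wval el w ∈ H := wval_mem fun g _ => el_mem g

/-- Elements agreeing on the base points of a chain are equal. -/
theorem eq_of_bases_aux : ∀ {L : List Level} {fixed : List ℕ} {ρ : Equiv.Perm (Fin 275)},
    levelsOK 275 fixed L = true → InProd L ρ →
    (∀ p ∈ L, ∀ i : Fin 275, (i : ℕ) = p.1 → ρ i = i) → ρ = 1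
  | [], _, ρ, _, h, _ => h
  | (b, ts) :: rest, fixed, ρ, hok, h, hfix => by
    obtain ⟨t, ht, τ, hτ, ρ', hρ', rfl⟩ := h
    simp only [levelsOK, Bool.and_eq_true, decide_eq_true_eq, List.all_eq_true, Bool.or_eq_true,
      Bool.not_eq_true', beq_eq_false_iff_ne] at hok
    obtain ⟨⟨⟨hb, -⟩, hone⟩, hrest⟩ := hok
    have hτb : τ ⟨b, hb⟩ = ⟨b, hb⟩ := by
      have := hfix (b, ts) List.mem_cons_self ⟨b, hb⟩ rfl
      rwa [Equiv.Perm.mul_apply, hρ'.fix hrest ⟨b, hb⟩ List.mem_cons_self] at this
    have hid : isId 275 t = true := by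
      rcases (hone t ht).2 with h | h
      · exact absurd ((hτ ⟨b, hb⟩).symm.trans (congrArg Fin.val hτb)) h
      · exact h
    rw [hτ.eq_one hid, one_mul] at hfix ⊢
    exact eq_of_bases_aux hrest hρ' fun p hp => hfix p (List.mem_cons_of_mem _ hp)

theorem bases_ok : chain.tail.map Prod.fst = bases := by decide +kernel

theorem eq_of_bases {σ τ : Equiv.Perm (Fin 275)} (hσ : σ ∈ H) (hτ : τ ∈ H)
    (h : ∀ i : Fin 275, (i : ℕ) ∈ bases → σ i = τ i) : σ = τ := by
  have key : τ⁻¹ * σ = 1 := eq_of_bases_aux chain_H.ok (chain_H.all _ (mul_mem (inv_mem hτ) hσ))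
    fun p hp i hi => by
      rw [Equiv.Perm.mul_apply, h i (hi ▸ bases_ok ▸ List.mem_map_of_mem hp)]
      exact τ.symm_apply_apply i
  exact (inv_mul_eq_one.1 key).symm

/-- Two words give the same element. -/
noncomputable def same (u v : List ℕ) : Bool :=
  letters u && letters v && bases.all fun b => Nat.beq (walk u b) (walk v b)

theorem eq_of_same {u v : List ℕ} (h : same u v = true) : wval el u = wval el v := by
  simp only [same, Bool.and_eq_true, List.all_eq_true, Nat.beq_eq] at h
  refine eq_of_bases (wval_H u) (wval_H v) fun i hi => Fin.ext ?_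
  rw [el_walk (letters_lt h.1.1), el_walk (letters_lt h.1.2)]
  exact h.2 _ hi

/-! ### Trees of points -/

/-- The points of a tree. -/
def pts (t : PTree) : List ℕ := t.map Prod.fst

/-- Entries are reached from earlier ones by the words. -/
noncomputable def treeOK (ws : List (List ℕ)) (t : PTree) : Bool :=
  (List.range t.length).all fun k => force k fun k =>
    Nat.blt (t.getD k (0, 0, 0)).1 275 && (Nat.beq k 0 ||
      (Nat.blt (t.getD k (0, 0, 0)).2.1 k && Nat.blt (t.getD k (0, 0, 0)).2.2 ws.length &&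
        Nat.beq (walk (ws.getD (t.getD k (0, 0, 0)).2.2 []) (t.getD (t.getD k (0, 0, 0)).2.1 (0, 0, 0)).1)
          (t.getD k (0, 0, 0)).1))

theorem tree_mem {K : Subgroup (Equiv.Perm (Fin 275))} {ws : List (List ℕ)} {t : PTree}
    (hl : ∀ w ∈ ws, ∀ g ∈ w, g < 24) (hK : ∀ w ∈ ws, wval el w ∈ K) (ht : treeOK ws t = true)
    {r : Fin 275} (hr : (r : ℕ) = (t.getD 0 (0, 0, 0)).1) :
    ∀ x ∈ pts t, ∃ h : x < 275, (⟨x, h⟩ : Fin 275) ∈ orbit K r := by
  simp only [treeOK, List.all_eq_true, List.mem_range, force_eq, Bool.and_eq_true, Bool.or_eq_true,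
    Nat.blt_eq, Nat.beq_eq] at ht
  suffices h : ∀ k, (hk : k < t.length) →
      (⟨(t.getD k (0, 0, 0)).1, (ht k hk).1⟩ : Fin 275) ∈ orbit K r by
    intro x hx
    obtain ⟨e, he, rfl⟩ := List.mem_map.1 hx
    obtain ⟨k, hk, rfl⟩ := List.getElem_of_mem he
    have := h k hk
    simp only [List.getD_eq_getElem _ _ hk] at this
    exact ⟨_, this⟩
  intro k
  induction k using Nat.strong_induction_on with
  | _ k ih =>
    intro hk
    rcases (ht k hk).2 with h0 | ⟨⟨hp, hw⟩, he⟩
    · subst h0
      have e : (⟨(t.getD 0 (0, 0, 0)).1, (ht 0 hk).1⟩ : Fin 275) = r := Fin.ext hr.symm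
      rw [e]
      exact mem_orbit_self r
    · obtain ⟨a, ha⟩ := ih _ hp (lt_trans hp hk)
      rw [List.getD_eq_getElem ws _ hw] at he
      refine ⟨⟨_, hK _ (List.getElem_mem hw)⟩ * a, Fin.ext ?_⟩
      show ((wval el ws[_] * (a : Equiv.Perm (Fin 275))) r : ℕ) = _
      have ha' : (a : Equiv.Perm (Fin 275)) r =
          ⟨(t.getD (t.getD k (0, 0, 0)).2.1 (0, 0, 0)).1, (ht _ (lt_trans hp hk)).1⟩ := ha
      rw [Equiv.Perm.mul_apply, ha', el_walk (hl _ (List.getElem_mem hw))]
      exact he

theorem le_orbit_ncard {K : Subgroup (Equiv.Perm (Fin 275))} {ws : List (List ℕ)} {t : PTree}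
    (hl : ∀ w ∈ ws, ∀ g ∈ w, g < 24) (hK : ∀ w ∈ ws, wval el w ∈ K) (ht : treeOK ws t = true)
    (hnd : (pts t).Nodup) {r : Fin 275} (hr : (r : ℕ) = (t.getD 0 (0, 0, 0)).1) :
    t.length ≤ (orbit K r).ncard := by
  have h1 : ((pts t).toFinset : Set ℕ) ⊆ Fin.val '' orbit K r := fun x hx => by
    obtain ⟨h, hm⟩ := tree_mem hl hK ht hr x (List.mem_toFinset.1 hx)
    exact ⟨⟨x, h⟩, hm, rfl⟩
  have h2 := Set.ncard_le_ncard h1 (Set.toFinite _)
  rw [Set.ncard_coe_finset, List.toFinset_card_of_nodup hnd,
    Set.ncard_image_of_injective _ Fin.val_injective, pts, List.length_map] at h2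
  exact h2

/-! ### Levels of exact orbits -/

/-- The words of all levels. -/
def lwords (ls : List (List (List ℕ) × PTree)) : List (List ℕ) := ls.flatMap Prod.fst

/-- No entry is repeated. -/
noncomputable def distinct (l : List ℕ) : Bool :=
  List.rec (motive := fun _ => Bool) true (fun a l ih => !(l.any fun b => Nat.beq a b) && ih) l

theorem distinct_nodup {l : List ℕ} (h : distinct l = true) : l.Nodup := by
  induction l with
  | nil => exact List.nodup_nil
  | cons a l ih =>
    change (!(l.any fun b => Nat.beq a b) && distinct l) = true at h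
    simp only [Bool.and_eq_true, Bool.not_eq_true', List.any_eq_false, Nat.beq_eq] at h
    exact List.nodup_cons.2 ⟨fun hm => h.1 a hm rfl, ih h.2⟩

/-- Each list is an orbit of the words of its level and the later ones, whose words fix the earlier
roots. -/
noncomputable def levelsB : List (List (List ℕ) × PTree) → List ℕ → Bool
  | [], _ => true
  | (ws, t) :: rest, fixed =>
    (!t.isEmpty) && ws.all (fun w => letters w && fixed.all fun p => Nat.beq (walk w p) p) &&
      treeOK (ws ++ lwords rest) t && distinct (pts t) &&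
      (ws ++ lwords rest).all (fun w => (pts t).all fun x => (pts t).any fun y => Nat.beq (walk w x) y) &&
      levelsB rest ((t.getD 0 (0, 0, 0)).1 :: fixed)

theorem levels_fix : ∀ {ls : List (List (List ℕ) × PTree)} {fixed : List ℕ}, levelsB ls fixed = true →
    ∀ w ∈ lwords ls, (∀ g ∈ w, g < 24) ∧ ∀ p ∈ fixed, walk w p = p
  | [], _, _, w, hw => by simp [lwords] at hw
  | (ws, t) :: rest, fixed, h, w, hw => by
    simp only [levelsB, Bool.and_eq_true, List.all_eq_true, Nat.beq_eq] at h
    simp only [lwords, List.flatMap_cons, List.mem_append] at hw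
    rcases hw with hw | hw
    · exact ⟨letters_lt (h.1.1.1.1.2 w hw).1, (h.1.1.1.1.2 w hw).2⟩
    · obtain ⟨h1, h2⟩ := levels_fix h.2 w hw
      exact ⟨h1, fun p hp => h2 p (List.mem_cons_of_mem _ hp)⟩

/-- The product of the orbit lengths divides the order. -/
theorem levels_dvd : ∀ {ls : List (List (List ℕ) × PTree)} {fixed : List ℕ}
    {K : Subgroup (Equiv.Perm (Fin 275))}, levelsB ls fixed = true →
    (∀ w ∈ lwords ls, wval el w ∈ K) → (ls.map fun l => l.2.length).prod ∣ Nat.card K
  | [], _, K, _, _ => by simp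
  | (ws, t) :: rest, fixed, K, h, hK => by
    have hlw := fun w hw => (levels_fix h w hw).1
    simp only [levelsB, Bool.and_eq_true, List.all_eq_true, List.any_eq_true, Nat.beq_eq,
      Bool.not_eq_true', List.isEmpty_eq_false_iff] at h
    obtain ⟨⟨⟨⟨⟨hne, -⟩, htree⟩, hd⟩, hcl⟩, hrest⟩ := h
    set W := ws ++ lwords rest with hW
    have hWeq : lwords ((ws, t) :: rest) = W := by simp [lwords, hW]
    rw [hWeq] at hK hlw
    set K1 := Subgroup.closure {σ | ∃ w ∈ W, σ = wval el w} with hK1
    have hK1K : K1 ≤ K := (Subgroup.closure_le _).2 (by rintro _ ⟨w, hw, rfl⟩; exact hK w hw)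
    have hK1m : ∀ w ∈ W, wval el w ∈ K1 := fun w hw => Subgroup.subset_closure ⟨w, hw, rfl⟩
    have hr0 : (t.getD 0 (0, 0, 0)).1 < 275 := by
      have h0 : 0 < t.length := List.length_pos_of_ne_nil hne
      simp only [treeOK, List.all_eq_true, List.mem_range, force_eq, Bool.and_eq_true, Nat.blt_eq] at htree
      exact (htree 0 h0).1
    set r : Fin 275 := ⟨_, hr0⟩ with hr
    have horb : Fin.val '' orbit K1 r = ((pts t).toFinset : Set ℕ) := by
      refine Set.Subset.antisymm ?_ fun x hx => by
        obtain ⟨hx', hm⟩ := tree_mem hlw hK1m htree (r := r) rfl x (List.mem_toFinset.1 hx)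
        exact ⟨⟨x, hx'⟩, hm, rfl⟩
      rintro _ ⟨_, ⟨⟨a, ha⟩, rfl⟩, rfl⟩
      show (((a : Equiv.Perm (Fin 275)) r : Fin 275) : ℕ) ∈ ((pts t).toFinset : Set ℕ)
      have hroot : (r : ℕ) ∈ pts t := by
        refine List.mem_map.2 ⟨t.getD 0 (0, 0, 0), ?_, rfl⟩
        rw [List.getD_eq_getElem _ _ (List.length_pos_of_ne_nil hne)]
        exact List.getElem_mem _
      have key : ∀ y : Fin 275, (y : ℕ) ∈ pts t → ((a y : Fin 275) : ℕ) ∈ pts t := by
        rw [hK1, ← Subgroup.mem_toSubmonoid, Subgroup.closure_toSubmonoid_of_finite] at ha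
        induction ha using Submonoid.closure_induction with
        | mem g hg =>
          obtain ⟨w, hw, rfl⟩ := hg
          intro y hy
          obtain ⟨z, hz, e⟩ := hcl w hw _ hy
          rw [el_walk (hlw w hw), e]
          exact hz
        | one => intro y hy; simpa using hy
        | mul p q _ _ ihp ihq => intro y hy; rw [Equiv.Perm.mul_apply]; exact ihp _ (ihq y hy)
      simpa using key r hroot
    have hn : (orbit K1 r).ncard = t.length := by
      rw [← Set.ncard_image_of_injective _ Fin.val_injective, horb, Set.ncard_coe_finset,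
        List.toFinset_card_of_nodup (distinct_nodup hd), pts, List.length_map]
    set K2 := K1 ⊓ stabilizer (Equiv.Perm (Fin 275)) r with hK2
    have hrec := levels_dvd (K := K2) hrest fun w hw => by
      refine ⟨hK1m w (List.mem_append_right _ hw), mem_stabilizer_iff.2 (Fin.ext ?_)⟩
      show (wval el w r : ℕ) = r
      rw [el_walk (levels_fix hrest w hw).1]
      exact (levels_fix hrest w hw).2 _ List.mem_cons_self
    have hc := (stabilizer K1 r).index_mul_card
    rw [index_stabilizer, hn] at hc
    have e : Nat.card (stabilizer K1 r) = Nat.card K2 :=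
      Nat.card_congr ((Equiv.subtypeSubtypeEquivSubtypeInter (fun g => g ∈ K1)
        (fun g : Equiv.Perm (Fin 275) => g • r = r)).trans (Equiv.subtypeEquivRight fun g => Iff.rfl))
    rw [e] at hc
    simp only [List.map_cons, List.prod_cons]
    exact ((mul_dvd_mul_left _ hrec).trans (dvd_of_eq hc)).trans (Subgroup.card_dvd_of_le hK1K)

end Cfsg.Agent.McL275.Rank
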