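import Cfsg.Agent.Lib.Presented.Table

/-! Generated orbits of the stabiliser of a point of the larger suborbit. -/

set_option autoImplicit false
set_option maxRecDepth 100000

namespace Cfsg.Agent.McL275.RankData

/-- The orbits, as trees in the two generators. -/
def lOrbs : List (List (ℕ × ℕ × ℕ)) :=
  [
    [(0, 0, 0), (108, 0, 0), (155, 0, 1), (209, 1, 0), (61, 1, 1), (128, 2, 0), (153, 2, 1), (22, 3, 0), (208, 3, 1), (146, 4, 0), (1, 5, 0), (257, 5, 1), (91, 6, 0), (271, 6, 1), (113, 7, 0), (67, 7, 1), (212, 8, 0), (34, 8, 1), (110, 9, 0), (242, 9, 1), (77, 10, 0), (268, 11, 0), (131, 11, 1), (135, 12, 0), (15, 12, 1), (180, 13, 1), (138, 14, 1), (236, 16, 0), (59, 17, 0), (37, 17, 1), (57, 18, 0), (51, 18, 1), (149, 19, 1), (168, 20, 0), (86, 21, 0), (74, 21, 1), (18, 22, 0), (41, 22, 1), (221, 23, 0), (101, 24, 1), (142, 26, 0), (249, 27, 0), (177, 27, 1), (185, 29, 0), (160, 29, 1), (75,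 31, 0), (33, 32, 0), (25, 33, 0), (205, 34, 0), (182, 35, 1), (260, 36, 0), (88, 36, 1), (100, 38, 0), (215, 41, 0), (139, 41, 1), (30, 47, 1)],
    [(4, 0, 0), (112, 0, 0), (116, 0, 1), (81, 1, 0), (231, 1, 1), (238, 2, 0), (264, 2, 1), (48, 3, 0), (13, 3, 1), (92, 4, 0), (119, 4, 1), (40, 5, 0), (183, 5, 1), (220, 6, 0), (267, 7, 0), (150, 7, 1), (85, 8, 0), (263, 8, 1), (189, 9, 0), (265, 9, 1), (120, 10, 0), (141, 10, 1), (252, 11, 0), (240, 11, 1), (245, 12, 0), (196, 12, 1), (71, 13, 0), (94, 13, 1), (70, 14, 0), (187, 15, 0), (201, 15, 1), (225, 16, 0), (163, 17, 0), (171, 17, 1), (109, 18, 1), (52, 19, 0), (50, 20, 1), (219, 21, 0), (8, 22, 0), (27, 22, 1), (130, 23, 0), (224, 23, 1), (229, 24, 1), (256, 27, 0), (193, 28, 0), (123, 29, 1), (105, 30, 1), (83, 31, 0), (36, 33, 0), (247, 34, 0), (56, 40, 0), (175, 45, 1), (233, 46, 0), (164, 47, 0), (167, 53, 0), (96, 54, 0)],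
    [(6, 0, 0), (162, 0, 0), (174, 0, 1), (87, 1, 0), (114, 1, 1), (118, 2, 0), (63, 2, 1), (46, 3, 0), (23, 4, 0), (218, 4, 1), (178, 5, 0), (148, 5, 1), (222, 7, 0), (106, 7, 1), (73, 8, 0), (31, 8, 1), (176, 9, 0), (179, 9, 1), (66, 10, 0), (274, 10, 1), (181, 11, 0), (210, 11, 1), (43, 12, 0), (10, 13, 0), (14, 13, 1), (55, 14, 0), (17, 14, 1), (199, 15, 0), (266, 17, 0), (134, 18, 0), (29, 19, 0), (243, 20, 0), (69, 20, 1), (99, 21, 0), (95, 21, 1), (127, 22, 0), (133, 22, 1), (152, 24, 0), (195, 25, 0), (214, 25, 1), (98, 26, 1), (143, 27, 1), (129, 28, 0), (137, 29, 1), (191, 30, 1), (203, 31, 0), (261, 31, 1), (38, 32, 0), (262, 32, 1), (251, 36, 0), (79, 37, 1), (65, 39, 0), (107, 43, 0), (237, 48, 0), (159, 49, 0), (140, 51, 0)],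
    [(2, 0, 0), (121, 0, 0), (97, 0, 1), (206, 1, 0), (213, 1, 1), (147, 2, 0), (192, 2, 1), (254, 3, 0), (202, 3, 1), (102, 4, 0), (80, 4, 1), (54, 5, 0), (165, 5, 1), (235, 6, 0), (226, 6, 1), (151, 7, 0), (246, 7, 1), (42, 8, 0), (124, 8, 1), (144, 9, 0), (197, 9, 1), (5, 10, 0), (24, 10, 1), (228, 11, 1), (16, 12, 0), (194, 13, 0), (166, 13, 1), (28, 14, 0), (84, 14, 1), (207, 15, 0), (232, 15, 1), (136, 16, 0), (204, 17, 1), (21, 18, 0), (49, 19, 0), (188, 19, 1), (62, 20, 0), (90, 20, 1), (170, 21, 0), (145, 21, 1), (7, 22, 0), (58, 22, 1), (115, 23, 0), (122, 24, 0), (44, 24, 1), (82, 26, 0), (60, 27, 0), (234, 27, 1), (172, 29, 0), (72, 29, 1), (78, 30, 0), (103, 30, 1), (200, 31, 1), (241, 32, 0), (223, 33, 0), (253, 33, 1), (154, 34, 0), (211, 35, 1), (157, 36, 0), (64, 36, 1), (217, 39, 1), (93, 40, 0), (47, 42, 0), (3, 42, 1), (45, 43, 0), (158, 50, 0), (11, 50, 1), (9, 51, 1), (12,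 52, 0), (20, 52, 1), (173, 53, 0), (32, 53, 1), (26, 54, 0), (270, 54, 1), (39, 55, 0), (269, 57, 1), (186, 58, 0), (89, 58, 1), (272, 59, 1), (19, 60, 1), (169, 61, 1), (239, 62, 0), (258, 62, 1), (104, 63, 0), (227, 63, 1), (273, 64, 0), (259, 66, 0), (111, 67, 0), (248, 67, 1), (132, 68, 0), (125, 68, 1), (244, 69, 0), (198, 70, 0), (161, 71, 0), (76, 71, 1), (117, 73, 0), (53, 74, 1), (126, 75, 0), (255, 75, 1), (250, 79, 0), (156, 80, 0), (184, 85, 0), (230, 91, 0), (216, 92, 1), (68, 98, 0)]]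

end Cfsg.Agent.McL275.RankData
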