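import Cfsg.Agent.Lib.McL275.RankGroup
import Cfsg.Agent.Lib.McL275.RankOrbData

/-!
The orbits of the point stabiliser of the McLaughlin group, its two generators and an automorphism
exchanging the two classes of point stabilisers of the larger suborbit.
-/

set_option autoImplicit false
set_option maxRecDepth 100000

namespace Cfsg.Agent.McL275.Rank

open Cfsg PermWide RankData MulAction
open Cfsg.Agent.Presented (NTree force force_eq wval wval_append)

theorem letters_of {w : List ℕ} (h : w.all (fun g => Nat.blt g 24) = true) : ∀ g ∈ w, g < 24 :=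
  letters_lt h

/-! ### Closed lists of points -/

/-- The words map the points to points. -/
noncomputable def closedB (ws : List (List ℕ)) (l : List ℕ) : Bool :=
  ws.all fun w => letters w && l.all fun x => l.any fun y => Nat.beq (walk w x) y

theorem closure_pres {ws : List (List ℕ)} {l : List ℕ} (h : closedB ws l = true)
    {σ : Equiv.Perm (Fin 275)} (hσ : σ ∈ Subgroup.closure {τ | ∃ w ∈ ws, τ = wval el w}) :
    ∀ y : Fin 275, (y : ℕ) ∈ l → ((σ y : Fin 275) : ℕ) ∈ l := by
  simp only [closedB, Bool.and_eq_true, List.all_eq_true, List.any_eq_true, Nat.beq_eq] at h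
  rw [← Subgroup.mem_toSubmonoid, Subgroup.closure_toSubmonoid_of_finite] at hσ
  induction hσ using Submonoid.closure_induction with
  | mem g hg =>
    obtain ⟨w, hw, rfl⟩ := hg
    intro y hy
    obtain ⟨z, hz, e⟩ := (h w hw).2 _ hy
    rw [el_walk (letters_lt (h w hw).1), e]
    exact hz
  | one => intro y hy; simpa using hy
  | mul p q _ _ ihp ihq => intro y hy; rw [Equiv.Perm.mul_apply]; exact ihp _ (ihq y hy)

theorem card_stab_inf (K : Subgroup (Equiv.Perm (Fin 275))) (r : Fin 275) :
    Nat.card (stabilizer K r) = Nat.card ↥(K ⊓ stabilizer (Equiv.Perm (Fin 275)) r) :=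
  Nat.card_congr ((Equiv.subtypeSubtypeEquivSubtypeInter (fun g => g ∈ K)
    (fun g : Equiv.Perm (Fin 275) => g • r = r)).trans (Equiv.subtypeEquivRight fun _ => Iff.rfl))

theorem orbit_mul_stab (K : Subgroup (Equiv.Perm (Fin 275))) (r : Fin 275) :
    (orbit K r).ncard * Nat.card ↥(K ⊓ stabilizer (Equiv.Perm (Fin 275)) r) = Nat.card K := by
  rw [← card_stab_inf, ← index_stabilizer]
  exact (stabilizer K r).index_mul_card

/-! ### The two generators -/

/-- The words of the two generators and their inverses. -/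
def gws : List (List ℕ) := [[0], [1], [2], [3]]

/-- The subgroup of the two generators. -/
def T : Subgroup (Equiv.Perm (Fin 275)) := Subgroup.closure {τ | ∃ w ∈ gws, τ = wval el w}

theorem T_le : T ≤ H := (Subgroup.closure_le _).2 (by rintro _ ⟨w, -, rfl⟩; exact wval_H w)

theorem gws_lt : ∀ w ∈ gws, ∀ g ∈ w, g < 24 := by decide

/-- The points of the smaller suborbit. -/
abbrev o1 : List ℕ := pts orb1

/-- The points of the larger suborbit. -/
abbrev o2 : List ℕ := pts orb2

/-- The chosen point of the smaller suborbit. -/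
def q1 : Fin 275 := ⟨b0, by decide⟩

/-- The chosen point of the larger suborbit. -/
def q2 : Fin 275 := ⟨c0, by decide⟩

theorem orb_ok : treeOK gws orb1 = true ∧ treeOK gws orb2 = true ∧ closedB gws o1 = true ∧
    closedB gws o2 = true ∧ distinct (35 :: (o1 ++ o2)) = true ∧ o1.length = 112 ∧ o2.length = 162 ∧
    (orb1.getD 0 (0, 0, 0)).1 = b0 ∧ (orb2.getD 0 (0, 0, 0)).1 = c0 := by
  decide +kernel

theorem part_ok : ((List.range 275).all fun p => Nat.beq p 35 || (o1.any fun x => Nat.beq p x) ||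
    o2.any fun x => Nat.beq p x) = true := by
  decide +kernel

theorem part (p : Fin 275) : p = p0 ∨ (p : ℕ) ∈ o1 ∨ (p : ℕ) ∈ o2 := by
  have h := List.all_eq_true.1 part_ok (p : ℕ) (List.mem_range.2 p.2)
  simp only [Bool.or_eq_true, List.any_eq_true, Nat.beq_eq] at h
  rcases h with (h | ⟨x, hx, h⟩) | ⟨x, hx, h⟩
  · exact Or.inl (Fin.ext h)
  · exact Or.inr (Or.inl (h ▸ hx))
  · exact Or.inr (Or.inr (h ▸ hx))

theorem part_nodup : (35 :: (o1 ++ o2)).Nodup := distinct_nodup orb_ok.2.2.2.2.1

theorem o1_nodup : o1.Nodup := (List.nodup_append.1 (List.nodup_cons.1 part_nodup).2).1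

theorem o2_nodup : o2.Nodup := (List.nodup_append.1 (List.nodup_cons.1 part_nodup).2).2.1

theorem not_o2_of_o1 {p : ℕ} (h : p ∈ o1) : p ∉ o2 :=
  fun h' => (List.nodup_append.1 (List.nodup_cons.1 part_nodup).2).2.2 p h p h' rfl

theorem p0_not_o1 : (p0 : ℕ) ∉ o1 :=
  fun h => (List.nodup_cons.1 part_nodup).1 (List.mem_append_left _ h)

theorem p0_not_o2 : (p0 : ℕ) ∉ o2 :=
  fun h => (List.nodup_cons.1 part_nodup).1 (List.mem_append_right _ h)

/-! ### The two generators generate -/

/-- The subgroup fixing the chosen point of the larger suborbit, on the indices. -/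
def L0 : Subgroup (Equiv.Perm (Fin 275)) := Subgroup.closure {el 10, el 11}

theorem lW_ok : lW.length = 2 ∧ same [10] (lW.getD 0 []) = true ∧ same [11] (lW.getD 1 []) = true ∧
    lW.all (fun w => w.all fun g => Nat.blt g 4) = true ∧ walk [10] c0 = c0 ∧ walk [11] c0 = c0 := by
  decide +kernel

theorem lLevels_ok : levelsB (lLevels.getD 0 []) [] = true ∧
    ((lLevels.getD 0 []).map fun l => l.2.length).prod = 20160 ∧
    (lwords (lLevels.getD 0 [])).all (fun w => w.all fun g => Nat.beq g 10 || Nat.beq g 11) = true := by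
  decide +kernel

theorem el_mem_T {g : ℕ} (hg : g < 4) : el g ∈ T :=
  Subgroup.subset_closure ⟨[g], by interval_cases g <;> simp [gws], by simp [wval]⟩

theorem L0_le : L0 ≤ T ⊓ stabilizer (Equiv.Perm (Fin 275)) q2 := by
  obtain ⟨hlen, h10, h11, hlet, hf10, hf11⟩ := lW_ok
  simp only [List.all_eq_true, Nat.blt_eq] at hlet
  refine (Subgroup.closure_le _).2 ?_
  rintro _ (rfl | rfl)
  · refine ⟨?_, mem_stabilizer_iff.2 (Fin.ext ?_)⟩
    · have e := eq_of_same h10
      simp only [wval, one_mul] at e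
      rw [e]
      refine wval_mem fun g hg => el_mem_T (hlet _ ?_ g hg)
      rw [List.getD_eq_getElem _ _ (by omega : 0 < lW.length)]
      exact List.getElem_mem _
    · show (el 10 q2 : ℕ) = q2
      rw [el_apply (by norm_num)]
      simpa [q2] using hf10
  · refine ⟨?_, mem_stabilizer_iff.2 (Fin.ext ?_)⟩
    · have e := eq_of_same h11
      simp only [wval, one_mul] at e
      rw [e]
      refine wval_mem fun g hg => el_mem_T (hlet _ ?_ g hg)
      rw [List.getD_eq_getElem _ _ (by omega : 1 < lW.length)]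
      exact List.getElem_mem _
    · show (el 11 q2 : ℕ) = q2
      rw [el_apply (by norm_num)]
      simpa [q2] using hf11

theorem le_card_L0 : 20160 ≤ Nat.card L0 := by
  obtain ⟨h1, h2, h3⟩ := lLevels_ok
  simp only [List.all_eq_true, Bool.or_eq_true, Nat.beq_eq] at h3
  refine Nat.le_of_dvd Nat.card_pos (h2 ▸ levels_dvd h1 fun w hw => wval_mem fun g hg => ?_)
  rcases h3 w hw g hg with rfl | rfl
  · exact Subgroup.subset_closure (Set.mem_insert _ _)
  · exact Subgroup.subset_closure (Set.mem_insert_of_mem _ rfl)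

theorem T_eq : T = H := by
  obtain ⟨-, ht2, -, -, hnd, -, hlen, -, hr⟩ := orb_ok
  have h1 : 162 ≤ (orbit T q2).ncard := by
    have h := le_orbit_ncard (K := T) gws_lt (fun w hw => Subgroup.subset_closure ⟨w, hw, rfl⟩) ht2
      o2_nodup (r := q2) hr.symm
    rw [← List.length_map (f := Prod.fst)] at h
    exact hlen ▸ h
  have h2 := le_card_L0.trans (Subgroup.card_le_of_le L0_le)
  have h3 := Nat.mul_le_mul h1 h2
  rw [orbit_mul_stab] at h3
  exact Subgroup.eq_of_le_of_card_ge T_le (by rw [card_H]; exact h3)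

theorem pres_o1 {σ : Equiv.Perm (Fin 275)} (hσ : σ ∈ H) {y : Fin 275} (hy : (y : ℕ) ∈ o1) :
    ((σ y : Fin 275) : ℕ) ∈ o1 :=
  closure_pres orb_ok.2.2.1 (show σ ∈ T by rwa [T_eq]) y hy

theorem pres_o2 {σ : Equiv.Perm (Fin 275)} (hσ : σ ∈ H) {y : Fin 275} (hy : (y : ℕ) ∈ o2) :
    ((σ y : Fin 275) : ℕ) ∈ o2 :=
  closure_pres orb_ok.2.2.2.1 (show σ ∈ T by rwa [T_eq]) y hy

theorem exists_o1 {x : Fin 275} (hx : (x : ℕ) ∈ o1) : ∃ h : H, h • q1 = x :=
  (tree_mem (K := H) gws_lt (fun w _ => wval_H w) orb_ok.1 (r := q1) orb_ok.2.2.2.2.2.2.2.1.symm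
    _ hx).2

theorem exists_o2 {x : Fin 275} (hx : (x : ℕ) ∈ o2) : ∃ h : H, h • q2 = x :=
  (tree_mem (K := H) gws_lt (fun w _ => wval_H w) orb_ok.2.1 (r := q2) orb_ok.2.2.2.2.2.2.2.2.symm
    _ hx).2

theorem q1_mem : (q1 : ℕ) ∈ o1 := by decide +kernel

theorem q2_mem : (q2 : ℕ) ∈ o2 := by decide +kernel

theorem ncard_list {l : List ℕ} (hl : l.Nodup) (hb : ∀ x ∈ l, x < 275) :
    {p : Fin 275 | (p : ℕ) ∈ l}.ncard = l.length := by
  rw [← Set.ncard_image_of_injective _ Fin.val_injective,
    ← List.toFinset_card_of_nodup hl, ← Set.ncard_coe_finset]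
  congr 1
  ext x
  simp only [Set.mem_image, Set.mem_ofPred_eq, List.coe_toFinset]
  exact ⟨fun ⟨p, hp, e⟩ => e ▸ hp, fun h => ⟨⟨x, hb x h⟩, h, rfl⟩⟩

theorem o_lt : (o1.all fun x => Nat.blt x 275) = true ∧ (o2.all fun x => Nat.blt x 275) = true := by
  decide +kernel

theorem orbit_o1 {x : Fin 275} (hx : (x : ℕ) ∈ o1) : orbit H x = {p : Fin 275 | (p : ℕ) ∈ o1} := by
  ext p
  refine ⟨?_, fun hp => ?_⟩
  · rintro ⟨h, rfl⟩
    exact pres_o1 h.2 hx
  · obtain ⟨a, ha⟩ := exists_o1 hx
    obtain ⟨b, hb⟩ := exists_o1 hp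
    exact ⟨b * a⁻¹, by dsimp only; rw [mul_smul, ← ha, inv_smul_smul, hb]⟩

theorem orbit_o2 {x : Fin 275} (hx : (x : ℕ) ∈ o2) : orbit H x = {p : Fin 275 | (p : ℕ) ∈ o2} := by
  ext p
  refine ⟨?_, fun hp => ?_⟩
  · rintro ⟨h, rfl⟩
    exact pres_o2 h.2 hx
  · obtain ⟨a, ha⟩ := exists_o2 hx
    obtain ⟨b, hb⟩ := exists_o2 hp
    exact ⟨b * a⁻¹, by dsimp only; rw [mul_smul, ← ha, inv_smul_smul, hb]⟩

theorem card_stab_o1 {x : Fin 275} (hx : (x : ℕ) ∈ o1) : Nat.card (stabilizer H x) = 29160 := by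
  have h := (stabilizer H x).index_mul_card
  rw [index_stabilizer, orbit_o1 hx, ncard_list o1_nodup fun p hp => by
    simpa using List.all_eq_true.1 o_lt.1 p hp, orb_ok.2.2.2.2.2.1, card_H] at h
  omega

theorem card_stab_o2 {x : Fin 275} (hx : (x : ℕ) ∈ o2) : Nat.card (stabilizer H x) = 20160 := by
  have h := (stabilizer H x).index_mul_card
  rw [index_stabilizer, orbit_o2 hx, ncard_list o2_nodup fun p hp => by
    simpa using List.all_eq_true.1 o_lt.2 p hp, orb_ok.2.2.2.2.2.2.1, card_H] at h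
  omega

/-! ### Elements of the stabiliser -/

/-- A named element, in the stabiliser. -/
noncomputable def elH (g : ℕ) : H := ⟨el g, el_mem g⟩

/-- The element of a word, in the stabiliser. -/
noncomputable def wH (w : List ℕ) : H := wval elH w

@[simp] theorem coe_wH : ∀ w : List ℕ, ((wH w : H) : Equiv.Perm (Fin 275)) = wval el w
  | [] => rfl
  | g :: w => by
    show ((wH w : H) : Equiv.Perm (Fin 275)) * el g = _
    rw [coe_wH w]
    rfl

theorem wH_append (u v : List ℕ) : wH (u ++ v) = wH v * wH u := wval_append u v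

@[simp] theorem wH_single (g : ℕ) : wH [g] = elH g := by simp [wH, wval]

theorem wH_eq_of_same {u v : List ℕ} (h : same u v = true) : wH u = wH v :=
  Subtype.ext (by rw [coe_wH, coe_wH]; exact eq_of_same h)

theorem wH_smul {w : List ℕ} (hw : ∀ g ∈ w, g < 24) (p : Fin 275) :
    ((wH w • p : Fin 275) : ℕ) = walk w p := by
  show (((wH w : H) : Equiv.Perm (Fin 275)) p : ℕ) = _
  rw [coe_wH, el_walk hw]

theorem inv_ok : same [0, 1] [] = true ∧ same [2, 3] [] = true := by decide +kernel

theorem elH_one : elH 1 = (elH 0)⁻¹ := by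
  have h := wH_eq_of_same inv_ok.1
  simp only [wH, wval, one_mul] at h
  exact eq_inv_of_mul_eq_one_left h

theorem elH_three : elH 3 = (elH 2)⁻¹ := by
  have h := wH_eq_of_same inv_ok.2
  simp only [wH, wval, one_mul] at h
  exact eq_inv_of_mul_eq_one_left h

theorem closure_gen : Subgroup.closure ({elH 0, elH 2} : Set H) = ⊤ := by
  refine Subgroup.map_injective H.subtype_injective ?_
  rw [MonoidHom.map_closure, ← MonoidHom.range_eq_map, Subgroup.range_subtype]
  refine le_antisymm ((Subgroup.closure_le _).2 ?_) (T_eq.ge.trans ((Subgroup.closure_le _).2 ?_))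
  · rintro _ ⟨h, -, rfl⟩
    exact h.2
  · rintro _ ⟨w, hw, rfl⟩
    set C := Subgroup.closure (H.subtype '' ({elH 0, elH 2} : Set H)) with hC
    have h0 : el 0 ∈ C := Subgroup.subset_closure ⟨elH 0, Set.mem_insert _ _, rfl⟩
    have h2 : el 2 ∈ C := Subgroup.subset_closure ⟨elH 2, Set.mem_insert_of_mem _ rfl, rfl⟩
    have h1 : el 1 ∈ C := by
      have : (elH 1 : Equiv.Perm (Fin 275)) = (el 0)⁻¹ := by rw [elH_one]; rfl
      rw [show el 1 = (el 0)⁻¹ from this]
      exact inv_mem h0
    have h3 : el 3 ∈ C := by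
      have : (elH 3 : Equiv.Perm (Fin 275)) = (el 2)⁻¹ := by rw [elH_three]; rfl
      rw [show el 3 = (el 2)⁻¹ from this]
      exact inv_mem h2
    refine wval_mem fun g hg => ?_
    simp only [gws, List.mem_cons, List.not_mem_nil, or_false] at hw
    rcases hw with rfl | rfl | rfl | rfl <;> (rw [List.mem_singleton] at hg; subst hg; assumption)

/-- Properties of the generators extend to the stabiliser. -/
theorem gen_induction {P : H → Prop} (h : H) (h0 : P (elH 0)) (h2 : P (elH 2)) (h1 : P 1)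
    (hm : ∀ a b, P a → P b → P (a * b)) : P h := by
  have hh : h ∈ Subgroup.closure ({elH 0, elH 2} : Set H) := closure_gen ▸ Subgroup.mem_top h
  rw [← Subgroup.mem_toSubmonoid, Subgroup.closure_toSubmonoid_of_finite] at hh
  induction hh using Submonoid.closure_induction with
  | mem g hg => rcases hg with rfl | rfl <;> assumption
  | one => exact h1
  | mul a b _ _ iha ihb => exact hm a b iha ihb

/-- The subgroup of the two given elements fixing the chosen point of the larger suborbit. -/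
noncomputable def L : Subgroup H := Subgroup.closure {elH 10, elH 11}

/-- Its companion of the other class. -/
noncomputable def L' : Subgroup H := Subgroup.closure {elH 12, elH 13}

theorem L_eq : L = stabilizer H q2 := by
  refine Subgroup.eq_of_le_of_card_ge ((Subgroup.closure_le _).2 ?_) ?_
  · rintro _ (rfl | rfl)
    · exact mem_stabilizer_iff.2 (mem_stabilizer_iff.1 (L0_le (Subgroup.subset_closure (Set.mem_insert _ _))).2)
    · exact mem_stabilizer_iff.2 (mem_stabilizer_iff.1
        (L0_le (Subgroup.subset_closure (Set.mem_insert_of_mem _ rfl))).2)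
  · rw [card_stab_o2 q2_mem]
    refine le_card_L0.trans (le_of_eq ?_)
    have e : L.map H.subtype = L0 := by
      rw [L, MonoidHom.map_closure, Set.image_pair]
      rfl
    rw [← e, Subgroup.card_map_of_injective H.subtype_injective]

theorem card_L : Nat.card L = 20160 := by rw [L_eq, card_stab_o2 q2_mem]

/-! ### The two graphs are invariant -/

/-- Adjacency in one of the two graphs. -/
noncomputable def adj (R : NTree) (u v : ℕ) : Bool := Nat.beq (R.get 1 (u * 275 + v)) 1

/-- A named element preserves a graph. -/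
noncomputable def autB (R : NTree) (g : ℕ) : Bool :=
  (List.range 275).all fun u => force (img g u) fun u' => (List.range 275).all fun v =>
    adj R u' (img g v) == adj R u v

theorem aut_ok : autB rows 0 = true ∧ autB rows 2 = true ∧ autB rows0 0 = true ∧
    autB rows0 2 = true := by
  decide +kernel

theorem adj_smul {R : NTree} (h0 : autB R 0 = true) (h2 : autB R 2 = true) (h : H) :
    ∀ u v : Fin 275, adj R ((h • u : Fin 275) : ℕ) ((h • v : Fin 275) : ℕ) = adj R u v := by
  have key : ∀ g, g < 24 → autB R g = true → ∀ u v : Fin 275,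
      adj R ((elH g • u : Fin 275) : ℕ) ((elH g • v : Fin 275) : ℕ) = adj R u v := fun g hg hb u v => by
    simp only [autB, List.all_eq_true, List.mem_range, force_eq, beq_iff_eq] at hb
    show adj R (el g u) (el g v) = _
    rw [el_apply hg, el_apply hg]
    exact hb _ u.2 _ v.2
  refine gen_induction (P := fun h => ∀ u v : Fin 275,
    adj R ((h • u : Fin 275) : ℕ) ((h • v : Fin 275) : ℕ) = adj R u v) h (key 0 (by norm_num) h0)
    (key 2 (by norm_num) h2) (fun u v => by rw [one_smul, one_smul]) fun a b ha hb u v => ?_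
  rw [mul_smul, mul_smul, ha, hb]

/-! ### Faithfulness and the automorphism -/

theorem sep_ok : (o2.all fun c => o2.all fun d => Nat.beq c d ||
    o1.any fun p => !(adj rows c p == adj rows d p)) = true := by
  decide +kernel

/-- The points of the smaller suborbit, as a type. -/
abbrev O1 : Type := {p : Fin 275 // (p : ℕ) ∈ o1}

theorem o1_iff (h : H) (p : Fin 275) :
    (((h : Equiv.Perm (Fin 275)) p : Fin 275) : ℕ) ∈ o1 ↔ (p : ℕ) ∈ o1 := by
  refine ⟨fun hp => ?_, fun hp => pres_o1 h.2 hp⟩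
  have := pres_o1 (h⁻¹).2 hp
  simpa using this

/-- The action on the smaller suborbit. -/
def Q : H →* Equiv.Perm O1 where
  toFun h := (h : Equiv.Perm (Fin 275)).subtypePerm (o1_iff h)
  map_one' := by ext p; rfl
  map_mul' a b := by ext p; rfl

theorem Q_injective : Function.Injective Q := by
  refine (injective_iff_map_eq_one Q).2 fun h hh => Subtype.ext (Equiv.ext fun p => ?_)
  have hfix : ∀ x : Fin 275, (x : ℕ) ∈ o1 → h • x = x := fun x hx =>
    congrArg Subtype.val (Equiv.congr_fun hh ⟨x, hx⟩)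
  rcases part p with rfl | hp | hp
  · exact (mem_H.1 h.2).2
  · exact hfix p hp
  · by_contra hne
    have hd : ((h • p : Fin 275) : ℕ) ∈ o2 := pres_o2 h.2 hp
    have hs := List.all_eq_true.1 (List.all_eq_true.1 sep_ok _ hd) _ hp
    simp only [Bool.or_eq_true, Nat.beq_eq, List.any_eq_true, Bool.not_eq_true', beq_eq_false_iff_ne] at hs
    rcases hs with hs | ⟨x, hx, hs⟩
    · exact hne (Fin.ext hs)
    · have hxlt : x < 275 := by simpa using List.all_eq_true.1 o_lt.1 x hx
      refine hs ?_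
      have h1 := adj_smul aut_ok.1 aut_ok.2.1 h p ⟨x, hxlt⟩
      rw [hfix ⟨x, hxlt⟩ hx] at h1
      exact h1

theorem tau_ok : ((o1.all fun p => (o1.any fun x => Nat.beq (tPerm.get 9 p) x) &&
    (o1.any fun x => Nat.beq (tInv.get 9 p) x) && Nat.beq (tInv.get 9 (tPerm.get 9 p)) p &&
      Nat.beq (tPerm.get 9 (tInv.get 9 p)) p)) = true := by
  decide +kernel

theorem tau_spec {p : ℕ} (hp : p ∈ o1) : tPerm.get 9 p ∈ o1 ∧ tInv.get 9 p ∈ o1 ∧
    tInv.get 9 (tPerm.get 9 p) = p ∧ tPerm.get 9 (tInv.get 9 p) = p := by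
  have h := List.all_eq_true.1 tau_ok p hp
  simp only [Bool.and_eq_true, List.any_eq_true, Nat.beq_eq] at h
  obtain ⟨⟨⟨⟨x, hx, h1⟩, ⟨y, hy, h2⟩⟩, h3⟩, h4⟩ := h
  exact ⟨h1 ▸ hx, h2 ▸ hy, h3, h4⟩

theorem o1_mem_lt {p : ℕ} (hp : p ∈ o1) : p < 275 := by
  simpa using List.all_eq_true.1 o_lt.1 p hp

/-- A permutation of the smaller suborbit normalising the image. -/
noncomputable def tau : Equiv.Perm O1 where
  toFun p := ⟨⟨tPerm.get 9 p.1, o1_mem_lt (tau_spec p.2).1⟩, (tau_spec p.2).1⟩
  invFun p := ⟨⟨tInv.get 9 p.1, o1_mem_lt (tau_spec p.2).2.1⟩, (tau_spec p.2).2.1⟩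
  left_inv p := Subtype.ext (Fin.ext (tau_spec p.2).2.2.1)
  right_inv p := Subtype.ext (Fin.ext (tau_spec p.2).2.2.2)

/-- The conjugate of one named element is another. -/
noncomputable def tEq (g g' : ℕ) : Bool :=
  o1.all fun p => Nat.beq (img g' (tPerm.get 9 p)) (tPerm.get 9 (img g p))

theorem tEq_ok : tEq 0 20 = true ∧ tEq 2 21 = true ∧ tEq 10 12 = true ∧ tEq 11 13 = true := by
  decide +kernel

theorem Q_conj {g g' : ℕ} (hg : g < 24) (hg' : g' < 24) (h : tEq g g' = true) :
    tau * Q (elH g) * tau⁻¹ = Q (elH g') := by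
  rw [mul_inv_eq_iff_eq_mul]
  ext p
  simp only [tEq, List.all_eq_true, Nat.beq_eq] at h
  show tPerm.get 9 (el g p.1 : ℕ) = (el g' ⟨tPerm.get 9 p.1, _⟩ : ℕ)
  rw [el_apply hg, el_apply hg']
  exact (h _ p.2).symm

theorem range_conj : Q.range.map (MulAut.conj tau).toMonoidHom = Q.range := by
  refine Subgroup.eq_of_le_of_card_ge ?_
    (le_of_eq (Subgroup.card_map_of_injective (MulAut.conj tau).injective).symm)
  rintro _ ⟨_, ⟨h, rfl⟩, rfl⟩
  refine gen_induction (P := fun h => (MulAut.conj tau).toMonoidHom (Q h) ∈ Q.range) h ?_ ?_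
    (by simp) (fun a b ha hb => by rw [map_mul, map_mul]; exact mul_mem ha hb)
  · exact ⟨elH 20, (Q_conj (by norm_num) (by norm_num) tEq_ok.1).symm⟩
  · exact ⟨elH 21, (Q_conj (by norm_num) (by norm_num) tEq_ok.2.1).symm⟩

/-- The automorphism. -/
noncomputable def sigma : H ≃* H :=
  ((MonoidHom.ofInjective Q_injective).trans
    (((MulAut.conj tau).subgroupMap Q.range).trans (MulEquiv.subgroupCongr range_conj))).trans
    (MonoidHom.ofInjective Q_injective).symm

theorem Q_sigma (h : H) : Q (sigma h) = tau * Q h * tau⁻¹ := by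
  rw [sigma, MulEquiv.trans_apply, MonoidHom.apply_ofInjective_symm]
  rfl

theorem sigma_el {g g' : ℕ} (hg : g < 24) (hg' : g' < 24) (h : tEq g g' = true) :
    sigma (elH g) = elH g' :=
  Q_injective (by rw [Q_sigma, Q_conj hg hg' h])

theorem L'_eq : L' = L.map sigma.toMonoidHom := by
  rw [L', L, MonoidHom.map_closure, Set.image_pair]
  simp only [MulEquiv.coe_toMonoidHom]
  rw [sigma_el (by norm_num) (by norm_num) tEq_ok.2.2.1,
    sigma_el (by norm_num) (by norm_num) tEq_ok.2.2.2]

theorem card_L' : Nat.card L' = 20160 := by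
  rw [L'_eq, Subgroup.card_map_of_injective sigma.injective, card_L]

end Cfsg.Agent.McL275.Rank
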