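import Cfsg.Agent.Lib.McL275.RankGraph
import Cfsg.Agent.Lib.Leech.U43Stab

/-!
Uniqueness of the McLaughlin group as a rank three permutation group on 275 points.
-/

set_option autoImplicit false
set_option maxRecDepth 100000

namespace Cfsg.Agent.McL275.Rank

open Cfsg MulAction
open scoped Pointwise

theorem permHom_mem {g : Leech.mclGrp} : permHom275 g ∈ grp := permHom275_bij.2 ▸ ⟨g, rfl⟩

theorem permHom_H {g : Leech.mclGrp} : permHom275 g ∈ H ↔ g • point p0 = point p0 := by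
  rw [mem_H, ← point_permHom275]
  exact ⟨fun h => by rw [h.2], fun h => ⟨permHom_mem, point_bijective.1 h⟩⟩

/-- The point stabiliser in the lattice group, on the indices. -/
noncomputable def stabEquiv : stabilizer Leech.mclGrp (point p0) ≃* H :=
  MulEquiv.ofBijective
    ({ toFun := fun g => ⟨permHom275 (g : Leech.mclGrp), permHom_H.2 g.2⟩
       map_one' := Subtype.ext (map_one permHom275)
       map_mul' := fun a b => Subtype.ext (map_mul permHom275 _ _) } :
      stabilizer Leech.mclGrp (point p0) →* H)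
    ⟨fun a b h => Subtype.ext (permHom275_bij.1 (congrArg Subtype.val h)), fun h => by
      obtain ⟨g, hg⟩ : (h : Equiv.Perm (Fin 275)) ∈ permHom275.range := permHom275_bij.2.symm ▸ (mem_H.1 h.2).1
      exact ⟨⟨g, permHom_H.1 (hg.symm ▸ h.2)⟩, Subtype.ext hg⟩⟩

theorem H_equiv_psu (F : Type) [Field F] [Fintype F] (hF : Fintype.card F = 9) :
    Nonempty (H ≃* PSU 4 F 3) := by
  obtain ⟨e⟩ := Leech.U43.stab_iso_PSU43 Leech.baseU_norm Leech.baseV_mem (point p0).2 F hF
  let f : stabilizer Leech.mclGrp (point p0) ≃*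
      ↥(stabilizer Co0 Leech.baseU ⊓ stabilizer Co0 Leech.baseV ⊓
        stabilizer Co0 ((point p0 : Leech.MclPoint) : leechLattice)) :=
    { toFun := fun g => ⟨((g : Leech.mclGrp) : Co0), (g : Leech.mclGrp).2,
        mem_stabilizer_iff.2 (congrArg Subtype.val (mem_stabilizer_iff.1 g.2))⟩
      invFun := fun g => ⟨⟨(g : Co0), g.2.1⟩,
        mem_stabilizer_iff.2 (Subtype.ext (mem_stabilizer_iff.1 g.2.2))⟩
      left_inv := fun _ => rfl
      right_inv := fun _ => rfl
      map_mul' := fun _ _ => rfl }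
  exact ⟨(stabEquiv.symm.trans f).trans e⟩

theorem card_stab_of_orbit {Ω : Type*} {S : Type*} [Group S] [MulAction S Ω] (ψ : H ≃* S) {b : Ω}
    {n m : ℕ} (hn : (orbit S b).ncard = n) (h : n * m = 3265920) :
    Nat.card ((stabilizer S b).comap ψ.toMonoidHom) = m := by
  have h1 : Nat.card ((stabilizer S b).comap ψ.toMonoidHom) = Nat.card (stabilizer S b) :=
    Nat.card_congr (ψ.toEquiv.subtypeEquiv fun _ => Iff.rfl)
  have h2 := (stabilizer S b).index_mul_card
  rw [index_stabilizer, hn, ← Nat.card_congr ψ.toEquiv, card_H, ← h] at h2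
  have hn0 : 0 < n := Nat.pos_of_ne_zero fun h0 => by rw [h0] at h; omega
  rw [h1]
  exact Nat.eq_of_mul_eq_mul_left hn0 h2

theorem exists_point_stab {Ω : Type*} {S : Type*} [Group S] [MulAction S Ω] (ψ : H ≃* S) {b : Ω}
    {q : Fin 275} {k : H} (h : (stabilizer S b).comap ψ.toMonoidHom = cj k (stabilizer H q)) :
    ∃ ω ∈ orbit S b, ∀ x : H, ψ x • ω = ω ↔ x • q = q := by
  refine ⟨ψ k • b, ⟨ψ k, rfl⟩, fun x => ?_⟩
  have h' : ∀ y : H, ψ y • b = b ↔ (k * y * k⁻¹) • q = q := fun y => by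
    have := SetLike.ext_iff.1 h y
    simpa [mem_cj, Subgroup.mem_comap, mem_stabilizer_iff] using this
  have e := h' (k⁻¹ * x * k)
  rw [show k * (k⁻¹ * x * k) * k⁻¹ = x by simp [mul_assoc]] at e
  rw [← e, map_mul, map_mul, map_inv, mul_smul, mul_smul, inv_smul_eq_iff]

/-- The larger orbit can be given the chosen stabiliser after an automorphism. -/
theorem exists_equiv {Ω : Type*} {S : Type*} [Group S] [MulAction S Ω] (φ : H ≃* S) (c : Ω)
    (hc : (orbit S c).ncard = 162) :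
    ∃ ψ : H ≃* S, ∃ ω ∈ orbit S c, ∀ x : H, ψ x • ω = ω ↔ x • q2 = q2 := by
  obtain ⟨h, e | e⟩ := class_o2 (card_stab_of_orbit φ (b := c) hc (m := 20160) (by norm_num))
  · exact ⟨φ, exists_point_stab φ (e.trans (by rw [L_eq]))⟩
  · refine ⟨sigma.trans φ, exists_point_stab (sigma.trans φ) (k := sigma.symm h) ?_⟩
    rw [← L_eq]
    ext x
    have h' := SetLike.ext_iff.1 e (sigma x)
    rw [mem_cj, L'_eq, Subgroup.mem_map_equiv] at h'
    rw [mem_cj]
    simp only [map_mul, map_inv, MulEquiv.symm_apply_apply] at h'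
    exact h'

theorem rank_three_model {Ω : Type*} [Fintype Ω] [DecidableEq Ω] (hΩ : Fintype.card Ω = 275)
    (G : Subgroup (Equiv.Perm Ω)) [IsPretransitive G Ω] (a : Ω) (φ : H ≃* stabilizer G a) (b c : Ω)
    (hb : (orbit (stabilizer G a) b).ncard = 112) (hc : (orbit (stabilizer G a) c).ncard = 162) :
    ∃ G' : Subgroup (Equiv.Perm (Fin 275)), Rk G' ∧ Nonempty (G ≃* G') := by
  classical
  obtain ⟨ψ, w2, hw2m, hw2⟩ := exists_equiv φ c hc
  obtain ⟨x1, hx1, e1⟩ := class_o1 (card_stab_of_orbit ψ (b := b) hb (m := 29160) (by norm_num))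
  obtain ⟨k, rfl⟩ := exists_o1 hx1
  obtain ⟨w1, hw1m, hw1⟩ := exists_point_stab ψ (b := b) (q := q1) (k := k⁻¹) (e1.trans (by
    rw [cj_stab, inv_inv]))
  let act : H → Ω → Ω := fun h ω => ψ h • ω
  have hsame : ∀ (q : Fin 275) (w : Ω), (∀ x : H, ψ x • w = w ↔ x • q = q) →
      ∀ h1 h2 : H, h1 • q = h2 • q ↔ ψ h1 • w = ψ h2 • w := by
    intro q w hw h1 h2
    rw [← inv_smul_eq_iff, ← mul_smul, ← hw, map_mul, map_inv, mul_smul, inv_smul_eq_iff]
  let π : Fin 275 → Ω := fun p =>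
    if h1 : (p : ℕ) ∈ o1 then ψ (exists_o1 h1).choose • w1
    else if h2 : (p : ℕ) ∈ o2 then ψ (exists_o2 h2).choose • w2 else a
  have πa : π p0 = a := by simp only [π, dif_neg p0_not_o1, dif_neg p0_not_o2]
  have π1 : ∀ h : H, π (h • q1) = ψ h • w1 := fun h => by
    have hm : ((h • q1 : Fin 275) : ℕ) ∈ o1 := pres_o1 h.2 q1_mem
    simp only [π, dif_pos hm]
    exact (hsame q1 w1 hw1 _ h).1 (exists_o1 hm).choose_spec
  have π2 : ∀ h : H, π (h • q2) = ψ h • w2 := fun h => by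
    have hm : ((h • q2 : Fin 275) : ℕ) ∈ o2 := pres_o2 h.2 q2_mem
    have hn : ((h • q2 : Fin 275) : ℕ) ∉ o1 := fun h' => not_o2_of_o1 h' hm
    simp only [π, dif_neg hn, dif_pos hm]
    exact (hsame q2 w2 hw2 _ h).1 (exists_o2 hm).choose_spec
  have hfixa : ∀ s : stabilizer G a, s • a = a := fun s => mem_stabilizer_iff.1 s.2
  have hequiv : ∀ (h : H) (p : Fin 275), π (h • p) = ψ h • π p := by
    intro h p
    rcases part p with rfl | hp | hp
    · rw [show h • p0 = p0 from (mem_H.1 h.2).2, πa, hfixa]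
    · obtain ⟨g, rfl⟩ := exists_o1 hp
      rw [← mul_smul, π1, π1, map_mul, mul_smul]
    · obtain ⟨g, rfl⟩ := exists_o2 hp
      rw [← mul_smul, π2, π2, map_mul, mul_smul]
  have ob1 : orbit (stabilizer G a) w1 = orbit (stabilizer G a) b := orbit_eq_iff.2 hw1m
  have ob2 : orbit (stabilizer G a) w2 = orbit (stabilizer G a) c := orbit_eq_iff.2 hw2m
  have oba : (orbit (stabilizer G a) a).ncard = 1 := by
    refine Set.ncard_eq_one.2 ⟨a, Set.eq_singleton_iff_unique_mem.2 ⟨mem_orbit_self a, ?_⟩⟩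
    rintro _ ⟨s, rfl⟩
    exact hfixa s
  have hne : ∀ {u v : Ω}, (orbit (stabilizer G a) u).ncard ≠ (orbit (stabilizer G a) v).ncard →
      ∀ s t : stabilizer G a, s • u ≠ t • v := fun {u v} hn s t h =>
    hn (by rw [← orbit_smul s u, h, orbit_smul])
  have hinj : Function.Injective π := by
    intro p p' h
    rcases part p with rfl | hp | hp <;> rcases part p' with rfl | hp' | hp'
    · rfl
    · obtain ⟨g, rfl⟩ := exists_o1 hp'
      rw [πa, π1] at h
      exact absurd ((hfixa 1).trans h) (hne (by rw [oba, ob1, hb]; norm_num) _ _)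
    · obtain ⟨g, rfl⟩ := exists_o2 hp'
      rw [πa, π2] at h
      exact absurd ((hfixa 1).trans h) (hne (by rw [oba, ob2, hc]; norm_num) _ _)
    · obtain ⟨g, rfl⟩ := exists_o1 hp
      rw [πa, π1] at h
      exact absurd (h.trans (hfixa 1).symm) (hne (by rw [oba, ob1, hb]; norm_num) _ _)
    · obtain ⟨g, rfl⟩ := exists_o1 hp
      obtain ⟨g', rfl⟩ := exists_o1 hp'
      rw [π1, π1] at h
      exact (hsame q1 w1 hw1 g g').2 h
    · obtain ⟨g, rfl⟩ := exists_o1 hp
      obtain ⟨g', rfl⟩ := exists_o2 hp'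
      rw [π1, π2] at h
      exact absurd h (hne (by rw [ob1, ob2, hb, hc]; norm_num) _ _)
    · obtain ⟨g, rfl⟩ := exists_o2 hp
      rw [πa, π2] at h
      exact absurd (h.trans (hfixa 1).symm) (hne (by rw [oba, ob2, hc]; norm_num) _ _)
    · obtain ⟨g, rfl⟩ := exists_o2 hp
      obtain ⟨g', rfl⟩ := exists_o1 hp'
      rw [π1, π2] at h
      exact absurd h (hne (by rw [ob1, ob2, hb, hc]; norm_num) _ _)
    · obtain ⟨g, rfl⟩ := exists_o2 hp
      obtain ⟨g', rfl⟩ := exists_o2 hp'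
      rw [π2, π2] at h
      exact (hsame q2 w2 hw2 g g').2 h
  let πe : Fin 275 ≃ Ω := Equiv.ofBijective π
    ((Fintype.bijective_iff_injective_and_card π).2 ⟨hinj, by rw [Fintype.card_fin, hΩ]⟩)
  let T : Equiv.Perm Ω ≃* Equiv.Perm (Fin 275) := πe.symm.permCongrHom
  have hT : ∀ (σ : Equiv.Perm Ω) (p : Fin 275), πe (T σ p) = σ (πe p) := fun σ p => by
    show πe (πe.symm (σ (πe p))) = _
    rw [Equiv.apply_symm_apply]
  have hψ : ∀ h : H, T (((ψ h : stabilizer G a) : G) : Equiv.Perm Ω) = (h : Equiv.Perm (Fin 275)) :=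
    fun h => Equiv.ext fun p => πe.injective (by rw [hT]; exact (hequiv h p).symm)
  refine ⟨G.map T.toMonoidHom, ⟨?_, ?_, ?_⟩, ⟨T.subgroupMap G⟩⟩
  · intro h hh
    exact ⟨_, ((ψ ⟨h, hh⟩ : stabilizer G a) : G).2, hψ ⟨h, hh⟩⟩
  · intro v
    obtain ⟨g, hg⟩ := exists_smul_eq G a (πe v)
    refine ⟨T g, Subgroup.mem_map_of_mem _ g.2, πe.injective ?_⟩
    rw [hT, show πe p0 = a from πa]
    exact hg
  · rintro _ ⟨g, hg, rfl⟩ e
    have hga : g a = a := by
      have := congrArg πe e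
      rw [show T.toMonoidHom g = T g from rfl, hT, show πe p0 = a from πa] at this
      exact this
    obtain ⟨h, hh⟩ := ψ.surjective ⟨⟨g, hg⟩, mem_stabilizer_iff.2 hga⟩
    have := hψ h
    rw [hh] at this
    exact (show T.toMonoidHom g = (h : Equiv.Perm (Fin 275)) from this) ▸ h.2

theorem isoMcL_of_rank_three {Ω : Type*} [Fintype Ω] [DecidableEq Ω] (hΩ : Fintype.card Ω = 275)
    (G : Subgroup (Equiv.Perm Ω)) [IsPretransitive G Ω] (a : Ω) (K : Type) [Field K] [Fintype K]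
    (hK : Fintype.card K = 9) (e : stabilizer G a ≃* PSU 4 K 3) (b c : Ω)
    (hb : (orbit (stabilizer G a) b).ncard = 112) (hc : (orbit (stabilizer G a) c).ncard = 162) :
    Spor.IsoMcL G := by
  obtain ⟨f⟩ := H_equiv_psu K hK
  obtain ⟨G', hG', ⟨t⟩⟩ := rank_three_model hΩ G a (f.trans e.symm) b c hb hc
  obtain ⟨u⟩ := mulEquiv_grp hG'
  obtain ⟨m⟩ := mcl_equiv_grp
  exact ⟨(t.trans u).trans m.symm⟩

end Cfsg.Agent.McL275.Rank
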